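import Mathlib
import Cfsg.Prelude.Def_Blocks
import Cfsg.Prelude.Def_CharExt
import Cfsg.Agent.Characters.GaloisBasic
import Cfsg.Agent.Characters.GaloisIrr
import Cfsg.Agent.CharactersDeep.ExtUnique
import Cfsg.Agent.Blocks.Basic

/-!
# `p`-rational characters

* `mem_adjoin_of_forall` : an algebraic number fixed by all field automorphisms of `ℂ` that fix
  `ζ` lies in `ℚ(ζ)`.
* `fix_adjoin` : the converse.
* `pow_ordCompl_eq_one` : for `p` odd, a root of unity in a field `ℚ(ζ_n)` with `p ∤ n` has order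
  prime to `p`.
* `detChar_pow_eq_one` : the determinantal character of a `p`-rational irreducible character has
  order prime to `p`, `p` odd.
-/

set_option autoImplicit false

open Cfsg

namespace Cfsg.Agent.H700.PRat

open Cfsg.Agent.Characters.GaloisBasic

/-- the standard root of unity -/
noncomputable abbrev zet (n : ℕ) : ℂ := Complex.exp (2 * Real.pi * Complex.I / n)

theorem zet_prim {n : ℕ} (hn : n ≠ 0) : IsPrimitiveRoot (zet n) n := Complex.isPrimitiveRoot_exp n hn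

/-- A ring automorphism fixing an `r`-th root of unity fixes the field it generates. -/
theorem fix_adjoin {z : ℂ} (σ : ℂ ≃+* ℂ) (hz : σ z = z) {x : ℂ}
    (hx : x ∈ IntermediateField.adjoin ℚ ({z} : Set ℂ)) : σ x = x := by
  let f : ℂ →ₐ[ℚ] ℂ :=
    { (σ : ℂ →+* ℂ) with
      commutes' := fun q => by
        show σ (algebraMap ℚ ℂ q) = algebraMap ℚ ℂ q
        simp }
  have h1 : IntermediateField.adjoin ℚ ({z} : Set ℂ) ≤
      (AlgHom.equalizer f (AlgHom.id ℚ ℂ)).toIntermediateField (by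
        intro x hx
        rw [AlgHom.mem_equalizer] at hx ⊢
        rw [map_inv₀, map_inv₀, hx]) := by
    rw [IntermediateField.adjoin_le_iff]
    intro y hy
    rw [Set.mem_singleton_iff] at hy
    subst hy
    exact hz
  exact h1 hx

/-- Galois theory inside `ℂ`. -/
theorem mem_adjoin_of_forall {z w : ℂ} (hw : IsIntegral ℚ w)
    (h : ∀ σ : ℂ ≃+* ℂ, σ z = z → σ w = w) : w ∈ IntermediateField.adjoin ℚ ({z} : Set ℂ) := by
  let F := IntermediateField.adjoin ℚ ({z} : Set ℂ)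
  let K := algebraicClosure F ℂ
  have hwK : w ∈ K := mem_algebraicClosure_iff.2 (hw.isAlgebraic.tower_top F)
  have : IsAlgClosure F K := algebraicClosure.isAlgClosure F ℂ
  have : Normal F K := IsAlgClosure.normal F K
  have : IsGalois F K := ⟨⟩
  have h1 : (⟨w, hwK⟩ : K) ∈ (⊥ : IntermediateField F K) := by
    rw [InfiniteGalois.mem_bot_iff_fixed]
    intro f
    obtain ⟨τ, hτ⟩ := exists_ringEquiv_extend (K := K) f.toRingEquiv
    apply (algebraMap K ℂ).injective
    have h2 := hτ ⟨w, hwK⟩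
    have hzF : z ∈ F := IntermediateField.subset_adjoin ℚ _ (Set.mem_singleton z)
    have h4 : τ z = z := by
      have h5 := hτ (algebraMap F K ⟨z, hzF⟩)
      have h6 : f.toRingEquiv (algebraMap F K ⟨z, hzF⟩) = algebraMap F K ⟨z, hzF⟩ := f.commutes _
      rw [h6] at h5
      exact h5
    have h3 := h τ h4
    exact h2.symm.trans h3
  obtain ⟨c, hc⟩ := IntermediateField.mem_bot.1 h1
  have h7 := congrArg (algebraMap K ℂ) hc
  have h8 : (c : ℂ) = w := h7
  rw [← h8]
  exact c.2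

/-- An automorphism fixing `ζ_n` fixes all `n`-th roots of unity. -/
theorem fix_root {n : ℕ} (hn : n ≠ 0) (σ : ℂ ≃+* ℂ) (hσ : σ (zet n) = zet n) {m : ℕ} (hm : m ∣ n)
    {x : ℂ} (hx : x ^ m = 1) : σ x = x := by
  have : NeZero n := ⟨hn⟩
  have hx' : x ^ n = 1 := by
    obtain ⟨k, rfl⟩ := hm
    rw [pow_mul, hx, one_pow]
  obtain ⟨i, -, rfl⟩ := (zet_prim hn).eq_pow_of_pow_eq_one hx'
  rw [map_pow, hσ]

theorem pow_congr {x : ℂ} {n a b : ℕ} (hx : x ^ n = 1) (h : a ≡ b [MOD n]) : x ^ a = x ^ b := by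
  rw [pow_eq_pow_mod a hx, pow_eq_pow_mod b hx]
  exact congrArg _ h

/-- For `p` odd, a root of unity fixed by all automorphisms that fix `ζ_n`, `p ∤ n`, has order
prime to `p`. -/
theorem pow_ordCompl_eq_one {p : ℕ} (hp : p.Prime) (hp2 : p ≠ 2) {n : ℕ} (hn : ¬ p ∣ n) {N : ℕ}
    (hN : N ≠ 0) {x : ℂ} (hx : x ^ N = 1)
    (h : ∀ σ : ℂ ≃+* ℂ, σ (zet n) = zet n → σ x = x) : x ^ (N / p ^ N.factorization p) = 1 := by
  set a := N.factorization p with ha
  set u := N / p ^ a with hu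
  have hau : p ^ a * u = N := Nat.ordProj_mul_ordCompl_eq_self N p
  have hpu : ¬ p ∣ u := Nat.not_dvd_ordCompl hp hN
  have hn0 : n ≠ 0 := fun h0 => hn (h0 ▸ dvd_zero p)
  have hu0 : u ≠ 0 := fun h0 => hpu (h0 ▸ dvd_zero p)
  have hcop : (p ^ a).Coprime (n * u) := by
    apply Nat.Coprime.pow_left
    rw [Nat.Prime.coprime_iff_not_dvd hp, hp.dvd_mul]
    rintro (h1 | h1)
    · exact hn h1
    · exact hpu h1
  obtain ⟨m, hm1, hm2⟩ := Nat.chineseRemainder hcop 2 1
  have hmc : m.Coprime (p ^ a * (n * u)) := by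
    apply Nat.Coprime.mul_right
    · have h1 := hm1.gcd_eq
      rw [Nat.Coprime, h1]
      apply Nat.Coprime.pow_right
      rw [Nat.coprime_comm, Nat.Prime.coprime_iff_not_dvd hp]
      intro h2
      exact hp2 ((Nat.prime_dvd_prime_iff_eq hp Nat.prime_two).1 h2)
    · have h1 := hm2.gcd_eq
      rw [Nat.Coprime, h1, Nat.gcd_one_left]
  have hne : p ^ a * (n * u) ≠ 0 := mul_ne_zero (pow_ne_zero _ hp.ne_zero) (mul_ne_zero hn0 hu0)
  obtain ⟨τ, hτ⟩ := exists_ringEquiv_pow hne hmc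
  have hτn : τ (zet n) = zet n := by
    rw [hτ _ (by
      rw [show p ^ a * (n * u) = n * (p ^ a * u) by ring, pow_mul, (zet_prim hn0).pow_eq_one,
        one_pow])]
    rw [pow_congr (zet_prim hn0).pow_eq_one (hm2.of_mul_right u), pow_one]
  have h1 := h τ hτn
  rw [hτ x (by rw [show p ^ a * (n * u) = p ^ a * u * n by ring, hau, pow_mul, hx, one_pow])] at h1
  have h2 : (x ^ u) ^ m = x ^ u := by rw [← pow_mul, mul_comm, pow_mul, h1]
  have h3 : (x ^ u) ^ (p ^ a) = 1 := by rw [← pow_mul, mul_comm, hau, hx]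
  have h4 : (x ^ u) ^ m = (x ^ u) ^ 2 := pow_congr h3 hm1
  have h5 : (x ^ u) ^ 2 = x ^ u := by rw [← h4, h2]
  have h6 : x ^ u ≠ 0 := by
    intro h0
    rw [h0, zero_pow (pow_ne_zero _ hp.ne_zero)] at h3
    exact zero_ne_one h3
  have h7 : x ^ u * x ^ u = x ^ u * 1 := by rw [← sq, h5, mul_one]
  exact mul_left_cancel₀ h6 h7

/-- The determinantal character of a Galois conjugate. -/
theorem detChar_map {H : Type*} [Group H] [Finite H] (σ : ℂ ≃+* ℂ) {χ : H → ℂ}
    (hχ : IsIrrCharacter H χ) (g : H) : detChar (fun x => σ (χ x)) g = σ (detChar χ g) := by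
  obtain ⟨n, ρ, hρ, rfl⟩ := hχ
  rw [CharactersDeep.ExtUnique.detChar_of_rep ρ hρ]
  have h1 : (twist σ ρ).character = fun x => σ (ρ.character x) :=
    funext fun x => twist_character σ ρ x
  have h2 : IsIrrCharacter H (fun x => σ (ρ.character x)) :=
    Characters.GaloisIrr.isIrr_map σ ⟨n, ρ, hρ, rfl⟩
  -- the twist is irreducible
  obtain ⟨m, ρ', hρ', hc⟩ := h2
  have hdim : ρ'.character = (twist σ ρ).character := by rw [hc, h1]
  obtain ⟨T, hT⟩ := CharactersDeep.ExtUnique.exists_linearEquiv_of_character_eq ρ' (twist σ ρ) hρ'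
    hdim
  rw [← hc, CharactersDeep.ExtUnique.detChar_of_rep ρ' hρ']
  have e2 : (twist σ ρ) g = T.conj (ρ' g) := by
    refine LinearMap.ext fun v => ?_
    obtain ⟨w, rfl⟩ := T.surjective v
    rw [← hT]
    simp
  have e3 : LinearMap.det ((twist σ ρ) g) = LinearMap.det (ρ' g) := by
    rw [e2, LinearEquiv.conj_apply, LinearMap.comp_assoc]
    exact LinearMap.det_conj _ _
  show LinearMap.det (ρ' g) = σ (LinearMap.det (ρ g))
  rw [← e3]
  show LinearMap.det (Matrix.toLin' ((LinearMap.toMatrix' (ρ g)).map σ)) = _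
  rw [LinearMap.det_toLin', ← LinearMap.det_toMatrix']
  exact (RingHom.map_det (σ : ℂ →+* ℂ) _).symm

/-- **The determinantal character of a `p`-rational character has order prime to `p`** (`p`
odd). -/
theorem detChar_pow_eq_one {p : ℕ} (hp : p.Prime) (hp2 : p ≠ 2) {H : Type*} [Group H] [Finite H]
    {χ : H → ℂ} (hχ : IsIrrCharacter H χ) {n : ℕ} (hn : ¬ p ∣ n)
    (hrat : ∀ g : H, χ g ∈ IntermediateField.adjoin ℚ ({zet n} : Set ℂ)) (g : H) :
    detChar χ g ^ (Nat.card H / p ^ (Nat.card H).factorization p) = 1 := by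
  obtain ⟨δ, hδ⟩ := CharactersDeep.ExtUnique.exists_hom_detChar hχ
  refine pow_ordCompl_eq_one hp hp2 hn Nat.card_pos.ne' ?_ ?_
  · rw [hδ, ← Units.val_pow_eq_pow_val, ← map_pow, pow_card_eq_one', map_one, Units.val_one]
  · intro σ hσ
    rw [← detChar_map σ hχ]
    have h1 : (fun x => σ (χ x)) = χ := funext fun x => fix_adjoin σ hσ (hrat x)
    rw [h1]

end Cfsg.Agent.H700.PRat
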