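import Mathlib
import Cfsg.Agent.CharDeep.TransferExt

/-!
# Stable linear characters extend

`exists_hom_of_stable`: a homomorphism `ν : S →* A` to a commutative group, of exponent `m` prime
to the index of `S`, which is stable under fusion in `G`, extends to `G`.
-/

set_option autoImplicit false

namespace Cfsg.Agent.H700.StableHom

open Subgroup MulAction Function

variable {G A : Type*} [Group G] [CommGroup A]

theorem transfer_eq_pow_of_stable (S : Subgroup G) [S.FiniteIndex] (ν : S →* A)
    (hst : ∀ (s t : S) (g : G), g * s * g⁻¹ = t → ν t = ν s) (s : S) :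
    MonoidHom.transfer ν (s : G) = ν s ^ S.index := by
  classical
  let _ := S.fintypeQuotientOfFiniteIndex
  rw [MonoidHom.transfer_eq_prod_quotient_orbitRel_zpowers_quot]
  have key : ∀ q : Quotient (orbitRel (zpowers (s : G)) (G ⧸ S)),
      ν ⟨q.out.out⁻¹ * (s : G) ^ Function.minimalPeriod ((s : G) • ·) q.out * q.out.out,
        QuotientGroup.out_conj_pow_minimalPeriod_mem S (s : G) q.out⟩ =
      ν s ^ Function.minimalPeriod ((s : G) • ·) q.out := by
    intro q
    rw [← map_pow]
    apply hst (s ^ Function.minimalPeriod ((s : G) • ·) q.out) _ (q.out.out⁻¹)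
    simp
  rw [Finset.prod_congr rfl (fun q _ => key q), Finset.prod_pow_eq_pow_sum]
  rw [index_eq_sum_minimalPeriod S (s : G)]

theorem exists_hom_of_stable (S : Subgroup G) [S.FiniteIndex] (ν : S →* A) (m : ℕ)
    (hm : ∀ s, ν s ^ m = 1) (hcop : Nat.Coprime S.index m)
    (hst : ∀ (s t : S) (g : G), g * s * g⁻¹ = t → ν t = ν s) :
    ∃ l : G →* A, (∀ s : S, l s = ν s) ∧ ∀ g, l g ^ m = 1 := by
  have hb := Nat.gcd_eq_gcd_ab S.index m
  rw [Nat.Coprime] at hcop
  rw [hcop] at hb
  set a := Nat.gcdA S.index m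
  set b := Nat.gcdB S.index m
  refine ⟨{ toFun := fun g => MonoidHom.transfer ν g ^ a, map_one' := by simp, 
            map_mul' := fun g h => by rw [map_mul, mul_zpow] }, ?_, ?_⟩
  · intro n
    show MonoidHom.transfer ν n ^ a = ν n
    rw [transfer_eq_pow_of_stable S ν hst, ← zpow_natCast, ← zpow_mul]
    have h1 : (S.index : ℤ) * a = 1 - m * b := by push_cast at hb; linarith
    rw [h1, zpow_sub, zpow_one, zpow_mul, zpow_natCast]
    simp [hm]
  · intro g
    show (MonoidHom.transfer ν g ^ a) ^ m = 1
    rw [← zpow_natCast, ← zpow_mul, mul_comm, zpow_mul, zpow_natCast,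
      Cfsg.Agent.CharDeep.TransferExt.transfer_pow_eq_one ν m hm, one_zpow]

end Cfsg.Agent.H700.StableHom
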