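import Mathlib
import Cfsg.Agent.H700.PrinCrit
import Cfsg.Agent.H700.PrinExt
import Cfsg.Agent.H700.PRat
import Cfsg.Agent.H700.StableHom
import Cfsg.Agent.S0888
import Cfsg.Agent.S0867
import Cfsg.Agent.CharactersDeep.MaxInduced
import Cfsg.Agent.Blocks.PRegular

/-!
# `p`-rational extensions in the principal block (towards S4892)
-/

set_option autoImplicit false

open Cfsg
open scoped Pointwise

namespace Cfsg.Agent.H700.PRatExt

open Blocks.Basic Blocks.Local PrinCrit PrinExt PRat StableHom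

universe u

section Group

variable {G : Type u} [Group G]

/-- Frattini argument, for centralizers of a Sylow subgroup of a normal subgroup. -/
theorem frattini [Finite G] {p : ℕ} [Fact p.Prime] (N : Subgroup G) [hN : N.Normal] (Q : Sylow p N)
    (g : G) : ∃ m ∈ N, ∀ x ∈ Subgroup.centralizer (((Q : Subgroup N).map N.subtype : Subgroup G) : Set G),
      m⁻¹ * (g * x * g⁻¹) * m ∈
        Subgroup.centralizer (((Q : Subgroup N).map N.subtype : Subgroup G) : Set G) := by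
  obtain ⟨m, hm⟩ := MulAction.exists_smul_eq N Q ((MulAut.conjNormal (H := N) g : MulAut N) • Q)
  refine ⟨m, m.2, fun x hx => ?_⟩
  rw [Subgroup.mem_centralizer_iff] at hx ⊢
  rintro _ ⟨y, hy, rfl⟩
  -- `m y m⁻¹` is in `m • Q = g • Q`
  have h1 : m * y * m⁻¹ ∈ ((m • Q : Sylow p N) : Subgroup N) := by
    rw [Sylow.smul_def]
    change m * y * m⁻¹ ∈ (MulAut.conj m • (Q : Subgroup N) : Subgroup N)
    rw [Subgroup.mem_smul_pointwise_iff_exists]
    exact ⟨y, hy, rfl⟩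
  rw [hm] at h1
  have h2 : m * y * m⁻¹ ∈ ((MulAut.conjNormal (H := N) g : MulAut N) • (Q : Subgroup N) :
    Subgroup N) := h1
  rw [Subgroup.mem_smul_pointwise_iff_exists] at h2
  obtain ⟨z, hz, hzy⟩ := h2
  have h3 : g * (z : G) * g⁻¹ = (m : G) * (y : G) * (m : G)⁻¹ := by
    have := congrArg (fun n : N => (n : G)) hzy
    exact this
  have h4 := hx (z : G) ⟨z, hz, rfl⟩
  show (y : G) * _ = _ * (y : G)
  have h5 : (y : G) = (m : G)⁻¹ * (g * (z : G) * g⁻¹) * m := by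
    rw [h3]; group
  rw [h5]
  calc (m : G)⁻¹ * (g * (z : G) * g⁻¹) * m * ((m : G)⁻¹ * (g * x * g⁻¹) * m)
      = (m : G)⁻¹ * g * ((z : G) * x) * g⁻¹ * m := by group
    _ = (m : G)⁻¹ * g * (x * (z : G)) * g⁻¹ * m := by rw [h4]
    _ = _ := by group

/-- Elements of a subgroup between `N` and `N C`. -/
theorem decomp {N C R : Subgroup G} [hN : N.Normal] (hNR : N ≤ R) (hR : R ≤ N ⊔ C) {r : G}
    (hr : r ∈ R) : ∃ n ∈ N, ∃ c ∈ C, c ∈ R ∧ n * c = r := by
  obtain ⟨n, hn, c, hc, rfl⟩ := Subgroup.mem_sup_of_normal_left.1 (hR hr)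
  exact ⟨n, hn, c, hc, (Subgroup.mul_mem_cancel_left R (hNR hn)).1 hr, rfl⟩

/-- A Sylow `q`-subgroup of `G` inside a subgroup of index prime to `q`. -/
theorem exists_sylow_le [Finite G] {q : ℕ} [Fact q.Prime] (K : Subgroup G) (hK : ¬ q ∣ K.index) :
    ∃ S : Sylow q G, (S : Subgroup G) ≤ K := by
  let S : Sylow q K := default
  let T : Subgroup G := (S : Subgroup K).map K.subtype
  have hT : IsPGroup q T := S.2.map _
  have hTi : ¬ q ∣ T.index := by
    have h1 : T.index = (S : Subgroup K).index * K.index := by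
      rw [Subgroup.index_map_subtype]
    rw [h1, (Fact.out : q.Prime).dvd_mul]
    rintro (h | h)
    · exact S.not_dvd_index h
    · exact hK h
  refine ⟨hT.toSylow hTi, ?_⟩
  rintro _ ⟨x, -, rfl⟩
  exact x.2

/-- `|N S : N|` is a power of `q` for a `q`-group `S`. -/
theorem relIndex_sup_pow [Finite G] {q : ℕ} [Fact q.Prime] (N S : Subgroup G) [hN : N.Normal]
    (hS : IsPGroup q S) : ∃ k, N.relIndex (N ⊔ S) = q ^ k := by
  have h1 : N.relIndex (N ⊔ S) = N.relIndex S := by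
    rw [sup_comm]; exact Subgroup.relIndex_sup_right S N
  rw [h1]
  obtain ⟨n, hn⟩ := IsPGroup.iff_card.1 hS
  have h2 : N.relIndex S ∣ q ^ n := by
    rw [← hn]
    exact Subgroup.relIndex_dvd_card N S
  obtain ⟨k, -, hk⟩ := (Nat.dvd_prime_pow Fact.out).1 h2
  exact ⟨k, hk⟩

end Group

section Chars

variable {G : Type u} [Group G] [Finite G] {p : ℕ} [Fact p.Prime] {M : Ideal AlgInt}

theorem root_integral {b : ℂ} {m : ℕ} (hm : m ≠ 0) (hb : b ^ m = 1) : IsIntegral ℤ b := by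
  refine ⟨Polynomial.X ^ m - 1, Polynomial.monic_X_pow_sub_C 1 hm, ?_⟩
  simp [hb]

omit [Fact p.Prime] in
theorem unit_cancel (hM : IsPModular p M) {d : ℕ} (hd : ¬ p ∣ d) {c : ℂ} (hcR : MemLocalRing M c)
    (hc : MemLocalIdeal M (c - d)) {b : ℂ} {m : ℕ} (hm : ¬ p ∣ m) (hb : b ^ m = 1)
    (h : MemLocalIdeal M (c * b - d)) : b = 1 := by
  have hMp : M.IsPrime := isPrime_of_isPModular hM
  have d3 : MemLocalIdeal M (c * (b - 1)) := by
    have := memLocalIdeal_sub h hc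
    rwa [show c * b - d - (c - d) = c * (b - 1) by ring] at this
  have hm0 : m ≠ 0 := fun h0 => hm (h0 ▸ dvd_zero p)
  have hβR : MemLocalRing M (b - 1) :=
    memLocalRing_sub (memLocalRing_of_isIntegral (root_integral hm0 hb)) memLocalRing_one
  rcases memLocalIdeal_or_of_mul hcR hβR d3 with d4 | d4
  · exfalso
    have d5 : MemLocalIdeal M (d : ℂ) := by
      have := memLocalIdeal_sub d4 hc
      rwa [sub_sub_cancel] at this
    rw [memLocalIdeal_natCast_iff hM] at d5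
    exact hd d5
  · exact eq_one_of_sub_mem hM hm hb d4

omit [Finite G] in
/-- restriction of the data to a subgroup between `N` and `N C(Q)` of index prime to `p` over
`N`. -/
theorem sub_data (N : Subgroup G) [hN : N.Normal] (Q : Subgroup G) (hQ : IsPGroup p Q)
    (hQN : Q ≤ N) (hQi : ¬ p ∣ Q.relIndex N) {R : Subgroup G} (hNR : N ≤ R)
    (hRi : ¬ p ∣ N.relIndex R) (hRK : R ≤ N ⊔ Subgroup.centralizer (Q : Set G)) :
    IsPGroup p (Q.subgroupOf R) ∧ ¬ p ∣ (Q.subgroupOf R).index ∧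
      Q.subgroupOf R ≤ N.subgroupOf R ∧
      ∀ g : R, ∃ x ∈ Subgroup.centralizer ((Q.subgroupOf R : Subgroup R) : Set R),
        g⁻¹ * x ∈ N.subgroupOf R := by
  refine ⟨hQ.comap_subtype, ?_, Subgroup.comap_mono hQN, ?_⟩
  · intro h
    have h1 : Q.relIndex N * N.relIndex R = Q.relIndex R := Subgroup.relIndex_mul_relIndex Q N R hQN hNR
    have h2 : p ∣ Q.relIndex R := h
    rw [← h1, (Fact.out : p.Prime).dvd_mul] at h2
    exact h2.elim hQi hRi
  · intro g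
    obtain ⟨n, hn, c, hc, hcR, hg⟩ := decomp hNR hRK g.2
    refine ⟨⟨c, hcR⟩, ?_, ?_⟩
    · rw [Subgroup.mem_centralizer_iff]
      intro y hy
      apply Subtype.ext
      exact Subgroup.mem_centralizer_iff.1 hc (y : G) hy
    · show (g : G)⁻¹ * c ∈ N
      rw [← hg]
      have := hN.conj_mem n⁻¹ (N.inv_mem hn) c⁻¹
      rw [inv_inv] at this
      rwa [mul_inv_rev]

/-- transport of the character of `N` to `N.subgroupOf R`. -/
noncomputable def up (N : Subgroup G) (θ : IrrCharacter N) {R : Subgroup G} (hNR : N ≤ R) :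
    IrrCharacter (N.subgroupOf R) := mapIrr (Subgroup.subgroupOfEquivOfLe hNR) θ

omit [Finite G] in
theorem up_apply (N : Subgroup G) (θ : IrrCharacter N) {R : Subgroup G} (hNR : N ≤ R)
    (x : N.subgroupOf R) :
    (up N θ hNR : N.subgroupOf R → ℂ) x = (θ : N → ℂ) ⟨((x : R) : G), x.2⟩ := rfl

omit [Finite G] in
theorem up_inv (N : Subgroup G) [hN : N.Normal] (θ : IrrCharacter N)
    (hinv : ∀ (g : G) (n : N), (θ : N → ℂ) ⟨g * n * g⁻¹, hN.conj_mem n n.2 g⟩ = (θ : N → ℂ) n)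
    {R : Subgroup G} (hNR : N ≤ R) [hNRn : (N.subgroupOf R).Normal] (g : R)
    (n : N.subgroupOf R) :
    (up N θ hNR : N.subgroupOf R → ℂ) ⟨g * n * g⁻¹, hNRn.conj_mem n n.2 g⟩ =
      (up N θ hNR : N.subgroupOf R → ℂ) n := by
  rw [up_apply, up_apply]
  exact hinv (g : G) ⟨((n : R) : G), n.2⟩

omit [Finite G] in
theorem up_degree (N : Subgroup G) (θ : IrrCharacter N) {R : Subgroup G} (hNR : N ≤ R) :
    charDegree (up N θ hNR : N.subgroupOf R → ℂ) = charDegree (θ : N → ℂ) :=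
  charDegree_mapIrr _ _

/-- The Sylow `q`-subgroups, `q ≠ p`. -/
theorem exists_sylow_ext (hM : IsPModular p M) (N : Subgroup G) [hN : N.Normal] (Q : Subgroup G)
    (hQ : IsPGroup p Q) (hQN : Q ≤ N) (hQi : ¬ p ∣ Q.relIndex N) (θ : IrrCharacter N)
    (hθ : θ ∈ principalBlock M N) (hd : ¬ p ∣ charDegree (θ : N → ℂ))
    (hinv : ∀ (g : G) (n : N), (θ : N → ℂ) ⟨g * n * g⁻¹, hN.conj_mem n n.2 g⟩ = (θ : N → ℂ) n)
    {a : ℕ} (hidx : (N ⊔ Subgroup.centralizer (Q : Set G)).index = p ^ a)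
    {q : ℕ} [Fact q.Prime] (hqp : q ≠ p) :
    ∃ (S : Sylow q G) (R : Subgroup G) (hNR : N ≤ R) (χ : IrrCharacter R),
      (S : Subgroup G) ≤ R ∧ (∃ k, N.relIndex R = q ^ k) ∧
      R ≤ N ⊔ Subgroup.centralizer (Q : Set G) ∧
      (∀ n : N, (χ : R → ℂ) ⟨n, hNR n.2⟩ = (θ : N → ℂ) n) ∧
      ∀ x : R, (x : G) ∈ Subgroup.centralizer (Q : Set G) →
        MemLocalIdeal M ((χ : R → ℂ) x - (χ : R → ℂ) 1) := by
  have hp : p.Prime := Fact.out
  have hq : q.Prime := Fact.out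
  have hK : ¬ q ∣ (N ⊔ Subgroup.centralizer (Q : Set G)).index := by
    rw [hidx]
    intro h
    exact hqp ((Nat.prime_dvd_prime_iff_eq hq hp).1 (hq.dvd_of_dvd_pow h))
  obtain ⟨S, hS⟩ := exists_sylow_le (q := q) _ hK
  have hNR : N ≤ N ⊔ (S : Subgroup G) := le_sup_left
  obtain ⟨k, hk⟩ := relIndex_sup_pow N (S : Subgroup G) S.2
  have hpk : ¬ p ∣ N.relIndex (N ⊔ (S : Subgroup G)) := by
    rw [hk]
    intro h
    exact hqp ((Nat.prime_dvd_prime_iff_eq hp hq).1 (hp.dvd_of_dvd_pow h)).symm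
  have hRK : N ⊔ (S : Subgroup G) ≤ N ⊔ Subgroup.centralizer (Q : Set G) := sup_le le_sup_left hS
  obtain ⟨h1, h2, h3, h4⟩ := sub_data N Q hQ hQN hQi hNR hpk hRK
  have hn : (N.subgroupOf (N ⊔ (S : Subgroup G))).Normal := hN.subgroupOf _
  obtain ⟨χ, hχ, hχθ⟩ := exists_ext_qgroup hq hqp hM k (Q.subgroupOf (N ⊔ (S : Subgroup G))) h1 h2
    (N.subgroupOf (N ⊔ (S : Subgroup G))) h3 hk h4 (up N θ hNR)
    (mapIrr_mem _ hθ) (by rw [up_degree]; exact hd) (up_inv N θ hinv hNR)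
  refine ⟨S, N ⊔ (S : Subgroup G), hNR, χ, le_sup_right, ⟨k, hk⟩, hRK, ?_, ?_⟩
  · intro n
    exact hχθ ⟨⟨n, hNR n.2⟩, n.2⟩
  · intro x hx
    have hχ1 : (χ : ↥(N ⊔ (S : Subgroup G)) → ℂ) 1 = (θ : N → ℂ) 1 := hχθ 1
    have hdχ : ¬ p ∣ charDegree (χ : ↥(N ⊔ (S : Subgroup G)) → ℂ) := by
      rw [charDegree_def, hχ1, ← charDegree_def]; exact hd
    refine (mem_principalBlock_iff hM h1 h2 χ hdχ).1 hχ x ?_
    rw [Subgroup.mem_centralizer_iff]
    intro y hy
    apply Subtype.ext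
    exact Subgroup.mem_centralizer_iff.1 hx (y : G) hy

/-- The Sylow `p`-subgroup. -/
theorem exists_sylow_ext_p (hp2 : p ≠ 2) (N : Subgroup G) [hN : N.Normal] (θ : IrrCharacter N)
    (hd : ¬ p ∣ charDegree (θ : N → ℂ))
    (hinv : ∀ (g : G) (n : N), (θ : N → ℂ) ⟨g * n * g⁻¹, hN.conj_mem n n.2 g⟩ = (θ : N → ℂ) n)
    {n₀ : ℕ} (hn₀ : ¬ p ∣ n₀)
    (hrat : ∀ n : N, (θ : N → ℂ) n ∈ IntermediateField.adjoin ℚ ({zet n₀} : Set ℂ)) :
    ∃ (S : Sylow p G) (χ : ↥(N ⊔ (S : Subgroup G)) → ℂ),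
      IsIrrCharacter ↥(N ⊔ (S : Subgroup G)) χ ∧
      (∃ k, N.relIndex (N ⊔ (S : Subgroup G)) = p ^ k) ∧
      (∀ n : N, χ ⟨n, (le_sup_left : N ≤ N ⊔ (S : Subgroup G)) n.2⟩ = (θ : N → ℂ) n) := by
  have hp : p.Prime := Fact.out
  let S : Sylow p G := default
  have hNR : N ≤ N ⊔ (S : Subgroup G) := le_sup_left
  obtain ⟨k, hk⟩ := relIndex_sup_pow N (S : Subgroup G) S.2
  have hn : (N.subgroupOf (N ⊔ (S : Subgroup G))).Normal := hN.subgroupOf _
  have hdet : Nat.Coprime p (detOrder (up N θ hNR : N.subgroupOf (N ⊔ (S : Subgroup G)) → ℂ)) := by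
    rw [Nat.Prime.coprime_iff_not_dvd hp]
    intro h
    have h1 : detChar (up N θ hNR : N.subgroupOf (N ⊔ (S : Subgroup G)) → ℂ) ^
        (Nat.card (N.subgroupOf (N ⊔ (S : Subgroup G))) /
          p ^ (Nat.card (N.subgroupOf (N ⊔ (S : Subgroup G)))).factorization p) = 1 := by
      funext x
      exact detChar_pow_eq_one hp hp2 (up N θ hNR).2 hn₀
        (fun g => hrat ⟨((g : ↥(N ⊔ (S : Subgroup G))) : G), g.2⟩) x
    have h2 := h.trans (orderOf_dvd_of_pow_eq_one h1)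
    exact Nat.not_dvd_ordCompl hp Nat.card_pos.ne' h2
  obtain ⟨χ, ⟨hχ, hχθ, -⟩, -⟩ := S0867.result (N.subgroupOf (N ⊔ (S : Subgroup G)))
    (up N θ hNR : N.subgroupOf (N ⊔ (S : Subgroup G)) → ℂ) (up N θ hNR).2
    (up_inv N θ hinv hNR) (charDegree (up N θ hNR : N.subgroupOf (N ⊔ (S : Subgroup G)) → ℂ))
    (irr_one_eq_charDegree (up N θ hNR).2) (by
      show Nat.Coprime (N.relIndex (N ⊔ (S : Subgroup G))) _
      rw [hk]
      apply Nat.Coprime.pow_left
      apply Nat.Coprime.mul_right hdet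
      rw [Nat.Prime.coprime_iff_not_dvd hp, up_degree]
      exact hd)
  exact ⟨S, χ, hχ, ⟨k, hk⟩, fun n => hχθ ⟨⟨n, hNR n.2⟩, n.2⟩⟩

/-- Existence of an extension. -/
theorem exists_ext (hp2 : p ≠ 2) (hM : IsPModular p M) (N : Subgroup G) [hN : N.Normal]
    (Q : Subgroup G)
    (hQ : IsPGroup p Q) (hQN : Q ≤ N) (hQi : ¬ p ∣ Q.relIndex N) (θ : IrrCharacter N)
    (hθ : θ ∈ principalBlock M N) (hd : ¬ p ∣ charDegree (θ : N → ℂ))
    (hinv : ∀ (g : G) (n : N), (θ : N → ℂ) ⟨g * n * g⁻¹, hN.conj_mem n n.2 g⟩ = (θ : N → ℂ) n)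
    {a : ℕ} (hidx : (N ⊔ Subgroup.centralizer (Q : Set G)).index = p ^ a)
    {n₀ : ℕ} (hn₀ : ¬ p ∣ n₀)
    (hrat : ∀ n : N, (θ : N → ℂ) n ∈ IntermediateField.adjoin ℚ ({zet n₀} : Set ℂ)) :
    ∃ χ : IrrCharacter G, ∀ n : N, (χ : G → ℂ) n = (θ : N → ℂ) n := by
  obtain ⟨χ, hχ, hχθ⟩ := S0888.result N (θ : N → ℂ) θ.2 hinv (by
    intro q hq
    have : Fact q.Prime := ⟨hq⟩
    by_cases hqp : q = p
    · subst hqp
      obtain ⟨S, χ, hχ, hk, hχθ⟩ := exists_sylow_ext_p hp2 N θ hd hinv hn₀ hrat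
      refine ⟨_, le_sup_left, χ, ?_, hk, hχ, hχθ⟩
      rw [Nat.coprime_comm, Nat.Prime.coprime_iff_not_dvd hq]
      intro h
      exact S.not_dvd_index (h.trans (Subgroup.index_dvd_of_le le_sup_right))
    · obtain ⟨S, R, hNR, χ, hSR, hk, hRK, hχθ, -⟩ :=
        exists_sylow_ext hM N Q hQ hQN hQi θ hθ hd hinv hidx hqp
      refine ⟨R, hNR, χ, ?_, hk, χ.2, hχθ⟩
      rw [Nat.coprime_comm, Nat.Prime.coprime_iff_not_dvd hq]
      intro h
      exact S.not_dvd_index (h.trans (Subgroup.index_dvd_of_le hSR)))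
  exact ⟨⟨χ, hχ⟩, hχθ⟩

/-- Adjusting an extension at the prime `q ≠ p`. -/
theorem glue (hM : IsPModular p M) (N : Subgroup G) [hN : N.Normal] (Q : Subgroup G)
    (hQ : IsPGroup p Q) (hQN : Q ≤ N) (hQi : ¬ p ∣ Q.relIndex N)
    (hfr : ∀ g : G, ∃ m ∈ N, ∀ x ∈ Subgroup.centralizer (Q : Set G),
      m⁻¹ * (g * x * g⁻¹) * m ∈ Subgroup.centralizer (Q : Set G)) (θ : IrrCharacter N)
    (hθ : θ ∈ principalBlock M N) (hd : ¬ p ∣ charDegree (θ : N → ℂ))
    (hinv : ∀ (g : G) (n : N), (θ : N → ℂ) ⟨g * n * g⁻¹, hN.conj_mem n n.2 g⟩ = (θ : N → ℂ) n)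
    {a : ℕ} (hidx : (N ⊔ Subgroup.centralizer (Q : Set G)).index = p ^ a)
    (χ : IrrCharacter G) (hχ : ∀ n : N, (χ : G → ℂ) n = (θ : N → ℂ) n)
    {q : ℕ} [Fact q.Prime] (hqp : q ≠ p) :
    ∃ l : G →* ℂˣ, (∀ n ∈ N, l n = 1) ∧ (∃ j : ℕ, ∀ g, l g ^ q ^ j = 1) ∧
      ∀ x ∈ Subgroup.centralizer (Q : Set G), (∃ i : ℕ, x ^ q ^ i = 1) →
        MemLocalIdeal M ((χ : G → ℂ) x * l x - (χ : G → ℂ) 1) := by
  have hMp : M.IsPrime := isPrime_of_isPModular hM
  have hp : p.Prime := Fact.out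
  have hq : q.Prime := Fact.out
  obtain ⟨S, R, hNR, χR, hSR, ⟨k, hk⟩, hRK, hχθ, hcong⟩ :=
    exists_sylow_ext hM N Q hQ hQN hQi θ hθ hd hinv hidx hqp
  have hNRn : (N.subgroupOf R).Normal := hN.subgroupOf _
  obtain ⟨μ, hμ1, hμ⟩ := CharactersDeep.ExtUnique.exists_hom_mul_of_restrict_eq (N.subgroupOf R)
    (χ := (χR : R → ℂ)) (χ' := (χ : G → ℂ) ∘ R.subtype)
    (irr_isCharacter χR.2) (Characters.Core.isCharacter_comp R.subtype (irr_isCharacter χ.2))
    (up N θ hNR).2 (fun n => by rw [up_apply]; exact hχθ ⟨((n : R) : G), n.2⟩)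
    (fun n => by rw [up_apply]; exact hχ ⟨((n : R) : G), n.2⟩)
  have hμ' : ∀ (x : G) (hx : x ∈ R), (χ : G → ℂ) x = (χR : R → ℂ) ⟨x, hx⟩ * μ ⟨x, hx⟩ :=
    fun x hx => hμ ⟨x, hx⟩
  have hμk : ∀ r : R, μ r ^ q ^ k = 1 := by
    intro r
    rw [← map_pow]
    apply hμ1
    have := (N.subgroupOf R).pow_index_mem r
    rwa [show (N.subgroupOf R).index = q ^ k from hk] at this
  have hpq : ¬ p ∣ q ^ k := by
    intro h
    exact hqp ((Nat.prime_dvd_prime_iff_eq hp hq).1 (hp.dvd_of_dvd_pow h)).symm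
  set d := charDegree (θ : N → ℂ) with hdd
  have hθ1 : (θ : N → ℂ) 1 = (d : ℂ) := irr_one_eq_charDegree θ.2
  have hχR1 : (χR : R → ℂ) 1 = (d : ℂ) := by rw [← hθ1]; exact hχθ 1
  have hχ1 : (χ : G → ℂ) 1 = (d : ℂ) := by rw [← hθ1]; exact hχ 1
  -- values at conjugates of elements of the centralizer
  have hconj : ∀ (g c : G), c ∈ Subgroup.centralizer (Q : Set G) → ∀ (hcR : g * c * g⁻¹ ∈ R),
      MemLocalIdeal M ((χR : R → ℂ) ⟨g * c * g⁻¹, hcR⟩ - d) ∧
      ∃ c' : R, (c' : G) ∈ Subgroup.centralizer (Q : Set G) ∧ IsConj c (c' : G) ∧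
        μ ⟨g * c * g⁻¹, hcR⟩ = μ c' := by
    intro g c hc hcR
    obtain ⟨m, hm, hmc⟩ := hfr g
    have hmR : m ∈ R := hNR hm
    let m' : R := ⟨m, hmR⟩
    let y : R := ⟨g * c * g⁻¹, hcR⟩
    have h1 := hcong (m'⁻¹ * y * m') (hmc c hc)
    have h2 : (χR : R → ℂ) (m'⁻¹ * y * m') = (χR : R → ℂ) y := by
      have := irr_conj χR.2 y m'⁻¹
      rwa [inv_inv] at this
    rw [h2, hχR1] at h1
    refine ⟨h1, m'⁻¹ * y * m', hmc c hc, ?_, ?_⟩
    · rw [isConj_iff]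
      refine ⟨m⁻¹ * g, ?_⟩
      show m⁻¹ * g * c * (m⁻¹ * g)⁻¹ = m⁻¹ * (g * c * g⁻¹) * m
      group
    · rw [map_mul, map_mul, map_inv, mul_comm, ← mul_assoc, mul_inv_cancel, one_mul]
  -- stability
  let ν : (S : Subgroup G) →* ℂˣ := (μ.comp (Subgroup.inclusion hSR))⁻¹
  have hν : ∀ s : (S : Subgroup G), ν s = (μ ⟨s, hSR s.2⟩)⁻¹ := fun s => rfl
  have hst : ∀ (s t : (S : Subgroup G)) (g : G), g * s * g⁻¹ = t → ν t = ν s := by
    intro s t g hgt
    rw [hν, hν, inv_inj]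
    have hsR : (s : G) ∈ R := hSR s.2
    have htR : (t : G) ∈ R := hSR t.2
    obtain ⟨n, hn, c, hc, hcR, hnc⟩ := decomp hNR hRK hsR
    have e1 : μ ⟨s, hsR⟩ = μ ⟨c, hcR⟩ := by
      have : (⟨s, hsR⟩ : R) = ⟨n, hNR hn⟩ * ⟨c, hcR⟩ := Subtype.ext hnc.symm
      rw [this, map_mul, hμ1 ⟨n, hNR hn⟩ hn, one_mul]
    have hgc : g * c * g⁻¹ ∈ R := by
      have h1 : g * c * g⁻¹ = (g * n * g⁻¹)⁻¹ * t := by
        rw [← hgt, ← hnc]; group
      rw [h1]
      exact R.mul_mem (R.inv_mem (hNR (hN.conj_mem n hn g))) htR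
    have e2 : μ ⟨t, htR⟩ = μ ⟨g * c * g⁻¹, hgc⟩ := by
      have : (⟨t, htR⟩ : R) = ⟨g * n * g⁻¹, hNR (hN.conj_mem n hn g)⟩ * ⟨g * c * g⁻¹, hgc⟩ := by
        apply Subtype.ext
        show (t : G) = g * n * g⁻¹ * (g * c * g⁻¹)
        rw [← hgt, ← hnc]; group
      rw [this, map_mul, hμ1 ⟨g * n * g⁻¹, _⟩ (hN.conj_mem n hn g), one_mul]
    obtain ⟨-, c', hc', hcc', e3⟩ := hconj g c hc hgc
    rw [e1, e2, e3]
    -- `χR(c) μ(c) = χR(c') μ(c')`
    have f1 := hcong ⟨c, hcR⟩ hc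
    have f2 := hcong c' hc'
    rw [hχR1] at f1 f2
    have f3 : (χR : R → ℂ) ⟨c, hcR⟩ * μ ⟨c, hcR⟩ = (χR : R → ℂ) c' * μ c' := by
      rw [← hμ' c hcR, ← hμ' c' c'.2]
      exact irr_isConj χ.2 hcc'
    have f4 : (χR : R → ℂ) c' * ((μ c' * (μ ⟨c, hcR⟩)⁻¹ : ℂˣ) : ℂ) = (χR : R → ℂ) ⟨c, hcR⟩ := by
      rw [Units.val_mul, ← mul_assoc, ← f3, mul_assoc, ← Units.val_mul, mul_inv_cancel,
        Units.val_one, mul_one]
    have f5 : ((μ c' * (μ ⟨c, hcR⟩)⁻¹ : ℂˣ) : ℂ) = 1 := by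
      apply unit_cancel hM hd (memLocalRing_irr χR.2 c') f2 hpq
      · rw [← Units.val_pow_eq_pow_val, mul_pow, inv_pow, hμk, hμk, inv_one, mul_one,
          Units.val_one]
      · rw [f4]; exact f1
    have f6 : μ c' * (μ ⟨c, hcR⟩)⁻¹ = 1 := Units.ext f5
    rwa [mul_inv_eq_one] at f6
  have hSi : Nat.Coprime (S : Subgroup G).index (q ^ k) := by
    apply Nat.Coprime.pow_right
    rw [Nat.coprime_comm, Nat.Prime.coprime_iff_not_dvd hq]
    exact S.not_dvd_index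
  obtain ⟨l, hl1, hl2⟩ := exists_hom_of_stable (S : Subgroup G) ν (q ^ k)
    (fun s => by rw [hν, inv_pow, hμk, inv_one]) hSi hst
  -- `q`-elements are conjugate into `S`
  have hqel : ∀ x : G, (∃ i : ℕ, x ^ q ^ i = 1) → ∃ g : G, g * x * g⁻¹ ∈ (S : Subgroup G) := by
    rintro x ⟨i, hi⟩
    have h1 : IsPGroup q (Subgroup.zpowers x) := by
      rw [IsPGroup.iff_card]
      rw [Nat.card_zpowers]
      obtain ⟨j, -, hj⟩ := (Nat.dvd_prime_pow hq).1 (orderOf_dvd_of_pow_eq_one hi)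
      exact ⟨j, hj⟩
    obtain ⟨T, hT⟩ := h1.exists_le_sylow
    obtain ⟨g, hg⟩ := MulAction.exists_smul_eq G T S
    refine ⟨g, ?_⟩
    rw [← hg, Sylow.smul_def]
    change g * x * g⁻¹ ∈ (MulAut.conj g • (T : Subgroup G) : Subgroup G)
    rw [Subgroup.mem_smul_pointwise_iff_exists]
    exact ⟨x, hT (Subgroup.mem_zpowers x), rfl⟩
  have hlconj : ∀ g x : G, l (g * x * g⁻¹) = l x := by
    intro g x
    rw [map_mul, map_mul, map_inv, mul_comm, ← mul_assoc, inv_mul_cancel, one_mul]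
  refine ⟨l, ?_, ⟨k, hl2⟩, ?_⟩
  · intro n hn
    -- `l` has `q`-power order; reduce to the `q`-part
    set o := orderOf n with ho
    set u := o / q ^ o.factorization q with hu
    have ho0 : o ≠ 0 := (orderOf_pos n).ne'
    have hou : q ^ o.factorization q * u = o := Nat.ordProj_mul_ordCompl_eq_self o q
    have hqu : Nat.Coprime u (q ^ k) := by
      apply Nat.Coprime.pow_right
      rw [Nat.coprime_comm, Nat.Prime.coprime_iff_not_dvd hq]
      exact Nat.not_dvd_ordCompl hq ho0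
    -- `n ^ u` is a `q`-element
    have h1 : ∃ i : ℕ, (n ^ u) ^ q ^ i = 1 :=
      ⟨o.factorization q, by rw [← pow_mul, mul_comm, hou, ho, pow_orderOf_eq_one]⟩
    obtain ⟨g, hg⟩ := hqel (n ^ u) h1
    have h2 : l (n ^ u) = 1 := by
      rw [← hlconj g]
      have h3 := hl1 ⟨_, hg⟩
      have h4 : g * n ^ u * g⁻¹ ∈ N := hN.conj_mem _ (N.pow_mem hn u) g
      have h5 : μ ⟨g * n ^ u * g⁻¹, hSR hg⟩ = 1 := hμ1 ⟨_, hSR hg⟩ h4
      rw [hν, h5, inv_one] at h3
      exact h3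
    rw [map_pow] at h2
    have h6 : orderOf (l n) ∣ Nat.gcd u (q ^ k) :=
      Nat.dvd_gcd (orderOf_dvd_of_pow_eq_one h2) (orderOf_dvd_of_pow_eq_one (hl2 n))
    rw [hqu] at h6
    exact orderOf_eq_one_iff.1 (Nat.dvd_one.1 h6)
  · intro x hx hxq
    obtain ⟨g, hg⟩ := hqel x hxq
    have hgR : g * x * g⁻¹ ∈ R := hSR hg
    have h1 : l x = (μ ⟨g * x * g⁻¹, hgR⟩)⁻¹ := by
      rw [← hlconj g]
      exact hl1 ⟨_, hg⟩
    have h2 : (χ : G → ℂ) x = (χR : R → ℂ) ⟨g * x * g⁻¹, hgR⟩ * μ ⟨g * x * g⁻¹, hgR⟩ := by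
      rw [← hμ' _ hgR, irr_conj χ.2]
    rw [h1, h2, mul_assoc, ← Units.val_mul, mul_inv_cancel, Units.val_one, mul_one, hχ1]
    exact (hconj g x hx hgR).1

/-- Adjusting an extension at all primes `q ≠ p`. -/
theorem glue_all (hM : IsPModular p M) (N : Subgroup G) [hN : N.Normal] (Q : Subgroup G)
    (hQ : IsPGroup p Q) (hQN : Q ≤ N) (hQi : ¬ p ∣ Q.relIndex N)
    (hfr : ∀ g : G, ∃ m ∈ N, ∀ x ∈ Subgroup.centralizer (Q : Set G),
      m⁻¹ * (g * x * g⁻¹) * m ∈ Subgroup.centralizer (Q : Set G)) (θ : IrrCharacter N)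
    (hθ : θ ∈ principalBlock M N) (hd : ¬ p ∣ charDegree (θ : N → ℂ))
    (hinv : ∀ (g : G) (n : N), (θ : N → ℂ) ⟨g * n * g⁻¹, hN.conj_mem n n.2 g⟩ = (θ : N → ℂ) n)
    {a : ℕ} (hidx : (N ⊔ Subgroup.centralizer (Q : Set G)).index = p ^ a)
    (χ : IrrCharacter G) (hχ : ∀ n : N, (χ : G → ℂ) n = (θ : N → ℂ) n) (T : Finset ℕ) :
    ∃ χ' : IrrCharacter G, (∀ n : N, (χ' : G → ℂ) n = (θ : N → ℂ) n) ∧
      ∀ q ∈ T, q.Prime → q ≠ p → ∀ x ∈ Subgroup.centralizer (Q : Set G),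
        (∃ i : ℕ, x ^ q ^ i = 1) → MemLocalIdeal M ((χ' : G → ℂ) x - (χ' : G → ℂ) 1) := by
  classical
  have hMp : M.IsPrime := isPrime_of_isPModular hM
  induction T using Finset.induction_on with
  | empty => exact ⟨χ, hχ, fun q hq => absurd hq (Finset.notMem_empty q)⟩
  | insert q T hqT ih =>
    obtain ⟨χ', hχ', hT⟩ := ih
    by_cases hq : q.Prime ∧ q ≠ p
    · obtain ⟨hq, hqp⟩ := hq
      have : Fact q.Prime := ⟨hq⟩
      obtain ⟨l, hl1, ⟨j, hl2⟩, hl3⟩ := glue hM N Q hQ hQN hQi hfr θ hθ hd hinv hidx χ' hχ' hqp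
      refine ⟨mulHom χ' l, ?_, ?_⟩
      · intro n
        rw [mulHom_apply, hl1 n n.2, Units.val_one, mul_one, hχ']
      · intro r hr hrp hrnp x hx hxr
        rw [mulHom_apply, mulHom_apply, map_one, Units.val_one, mul_one]
        rcases Finset.mem_insert.1 hr with rfl | hrT
        · exact hl3 x hx hxr
        · have hrq : r ≠ q := fun h => hqT (h ▸ hrT)
          have h1 : l x = 1 := by
            obtain ⟨i, hi⟩ := hxr
            have h2 : l x ^ r ^ i = 1 := by rw [← map_pow, hi, map_one]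
            have h3 : orderOf (l x) ∣ Nat.gcd (r ^ i) (q ^ j) :=
              Nat.dvd_gcd (orderOf_dvd_of_pow_eq_one h2) (orderOf_dvd_of_pow_eq_one (hl2 x))
            have h4 : Nat.gcd (r ^ i) (q ^ j) = 1 :=
              Nat.Coprime.pow _ _ ((Nat.coprime_primes hrp hq).2 hrq)
            rw [h4] at h3
            exact orderOf_eq_one_iff.1 (Nat.dvd_one.1 h3)
          rw [h1, Units.val_one, mul_one]
          exact hT r hrT hrp hrnp x hx hxr
    · refine ⟨χ', hχ', ?_⟩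
      intro r hr hrp hrnp x hx hxr
      rcases Finset.mem_insert.1 hr with rfl | hrT
      · exact absurd ⟨hrp, hrnp⟩ hq
      · exact hT r hrT hrp hrnp x hx hxr

/-- From the elements of prime power order to all `p`-regular elements of the centralizer. -/
theorem pregular_cong (hM : IsPModular p M) (N : Subgroup G) [hN : N.Normal] (Q : Subgroup G)
    (hQ : IsPGroup p Q) (hQN : Q ≤ N) (hQi : ¬ p ∣ Q.relIndex N) (θ : IrrCharacter N)
    (hθ : θ ∈ principalBlock M N) (hd : ¬ p ∣ charDegree (θ : N → ℂ))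
    (χ : IrrCharacter G) (hχ : ∀ n : N, (χ : G → ℂ) n = (θ : N → ℂ) n)
    (hq : ∀ q : ℕ, q.Prime → q ≠ p → ∀ x ∈ Subgroup.centralizer (Q : Set G),
        (∃ i : ℕ, x ^ q ^ i = 1) → MemLocalIdeal M ((χ : G → ℂ) x - (χ : G → ℂ) 1))
    {x : G} (hx : x ∈ Subgroup.centralizer (Q : Set G)) (hxp : ¬ p ∣ orderOf x) :
    MemLocalIdeal M ((χ : G → ℂ) x - (χ : G → ℂ) 1) := by
  have hMp : M.IsPrime := isPrime_of_isPModular hM
  have hp : p.Prime := Fact.out
  set L : Subgroup G := N ⊔ Subgroup.zpowers x with hL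
  have hNL : N ≤ L := le_sup_left
  have hxL : x ∈ L := (le_sup_right : Subgroup.zpowers x ≤ L) (Subgroup.mem_zpowers x)
  have hzC : Subgroup.zpowers x ≤ Subgroup.centralizer (Q : Set G) := by
    rw [Subgroup.zpowers_le]; exact hx
  have hLK : L ≤ N ⊔ Subgroup.centralizer (Q : Set G) := sup_le_sup_left hzC N
  have hpL : ¬ p ∣ N.relIndex L := by
    intro h
    rw [hL, Subgroup.relIndex_sup_left] at h
    apply hxp
    rw [← Nat.card_zpowers]
    exact h.trans (Subgroup.relIndex_dvd_card N _)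
  obtain ⟨h1, h2, h3, h4⟩ := sub_data N Q hQ hQN hQi hNL hpL hLK
  have hn : (N.subgroupOf L).Normal := hN.subgroupOf _
  have hab : ∀ a b : L, a * b * a⁻¹ * b⁻¹ ∈ N.subgroupOf L := by
    intro a b
    have key : ∀ c : L, ∃ i : ℤ, ((c : G) : G ⧸ N) = (x : G ⧸ N) ^ i := by
      intro c
      obtain ⟨n, hn, z, hz, hnz⟩ := Subgroup.mem_sup_of_normal_left.1 c.2
      obtain ⟨i, rfl⟩ := Subgroup.mem_zpowers_iff.1 hz
      refine ⟨i, ?_⟩
      rw [← hnz]
      show ((n : G ⧸ N)) * ((x ^ i : G) : G ⧸ N) = _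
      rw [(QuotientGroup.eq_one_iff n).2 hn, one_mul]
      rfl
    obtain ⟨i, hi⟩ := key a
    obtain ⟨j, hj⟩ := key b
    show (a : G) * b * (a : G)⁻¹ * (b : G)⁻¹ ∈ N
    rw [← QuotientGroup.eq_one_iff]
    change ((a : G) : G ⧸ N) * ((b : G) : G ⧸ N) * ((a : G) : G ⧸ N)⁻¹ * ((b : G) : G ⧸ N)⁻¹ = 1
    rw [hi, hj, ← zpow_neg, ← zpow_neg, ← zpow_add, ← zpow_add, ← zpow_add]
    rw [show i + j + -i + -j = 0 by ring, zpow_zero]
  have hχLirr : IsIrrCharacter L ((χ : G → ℂ) ∘ L.subtype) := by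
    apply CharactersDeep.MaxInduced.isIrr_of_comp (N.subgroupOf L).subtype
      (Characters.Core.isCharacter_comp L.subtype (irr_isCharacter χ.2))
    have h5 : ((χ : G → ℂ) ∘ L.subtype) ∘ (N.subgroupOf L).subtype =
        (up N θ hNL : N.subgroupOf L → ℂ) := by
      funext n
      exact hχ ⟨((n : L) : G), n.2⟩
    rw [h5]
    exact (up N θ hNL).2
  obtain ⟨β, hβ1, hβ⟩ := exists_twist_mem hM h1 h2 (N.subgroupOf L) hab hpL h4 (up N θ hNL)
    (mapIrr_mem _ hθ) ⟨_, hχLirr⟩ (fun n => hχ ⟨((n : L) : G), n.2⟩)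
  set d := charDegree (θ : N → ℂ) with hdd
  have hθ1 : (θ : N → ℂ) 1 = (d : ℂ) := irr_one_eq_charDegree θ.2
  have hχ1 : (χ : G → ℂ) 1 = (d : ℂ) := by rw [← hθ1]; exact hχ 1
  have hdeg : ¬ p ∣ charDegree (mulHom ⟨_, hχLirr⟩ β : L → ℂ) := by
    rw [charDegree_mulHom, charDegree_of_eq (n := d) (by exact hχ1)]
    exact hd
  have hcong : ∀ y : L, (y : G) ∈ Subgroup.centralizer (Q : Set G) →
      MemLocalIdeal M ((χ : G → ℂ) y * β y - d) := by
    intro y hy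
    have h6 := (mem_principalBlock_iff hM h1 h2 _ hdeg).1 hβ y (by
      rw [Subgroup.mem_centralizer_iff]
      intro z hz
      apply Subtype.ext
      exact Subgroup.mem_centralizer_iff.1 hy (z : G) hz)
    rw [mulHom_apply, mulHom_apply, map_one, Units.val_one, mul_one] at h6
    change MemLocalIdeal M ((χ : G → ℂ) y * β y - (χ : G → ℂ) 1) at h6
    rwa [hχ1] at h6
  have hβi : ∀ y : L, β y ^ (N.relIndex L) = 1 := by
    intro y
    rw [← map_pow]
    exact hβ1 _ ((N.subgroupOf L).pow_index_mem y)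
  let x' : L := ⟨x, hxL⟩
  have hβx : β x' = 1 := by
    by_contra hne
    have h7 : orderOf (β x') ≠ 1 := fun h => hne (orderOf_eq_one_iff.1 h)
    obtain ⟨q, hqp, hqd⟩ := Nat.exists_prime_and_dvd h7
    have h8 : orderOf (β x') ∣ orderOf x := by
      apply orderOf_dvd_of_pow_eq_one
      rw [← map_pow]
      have : x' ^ orderOf x = 1 := Subtype.ext (pow_orderOf_eq_one x)
      rw [this, map_one]
    have hqne : q ≠ p := fun h => hxp (h ▸ hqd.trans h8)
    set o := orderOf x with ho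
    set u := o / q ^ o.factorization q with hu
    have ho0 : o ≠ 0 := (orderOf_pos x).ne'
    have hou : q ^ o.factorization q * u = o := Nat.ordProj_mul_ordCompl_eq_self o q
    have h9 : ∃ i : ℕ, (x ^ u) ^ q ^ i = 1 :=
      ⟨o.factorization q, by rw [← pow_mul, mul_comm, hou, ho, pow_orderOf_eq_one]⟩
    have hxu : x ^ u ∈ Subgroup.centralizer (Q : Set G) := Subgroup.pow_mem _ hx u
    have h10 := hq q hqp hqne (x ^ u) hxu h9
    have h11 := hcong (x' ^ u) hxu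
    rw [hχ1] at h10
    have h12 : (β (x' ^ u) : ℂ) = 1 := by
      apply unit_cancel hM hd (memLocalRing_irr χ.2 (x ^ u)) h10 hpL
      · rw [← Units.val_pow_eq_pow_val, hβi, Units.val_one]
      · exact h11
    have h13 : β x' ^ u = 1 := by
      rw [← map_pow]; exact Units.ext h12
    have h14 := hqd.trans (orderOf_dvd_of_pow_eq_one h13)
    exact Nat.not_dvd_ordCompl hqp ho0 h14
  have h15 := hcong x' hx
  rw [hβx, Units.val_one, mul_one] at h15
  rw [hχ1]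
  exact h15

/-- Principal block criterion through `p`-regular elements. -/
theorem mem_principalBlock_of_pregular (hM : IsPModular p M) {P : Subgroup G} (hP : IsPGroup p P)
    (χ : IrrCharacter G) (hd : ¬ p ∣ charDegree (χ : G → ℂ))
    (h : ∀ x ∈ Subgroup.centralizer (P : Set G), ¬ p ∣ orderOf x →
      MemLocalIdeal M ((χ : G → ℂ) x - (χ : G → ℂ) 1)) : χ ∈ principalBlock M G := by
  have hMp : M.IsPrime := isPrime_of_isPModular hM
  show SameBlock M (fun _ : G => (1 : ℂ)) (χ : G → ℂ)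
  have := Fintype.ofFinite G
  refine Blocks.PRegular.sameBlock_of_isPRegular hM isIrrCharacter_one χ.2 fun g hg => ?_
  have hχ1 : (χ : G → ℂ) 1 = (charDegree (χ : G → ℂ) : ℂ) := irr_one_eq_charDegree χ.2
  have hne : (χ : G → ℂ) 1 ≠ 0 := irr_one_ne_zero χ.2
  have hinv : MemLocalRing M (((χ : G → ℂ) 1)⁻¹) := by
    rw [hχ1]; exact memLocalRing_inv_natCast hM hd
  have hcc : centralChar (fun _ : G => (1 : ℂ)) g - centralChar (χ : G → ℂ) g =
      ((Subgroup.centralizer ({g} : Set G)).index : ℂ) *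
        (((χ : G → ℂ) 1)⁻¹ * ((χ : G → ℂ) 1 - (χ : G → ℂ) g)) := by
    rw [centralChar_def, centralChar_def]
    field_simp
  rw [hcc]
  by_cases hgp : p ∣ (Subgroup.centralizer ({g} : Set G)).index
  · apply memLocalIdeal_mul_right ((memLocalIdeal_natCast_iff hM _).2 hgp)
    exact memLocalRing_mul hinv (memLocalRing_sub (memLocalRing_irr χ.2 1)
      (memLocalRing_irr χ.2 g))
  · obtain ⟨k, hk⟩ := exists_conj_mem_centralizer hP hgp
    apply memLocalIdeal_mul_left (memLocalRing_natCast _)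
    apply memLocalIdeal_mul_left hinv
    have hord : ¬ p ∣ orderOf (k * g * k⁻¹) := by
      have : orderOf (k * g * k⁻¹) = orderOf g := by
        have := orderOf_injective (MulAut.conj k).toMonoidHom (MulAut.conj k).injective g
        exact this
      rw [this]; exact hg
    have h1 := h _ hk hord
    rw [irr_conj χ.2] at h1
    exact memLocalIdeal_sub_comm h1

/-- The determinantal character restricts. -/
theorem detChar_restrict (N : Subgroup G) {χ : G → ℂ} (hχ : IsIrrCharacter G χ) {θ : N → ℂ}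
    (hθ : IsIrrCharacter N θ) (h : ∀ n : N, χ n = θ n) (n : N) : detChar θ n = detChar χ n := by
  obtain ⟨a, ρ, hρ, rfl⟩ := hχ
  obtain ⟨b, σ, hσ, rfl⟩ := hθ
  rw [CharactersDeep.ExtUnique.detChar_of_rep ρ hρ, CharactersDeep.ExtUnique.detChar_of_rep σ hσ]
  obtain ⟨T, hT⟩ := CharactersDeep.ExtUnique.exists_linearEquiv_of_character_eq σ
    (ρ.comp N.subtype) hσ (funext fun m => (h m).symm)
  have e2 : ρ n = T.conj (σ n) := by
    refine LinearMap.ext fun v => ?_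
    obtain ⟨w, rfl⟩ := T.surjective v
    have := hT n w
    simp only [LinearEquiv.conj_apply_apply, LinearEquiv.symm_apply_apply]
    exact this.symm
  show LinearMap.det (σ n) = LinearMap.det (ρ n)
  rw [e2, LinearEquiv.conj_apply, LinearMap.comp_assoc]
  exact (LinearMap.det_conj _ _).symm

/-- Adjusting the `p`-part of the determinant. -/
theorem glue_p (hp2 : p ≠ 2) (N : Subgroup G) [N.Normal] (θ : IrrCharacter N)
    (hd : ¬ p ∣ charDegree (θ : N → ℂ)) {n₀ : ℕ} (hn₀ : ¬ p ∣ n₀)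
    (hrat : ∀ n : N, (θ : N → ℂ) n ∈ IntermediateField.adjoin ℚ ({zet n₀} : Set ℂ))
    (χ : IrrCharacter G) (hχ : ∀ n : N, (χ : G → ℂ) n = (θ : N → ℂ) n) :
    ∃ l : G →* ℂˣ, (∀ n ∈ N, l n = 1) ∧ (∃ j : ℕ, ∀ g, l g ^ p ^ j = 1) ∧
      ∀ g, detChar (mulHom χ l : G → ℂ) g ^
        (Nat.card G / p ^ (Nat.card G).factorization p) = 1 := by
  have hp : p.Prime := Fact.out
  obtain ⟨δ, hδ⟩ := CharactersDeep.ExtUnique.exists_hom_detChar χ.2
  set a := (Nat.card G).factorization p with ha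
  set u := Nat.card G / p ^ a with hu
  have hau : p ^ a * u = Nat.card G := Nat.ordProj_mul_ordCompl_eq_self _ p
  have hpu : ¬ p ∣ u := Nat.not_dvd_ordCompl hp Nat.card_pos.ne'
  set d := charDegree (θ : N → ℂ) with hdd
  have hθ1 : (θ : N → ℂ) 1 = (d : ℂ) := irr_one_eq_charDegree θ.2
  have hχ1 : (χ : G → ℂ) 1 = (d : ℂ) := by rw [← hθ1]; exact hχ 1
  -- `δ ^ u` is trivial on `N`
  have hδN : ∀ n ∈ N, δ n ^ u = 1 := by
    intro n hn
    have h1 := detChar_pow_eq_one hp hp2 θ.2 hn₀ hrat ⟨n, hn⟩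
    rw [detChar_restrict N χ.2 θ.2 hχ ⟨n, hn⟩, hδ, ← Units.val_pow_eq_pow_val] at h1
    have h2 : δ n ^ (Nat.card N / p ^ (Nat.card N).factorization p) = 1 := Units.ext h1
    have h3 : Nat.card N / p ^ (Nat.card N).factorization p ∣ u :=
      Nat.ordCompl_dvd_ordCompl_of_dvd (Subgroup.card_subgroup_dvd_card N) p
    obtain ⟨c, hc⟩ := h3
    rw [hc, pow_mul, h2, one_pow]
  have hcop : Nat.Coprime (u * d) (p ^ a) := by
    apply Nat.Coprime.pow_right
    rw [Nat.coprime_comm, Nat.Prime.coprime_iff_not_dvd hp, hp.dvd_mul]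
    rintro (h | h)
    · exact hpu h
    · exact hd h
  -- `1 + u d t ≡ 0`
  have hpa : 0 < p ^ a := pow_pos hp.pos a
  obtain ⟨t, ht⟩ : ∃ t : ℕ, p ^ a ∣ 1 + u * d * t := by
    have : NeZero (p ^ a) := ⟨hpa.ne'⟩
    refine ⟨(-(((ZMod.unitOfCoprime (u * d) hcop)⁻¹ : (ZMod (p ^ a))ˣ) : ZMod (p ^ a))).val, ?_⟩
    rw [← ZMod.natCast_eq_zero_iff]
    push_cast
    rw [ZMod.natCast_val, ZMod.cast_id]
    have h6 : ((u : ZMod (p ^ a)) * (d : ZMod (p ^ a))) =
        ((ZMod.unitOfCoprime (u * d) hcop : (ZMod (p ^ a))ˣ) : ZMod (p ^ a)) := by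
      rw [ZMod.coe_unitOfCoprime]; push_cast; rfl
    rw [h6, mul_neg, Units.mul_inv, add_neg_cancel]
  obtain ⟨w, hw⟩ := ht
  refine ⟨δ ^ (u * t), ?_, ⟨a, ?_⟩, ?_⟩
  · intro n hn
    rw [MonoidHom.pow_apply, pow_mul, hδN n hn, one_pow]
  · intro g
    rw [MonoidHom.pow_apply, ← pow_mul, show u * t * p ^ a = p ^ a * u * t by ring, hau, pow_mul,
      ← map_pow, pow_card_eq_one', map_one, one_pow]
  · intro g
    have h4 := congrFun (CharactersDeep.ExtUnique.detChar_mul_hom χ.2 hχ1 (δ ^ (u * t))) g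
    have h5 : detChar (mulHom χ (δ ^ (u * t)) : G → ℂ) g = ((δ g ^ (1 + u * d * t) : ℂˣ) : ℂ) := by
      refine h4.trans ?_
      rw [hδ, MonoidHom.pow_apply, ← Units.val_pow_eq_pow_val, ← pow_mul, ← Units.val_mul,
        ← pow_succ', show u * t * d + 1 = 1 + u * d * t by ring]
    rw [h5, hw, ← Units.val_pow_eq_pow_val, ← pow_mul,
      show p ^ a * w * u = p ^ a * u * w by ring, hau, pow_mul, ← map_pow, pow_card_eq_one',
      map_one, one_pow, Units.val_one]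

/-- **`p`-rational extensions in the principal block.** -/
theorem main (hp2 : p ≠ 2) (hM : IsPModular p M) (N : Subgroup G) [hN : N.Normal] (Q : Subgroup G)
    (hQ : IsPGroup p Q) (hQN : Q ≤ N) (hQi : ¬ p ∣ Q.relIndex N)
    (hfr : ∀ g : G, ∃ m ∈ N, ∀ x ∈ Subgroup.centralizer (Q : Set G),
      m⁻¹ * (g * x * g⁻¹) * m ∈ Subgroup.centralizer (Q : Set G)) (θ : IrrCharacter N)
    (hθ : θ ∈ principalBlock M N) (hd : ¬ p ∣ charDegree (θ : N → ℂ))
    (hinv : ∀ (g : G) (n : N), (θ : N → ℂ) ⟨g * n * g⁻¹, hN.conj_mem n n.2 g⟩ = (θ : N → ℂ) n)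
    {a : ℕ} (hidx : (N ⊔ Subgroup.centralizer (Q : Set G)).index = p ^ a)
    {n₀ : ℕ} (hn₀ : ¬ p ∣ n₀)
    (hrat : ∀ n : N, (θ : N → ℂ) n ∈ IntermediateField.adjoin ℚ ({zet n₀} : Set ℂ)) :
    ∃ χ : IrrCharacter G, χ ∈ principalBlock M G ∧
      (∃ n : ℕ, ¬ p ∣ n ∧ ∀ g : G, (χ : G → ℂ) g ∈ IntermediateField.adjoin ℚ ({zet n} : Set ℂ)) ∧
      ∀ n : N, (χ : G → ℂ) n = (θ : N → ℂ) n := by
  classical
  have hMp : M.IsPrime := isPrime_of_isPModular hM
  have hp : p.Prime := Fact.out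
  obtain ⟨χ₀, hχ₀⟩ := exists_ext hp2 hM N Q hQ hQN hQi θ hθ hd hinv hidx hn₀ hrat
  obtain ⟨χ₁, hχ₁, hc₁⟩ := glue_all hM N Q hQ hQN hQi hfr θ hθ hd hinv hidx χ₀ hχ₀
    (Nat.card G).primeFactors
  -- all primes
  have hc₂ : ∀ q : ℕ, q.Prime → q ≠ p → ∀ x ∈ Subgroup.centralizer (Q : Set G),
      (∃ i : ℕ, x ^ q ^ i = 1) → MemLocalIdeal M ((χ₁ : G → ℂ) x - (χ₁ : G → ℂ) 1) := by
    intro q hq hqp x hx hxq
    by_cases hqG : q ∣ Nat.card G
    · exact hc₁ q (Nat.mem_primeFactors.2 ⟨hq, hqG, Nat.card_pos.ne'⟩) hq hqp x hx hxq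
    · obtain ⟨i, hi⟩ := hxq
      have h1 : orderOf x ∣ Nat.gcd (q ^ i) (Nat.card G) :=
        Nat.dvd_gcd (orderOf_dvd_of_pow_eq_one hi) (orderOf_dvd_natCard x)
      have h2 : Nat.gcd (q ^ i) (Nat.card G) = 1 :=
        Nat.Coprime.pow_left _ ((Nat.Prime.coprime_iff_not_dvd hq).2 hqG)
      rw [h2] at h1
      rw [orderOf_eq_one_iff.1 (Nat.dvd_one.1 h1), sub_self]
      exact memLocalIdeal_zero
  obtain ⟨l, hl1, ⟨j, hl2⟩, hl3⟩ := glue_p hp2 N θ hd hn₀ hrat χ₁ hχ₁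
  set χ : IrrCharacter G := mulHom χ₁ l with hχdef
  have hχ : ∀ n : N, (χ : G → ℂ) n = (θ : N → ℂ) n := by
    intro n
    rw [hχdef, mulHom_apply, hl1 n n.2, Units.val_one, mul_one, hχ₁]
  set d := charDegree (θ : N → ℂ) with hdd
  have hθ1 : (θ : N → ℂ) 1 = (d : ℂ) := irr_one_eq_charDegree θ.2
  have hχ1 : (χ : G → ℂ) 1 = (d : ℂ) := by rw [← hθ1]; exact hχ 1
  have hdχ : ¬ p ∣ charDegree (χ : G → ℂ) := by rw [charDegree_of_eq hχ1]; exact hd
  -- congruences at `p`-regular elements of the centralizer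
  have hcong : ∀ x ∈ Subgroup.centralizer (Q : Set G), ¬ p ∣ orderOf x →
      MemLocalIdeal M ((χ : G → ℂ) x - (χ : G → ℂ) 1) := by
    intro x hx hxp
    have h1 := pregular_cong hM N Q hQ hQN hQi θ hθ hd χ₁ hχ₁ hc₂ hx hxp
    have h2 : l x = 1 := by
      have h3 : orderOf (l x) ∣ Nat.gcd (p ^ j) (orderOf x) :=
        Nat.dvd_gcd (orderOf_dvd_of_pow_eq_one (hl2 x)) (orderOf_map_dvd l x)
      have h4 : Nat.gcd (p ^ j) (orderOf x) = 1 :=
        Nat.Coprime.pow_left _ ((Nat.Prime.coprime_iff_not_dvd hp).2 hxp)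
      rw [h4] at h3
      exact orderOf_eq_one_iff.1 (Nat.dvd_one.1 h3)
    rw [hχdef, mulHom_apply, mulHom_apply, h2, map_one, Units.val_one, mul_one, mul_one]
    exact h1
  refine ⟨χ, ?_, ?_, hχ⟩
  · obtain ⟨P, hP⟩ := hQ.exists_le_sylow
    apply mem_principalBlock_of_pregular hM P.2 χ hdχ
    intro x hx hxp
    exact hcong x (Subgroup.centralizer_le (show (Q : Set G) ⊆ (P : Subgroup G) from hP) hx) hxp
  · set e := (Nat.card G).factorization p with he
    set u := Nat.card G / p ^ e with hu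
    have hau : p ^ e * u = Nat.card G := Nat.ordProj_mul_ordCompl_eq_self _ p
    have hpu : ¬ p ∣ u := Nat.not_dvd_ordCompl hp Nat.card_pos.ne'
    have hn : ¬ p ∣ n₀ * u := by
      rw [hp.dvd_mul]
      rintro (h | h)
      · exact hn₀ h
      · exact hpu h
    have hn0 : n₀ * u ≠ 0 := fun h0 => hn (h0 ▸ dvd_zero p)
    have hn₀0 : n₀ ≠ 0 := fun h0 => hn₀ (h0 ▸ dvd_zero p)
    have hu0 : u ≠ 0 := fun h0 => hpu (h0 ▸ dvd_zero p)
    refine ⟨n₀ * u, hn, ?_⟩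
    -- Galois action
    have key : ∀ σ : ℂ ≃+* ℂ, σ (zet (n₀ * u)) = zet (n₀ * u) → ∀ g, σ ((χ : G → ℂ) g) =
        (χ : G → ℂ) g := by
      intro σ hσ
      have hσn₀ : σ (zet n₀) = zet n₀ :=
        fix_root hn0 σ hσ (Dvd.intro _ rfl) (zet_prim hn₀0).pow_eq_one
      have hσu : ∀ z : ℂ, z ^ u = 1 → σ z = z := fun z hz =>
        fix_root hn0 σ hσ (Dvd.intro_left _ rfl) hz
      obtain ⟨lam, hlam1, hlam⟩ := CharactersDeep.ExtUnique.exists_hom_mul_of_restrict_eq N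
        (χ := (χ : G → ℂ)) (χ' := fun g => σ ((χ : G → ℂ) g))
        (irr_isCharacter χ.2) (Characters.GaloisBasic.isCharacter_map σ (irr_isCharacter χ.2))
        θ.2 hχ (fun n => by rw [hχ]; exact fix_adjoin σ hσn₀ (hrat n))
      have hlamd : ∀ g, lam g ^ d = 1 := by
        intro g
        have h1 := detChar_map σ χ.2 g
        have h2 := congrFun (CharactersDeep.ExtUnique.detChar_mul_hom χ.2 hχ1 lam) g
        have h3 : (fun g => σ ((χ : G → ℂ) g)) = fun g => (χ : G → ℂ) g * (lam g : ℂ) :=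
          funext hlam
        rw [h3, h2] at h1
        have h4 := hl3 g
        have h5 : σ (detChar (χ : G → ℂ) g) = detChar (χ : G → ℂ) g := hσu _ h4
        rw [h5] at h1
        have h6 : detChar (χ : G → ℂ) g ≠ 0 := by
          intro h0
          rw [h0, zero_pow hu0] at h4
          exact zero_ne_one h4
        apply Units.ext
        rw [Units.val_pow_eq_pow_val, Units.val_one]
        exact mul_left_cancel₀ h6 (by rw [mul_one]; exact h1)
      have hCpr : ∀ x ∈ Subgroup.centralizer (Q : Set G), ¬ p ∣ orderOf x → lam x = 1 := by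
        intro x hx hxp
        have hxu : x ^ u = 1 := by
          apply orderOf_dvd_iff_pow_eq_one.1
          have h1 : orderOf x ∣ p ^ e * u := by rw [hau]; exact orderOf_dvd_natCard x
          exact Nat.Coprime.dvd_of_dvd_mul_left
            (Nat.Coprime.pow_right _ ((Nat.coprime_comm.1 ((Nat.Prime.coprime_iff_not_dvd hp).2 hxp))))
            h1
        have h2 : (σ : ℂ →+* ℂ) ((χ : G → ℂ) x) = (χ : G → ℂ) (x ^ 1) :=
          Characters.GaloisBasic.map_apply (σ : ℂ →+* ℂ) (fun z hz => by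
            rw [pow_one]; exact hσu z hz) (irr_isCharacter χ.2) hu0 hxu
        rw [pow_one] at h2
        have h3 := hlam x
        have h4 : (χ : G → ℂ) x * lam x = (χ : G → ℂ) x * 1 := by
          rw [mul_one, ← h3]; exact h2
        have h5 : (χ : G → ℂ) x ≠ 0 := by
          intro h0
          have h6 := hcong x hx hxp
          rw [h0, zero_sub, memLocalIdeal_neg_iff, hχ1, memLocalIdeal_natCast_iff hM] at h6
          exact hd h6
        exact Units.ext (mul_left_cancel₀ h5 h4)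
      have hcopd : Nat.Coprime d p :=
        Nat.coprime_comm.1 ((Nat.Prime.coprime_iff_not_dvd hp).2 hd)
      have hfin : ∀ (y : ℂˣ) (i : ℕ), y ^ d = 1 → y ^ p ^ i = 1 → y = 1 := by
        intro y i h1 h2
        have h3 : orderOf y ∣ Nat.gcd d (p ^ i) :=
          Nat.dvd_gcd (orderOf_dvd_of_pow_eq_one h1) (orderOf_dvd_of_pow_eq_one h2)
        rw [Nat.Coprime.pow_right i hcopd] at h3
        exact orderOf_eq_one_iff.1 (Nat.dvd_one.1 h3)
      have hC : ∀ x ∈ Subgroup.centralizer (Q : Set G), lam x = 1 := by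
        intro x hx
        set o := orderOf x with ho
        have ho0 : o ≠ 0 := (orderOf_pos x).ne'
        have hou : p ^ o.factorization p * (o / p ^ o.factorization p) = o :=
          Nat.ordProj_mul_ordCompl_eq_self o p
        have h1 : ¬ p ∣ orderOf (x ^ p ^ o.factorization p) := by
          intro h
          have h2 : orderOf (x ^ p ^ o.factorization p) ∣ o / p ^ o.factorization p := by
            apply orderOf_dvd_of_pow_eq_one
            rw [← pow_mul, hou, ho, pow_orderOf_eq_one]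
          exact Nat.not_dvd_ordCompl hp ho0 (h.trans h2)
        have h3 := hCpr _ (Subgroup.pow_mem _ hx _) h1
        rw [map_pow] at h3
        exact hfin _ _ (hlamd x) h3
      have hK : N ⊔ Subgroup.centralizer (Q : Set G) ≤ lam.ker :=
        sup_le (fun n hn => hlam1 n hn) (fun x hx => hC x hx)
      have hker : lam.ker.index ∣ p ^ a := by
        rw [← hidx]
        exact Subgroup.index_dvd_of_le hK
      obtain ⟨i, -, hi⟩ := (Nat.dvd_prime_pow hp).1 hker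
      intro g
      have h7 : lam g ^ p ^ i = 1 := by
        rw [← map_pow, ← hi]
        exact lam.ker.pow_index_mem g
      have h8 := hfin _ _ (hlamd g) h7
      have h9 := hlam g
      rw [h8, Units.val_one, mul_one] at h9
      exact h9
    intro g
    exact mem_adjoin_of_forall (Characters.GaloisBasic.isIntegral_apply (irr_isCharacter χ.2) g).tower_top
      (fun σ hσ => key σ hσ g)

end Chars

end Cfsg.Agent.H700.PRatExt
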