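import Mathlib
import Cfsg.Prelude.Def_Blocks
import Cfsg.Agent.Blocks.CentralProduct
import Cfsg.Agent.S0907
import Cfsg.Agent.S0968
import Cfsg.Agent.S0969

/-!
# Blocks of `G = P C_G(P)` with defect group `P`: values on `p`-regular elements

If `θ ∈ B` has the `p`-group `P` in its kernel then the members of `B` are the `χ_η`, `η ∈ Irr(P)`,
with `χ_η (u y) = η u * θ y` for `u ∈ P` and `y` `p`-regular.
-/

set_option autoImplicit false

namespace Cfsg.Agent.H700.CentralProd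

open Cfsg Cfsg.Agent.Characters.Core Cfsg.Agent.Blocks.CentralProduct Cfsg.Agent.Blocks.LocalRing
open scoped ComplexConjugate

universe u

theorem main {G : Type u} [Group G] [Finite G] (p : ℕ) [Fact p.Prime] (M : Ideal Cfsg.AlgInt)
    (hM : Cfsg.IsPModular p M) (P : Subgroup G) (hP : IsPGroup p P)
    (hG : P ⊔ Subgroup.centralizer (P : Set G) = ⊤) (B : Set (Cfsg.IrrCharacter G))
    (hB : Cfsg.IsPBlock M B) (hD : Cfsg.IsDefectGroup p M B P) {θ : IrrCharacter G} (hθ : θ ∈ B)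
    (hθP : ∀ x ∈ P, (θ : G → ℂ) x = (θ : G → ℂ) 1) :
    (∀ η : P → ℂ, IsIrrCharacter P η → ∃ χ ∈ B, ∀ (u : P) (y : G), ¬ p ∣ orderOf y →
      (χ : G → ℂ) (u * y) = η u * (θ : G → ℂ) y) ∧
    (∀ χ ∈ B, ∃ η : P → ℂ, IsIrrCharacter P η ∧ ∀ (u : P) (y : G), ¬ p ∣ orderOf y →
      (χ : G → ℂ) (u * y) = η u * (θ : G → ℂ) y) ∧
    ∀ χ ∈ B, ∀ g : G, g ∉ prodSet p P → (χ : G → ℂ) g = 0 := by
  classical
  have := Fintype.ofFinite G
  have := Fintype.ofFinite P
  have hfinI : Finite (IrrCharacter G) := finite_irr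
  have := Fintype.ofFinite (IrrCharacter G)
  have hpp : p.Prime := Fact.out
  -- choose the factorisations
  have hex : ∀ χ : IrrCharacter G, ∃ (ξ : P → ℂ) (ψ : Subgroup.centralizer (P : Set G) → ℂ),
      IsIrrCharacter P ξ ∧ IsIrrCharacter (Subgroup.centralizer (P : Set G)) ψ ∧
        IsFactor P (χ : G → ℂ) ξ ψ := fun χ => exists_factor hG χ.2
  choose ξ ψ hξ hψ hf using hex
  have hdeg : ∀ χ ∈ B, P.index.factorization p ≤ (charDegree (ψ χ)).factorization p :=
    fun χ hχ => S0968.factorization_le p hM P hD hχ (hξ χ) (hψ χ) (hf χ)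
  have hidx0 : P.index ≠ 0 := Subgroup.index_ne_zero_of_finite
  -- injectivity
  have hinj : ∀ χ ∈ B, ∀ χ' ∈ B, ξ χ = ξ χ' → χ = χ' := by
    intro χ hχ χ' hχ' hEq
    by_contra hne
    have hne' : (χ : G → ℂ) ≠ (χ' : G → ℂ) := fun h => hne (Subtype.ext h)
    have h0 := classInner_irr_ne χ.2 χ'.2 hne'
    have hf1 : IsFactor P (χ : G → ℂ) (ξ χ') (ψ χ) := by
      rw [← hEq]; exact hf χ
    rw [classInner_eq_regT hP hG χ.2 (hξ χ') (hψ χ) hf1 (hf χ') (hdeg χ hχ)] at h0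
    have h1 := classInner_irr_self χ'.2
    rw [classInner_eq_regT hP hG χ'.2 (hξ χ') (hψ χ') (hf χ') (hf χ') (hdeg χ' hχ')] at h1
    have hT0 : regT p (χ : G → ℂ) (χ' : G → ℂ) (ξ χ') = 0 := by
      rcases mul_eq_zero.1 h0 with h | h
      · exfalso
        obtain ⟨n, hn0, hn⟩ := isIrr_apply_one (hψ χ)
        rw [charDegree_eq hn, div_eq_zero_iff] at h
        rcases h with h | h
        · exact hn0.ne' (by exact_mod_cast h)
        · exact hidx0 (by exact_mod_cast h)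
      · exact h
    have h2 := regT_congr hP hG hM χ.2 χ'.2 χ'.2 (hξ χ') (hψ χ') (hf χ')
      (S0968.sameBlock_of_mem hM hB hχ hχ')
    rw [hT0, zero_sub] at h2
    have h3 := memLocalIdeal_neg_iff.1 h2
    have h4 := memLocalIdeal_mul_left hM (memLocalRing_natDiv hM hidx0 (hdeg χ' hχ')) h3
    rw [h1] at h4
    exact not_memLocalIdeal_one hM h4
  have hP0 : (Nat.card P : ℂ) ≠ 0 := by
    have : Nat.card P ≠ 0 := Nat.card_pos.ne'
    exact_mod_cast this
  have hregC : ∀ y : G, ¬ p ∣ orderOf y → y ∈ Subgroup.centralizer (P : Set G) :=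
    fun y hy => mem_centralizer_of_regular hP hG hy
  -- the block sums
  have hsum : ∀ (η : P → ℂ), IsIrrCharacter P η → ∀ (y y' : G) (hy : ¬ p ∣ orderOf y)
      (hy' : ¬ p ∣ orderOf y'),
      η 1 * ∑ χ ∈ B.toFinset, (χ : G → ℂ) y * conj ((χ : G → ℂ) y') =
        Nat.card P * ∑ χ ∈ B.toFinset.filter (fun χ => ξ χ = η), ξ χ 1 *
          (ψ χ ⟨y, hregC y hy⟩ * conj (ψ χ ⟨y', hregC y' hy'⟩)) := by
    intro η hη y y' hy hy'
    have hweak : ∀ u : P, u ≠ 1 →
        ∑ χ ∈ B.toFinset, (χ : G → ℂ) y * conj ((χ : G → ℂ) (u * y')) = 0 := by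
      intro u hu
      have h2 : p ∣ orderOf ((u : G) * y') := by
        have hc : Commute (u : G) y' := by
          have := Subgroup.mem_centralizer_iff.1 (hregC y' hy') u u.2
          exact this
        obtain ⟨k, hk⟩ := (IsPGroup.iff_orderOf.1 hP) u
        have hk' : orderOf (u : G) = p ^ k := by rw [Subgroup.orderOf_coe, hk]
        have hk0 : k ≠ 0 := by
          rintro rfl
          rw [pow_zero] at hk
          exact hu (orderOf_eq_one_iff.1 hk)
        have hcop : (orderOf (u : G)).Coprime (orderOf y') := by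
          rw [hk']
          exact Nat.Coprime.pow_left k ((Nat.Prime.coprime_iff_not_dvd hpp).2 hy')
        rw [hc.orderOf_mul_eq_mul_orderOf_of_coprime hcop, hk']
        exact (dvd_pow_self p hk0).mul_right _
      have h3 := Cfsg.Agent.S0907.result p M hM B hB y ((u : G) * y') hy h2
      rw [finsum_mem_eq_toFinset_sum] at h3
      exact h3
    have e0 : ∑ u : P, (∑ χ ∈ B.toFinset, (χ : G → ℂ) y * conj ((χ : G → ℂ) (u * y'))) * η u =
        η 1 * ∑ χ ∈ B.toFinset, (χ : G → ℂ) y * conj ((χ : G → ℂ) y') := by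
      rw [Finset.sum_eq_single (1 : P) (fun u _ hu => by rw [hweak u hu, zero_mul])
        (fun h => absurd (Finset.mem_univ _) h), mul_comm]
      simp
    rw [← e0]
    have e1 : ∀ u : P, (∑ χ ∈ B.toFinset, (χ : G → ℂ) y * conj ((χ : G → ℂ) (u * y'))) * η u =
        ∑ χ ∈ B.toFinset, (ξ χ 1 * (ψ χ ⟨y, hregC y hy⟩ * conj (ψ χ ⟨y', hregC y' hy'⟩))) *
          (η u * conj (ξ χ u)) := by
      intro u
      rw [Finset.sum_mul]
      refine Finset.sum_congr rfl fun χ _ => ?_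
      have a1 := (hf χ).apply_coe ⟨y, hregC y hy⟩
      have a2 := hf χ u ⟨y', hregC y' hy'⟩
      simp only at a1 a2
      rw [a1, a2, map_mul]
      ring
    rw [Finset.sum_congr rfl fun u _ => e1 u, Finset.sum_comm, Finset.mul_sum,
      Finset.sum_filter]
    refine Finset.sum_congr rfl fun χ hχ => ?_
    rw [← Finset.mul_sum]
    split_ifs with h
    · rw [h]
      have e2 := classInner_irr_self hη
      unfold classInner at e2
      have e3 : ∑ u : P, η u * conj (η u) = Nat.card P := by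
        field_simp at e2
        exact e2
      rw [e3]
      ring
    · have e2 := classInner_irr_ne hη (hξ χ) (fun h' => h h'.symm)
      unfold classInner at e2
      have e3 := (mul_eq_zero.1 e2).resolve_left (inv_ne_zero hP0)
      rw [e3, mul_zero]
  have hsum1 : ∀ χ ∈ B, ∀ (y y' : G) (hy : ¬ p ∣ orderOf y) (hy' : ¬ p ∣ orderOf y'),
      ∑ χ ∈ B.toFinset, (χ : G → ℂ) y * conj ((χ : G → ℂ) y') =
        Nat.card P * (ψ χ ⟨y, hregC y hy⟩ * conj (ψ χ ⟨y', hregC y' hy'⟩)) := by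
    intro χ hχ y y' hy hy'
    have h1 := hsum (ξ χ) (hξ χ) y y' hy hy'
    have h2 : B.toFinset.filter (fun χ' => ξ χ' = ξ χ) = {χ} := by
      ext χ'
      rw [Finset.mem_filter, Finset.mem_singleton, Set.mem_toFinset]
      constructor
      · rintro ⟨h3, h4⟩
        exact hinj χ' h3 χ hχ h4
      · rintro rfl
        exact ⟨hχ, rfl⟩
    rw [h2, Finset.sum_singleton] at h1
    have h3 := irr_apply_one_ne_zero (hξ χ)
    have h4 : ξ χ 1 * ∑ χ ∈ B.toFinset, (χ : G → ℂ) y * conj ((χ : G → ℂ) y') =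
        ξ χ 1 * (Nat.card P * (ψ χ ⟨y, hregC y hy⟩ * conj (ψ χ ⟨y', hregC y' hy'⟩))) := by
      rw [h1]; ring
    exact mul_left_cancel₀ h3 h4
  have h1reg : ¬ p ∣ orderOf (1 : G) := by
    rw [orderOf_one]
    exact hpp.one_lt.ne' ∘ Nat.dvd_one.1
  -- equality of the parts on the centralizer
  have hψeq : ∀ χ ∈ B, ∀ (y : G) (hy : ¬ p ∣ orderOf y),
      ψ χ ⟨y, hregC y hy⟩ = ψ θ ⟨y, hregC y hy⟩ := by
    intro χ hχ
    have hcmp : ∀ (y y' : G) (hy : ¬ p ∣ orderOf y) (hy' : ¬ p ∣ orderOf y'),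
        ψ χ ⟨y, hregC y hy⟩ * conj (ψ χ ⟨y', hregC y' hy'⟩) =
          ψ θ ⟨y, hregC y hy⟩ * conj (ψ θ ⟨y', hregC y' hy'⟩) := by
      intro y y' hy hy'
      have h1 := hsum1 χ hχ y y' hy hy'
      rw [hsum1 θ hθ y y' hy hy'] at h1
      exact (mul_left_cancel₀ hP0 h1).symm
    have h11 : ψ χ ⟨1, hregC 1 h1reg⟩ = ψ θ ⟨1, hregC 1 h1reg⟩ := by
      have h1 := hcmp 1 1 h1reg h1reg
      have e1 : (⟨1, hregC 1 h1reg⟩ : Subgroup.centralizer (P : Set G)) = 1 := rfl
      rw [e1] at h1 ⊢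
      obtain ⟨a, ha0, ha⟩ := isIrr_apply_one (hψ χ)
      obtain ⟨b, hb0, hb⟩ := isIrr_apply_one (hψ θ)
      rw [ha, hb, Complex.conj_natCast, Complex.conj_natCast] at h1
      rw [ha, hb]
      have h2 : a * a = b * b := by exact_mod_cast h1
      have h3 : a = b := Nat.mul_self_inj.1 h2
      rw [h3]
    intro y hy
    have h1 := hcmp y 1 hy h1reg
    rw [h11] at h1
    have h2 : conj (ψ θ ⟨1, hregC 1 h1reg⟩) ≠ 0 := by
      rw [map_ne_zero]
      exact irr_apply_one_ne_zero (hψ θ)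
    exact mul_right_cancel₀ h2 h1
  -- the trivial character
  have hker : ξ θ = 1 := by
    have h1 : ∀ u : P, ξ θ u = ξ θ 1 := by
      intro u
      have h2 := hθP u u.2
      rw [(hf θ).apply_left u, (hf θ).apply_one] at h2
      exact mul_right_cancel₀ (irr_apply_one_ne_zero (hψ θ)) h2
    obtain ⟨d, hd0, hd⟩ := isIrr_apply_one (hξ θ)
    have h3 := classInner_irr_self (hξ θ)
    unfold classInner at h3
    rw [Finset.sum_congr rfl (fun u _ => by rw [h1 u, hd, Complex.conj_natCast]), Finset.sum_const,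
      Finset.card_univ, ← Nat.card_eq_fintype_card, nsmul_eq_mul, ← mul_assoc,
      inv_mul_cancel₀ hP0, one_mul] at h3
    have h4 : d * d = 1 := by exact_mod_cast h3
    have h5 : d = 1 := Nat.eq_one_of_mul_eq_one_left h4
    funext u
    rw [h1 u, hd, h5]
    simp
  have hval : ∀ χ ∈ B, ∀ (u : P) (y : G), ¬ p ∣ orderOf y →
      (χ : G → ℂ) (u * y) = ξ χ u * (θ : G → ℂ) y := by
    intro χ hχ u y hy
    have h1 := hf χ u ⟨y, hregC y hy⟩
    have h2 := (hf θ).apply_coe ⟨y, hregC y hy⟩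
    simp only at h1 h2
    rw [h1, h2, hker, hψeq χ hχ y hy, Pi.one_apply, one_mul]
  refine ⟨?_, fun χ hχ => ⟨ξ χ, hξ χ, hval χ hχ⟩, fun χ hχ g hg =>
    vanish hP hG χ.2 (hξ χ) (hψ χ) (hf χ) (hdeg χ hχ) hg⟩
  intro η hη
  -- surjectivity
  obtain ⟨χ, hχ, hχη⟩ : ∃ χ ∈ B, ξ χ = η := by
    by_contra hno
    push Not at hno
    have h1 := hsum η hη 1 1 h1reg h1reg
    have h2 : B.toFinset.filter (fun χ => ξ χ = η) = ∅ := by
      rw [Finset.filter_eq_empty_iff]
      intro χ hχ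
      exact hno χ (Set.mem_toFinset.1 hχ)
    rw [h2, Finset.sum_empty, mul_zero] at h1
    have h3 := (mul_eq_zero.1 h1).resolve_left (irr_apply_one_ne_zero hη)
    rw [hsum1 θ hθ 1 1 h1reg h1reg] at h3
    have h4 := (mul_eq_zero.1 h3).resolve_left hP0
    have h5 : ψ θ ⟨1, hregC 1 h1reg⟩ ≠ 0 := irr_apply_one_ne_zero (hψ θ)
    rcases mul_eq_zero.1 h4 with h | h
    · exact h5 h
    · rw [map_eq_zero] at h
      exact h5 h
  exact ⟨χ, hχ, fun u y hy => by rw [hval χ hχ u y hy, hχη]⟩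

end Cfsg.Agent.H700.CentralProd
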