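import Mathlib
import Cfsg.Agent.H700.CentralProd
import Cfsg.Agent.Blocks.Deflate
import Cfsg.Agent.Blocks.Basic
import Cfsg.Agent.CharDeep.LinearChar

/-!
# Twisting by an invariant linear character of a normal `p`-subgroup

If `D` is a normal `p`-subgroup of `Y`, `w` a `Y`-invariant linear character of `D`, and
`ψ ∈ Irr(Y/D)` has `p`-defect zero, then there is `ψ' ∈ Irr(Y)` with `ψ' (u y) = w u * ψ y` for
`u ∈ D` and `y` `p`-regular.
-/

set_option autoImplicit false

namespace Cfsg.Agent.H700.CentralTwist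

open Cfsg Cfsg.Agent.Characters.Core

universe u

theorem exists_twist {Y : Type u} [Group Y] [Finite Y] (p : ℕ) [Fact p.Prime] {M : Ideal AlgInt}
    (hM : IsPModular p M) (D : Subgroup Y) [hDn : D.Normal] (hD : IsPGroup p D) (w : D →* ℂˣ)
    (hw : ∀ (y : Y) (u : D), w (MulAut.conjNormal y u) = w u) {ψ : Y → ℂ}
    (hψ : IsIrrCharacter Y ψ) (hker : ∀ u ∈ D, ψ u = ψ 1)
    (hdeg : (charDegree ψ).factorization p = D.index.factorization p) :
    ∃ ψ' : IrrCharacter Y, ∀ (u : D) (y : Y), ¬ p ∣ orderOf y →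
      (ψ' : Y → ℂ) (u * y) = (w u : ℂ) * ψ y := by
  classical
  have hprime : M.IsPrime := hM.2.1.isPrime
  set K : Subgroup Y := w.ker.map D.subtype with hK
  have hmemK : ∀ x : Y, x ∈ K ↔ ∃ h : x ∈ D, w ⟨x, h⟩ = 1 := by
    intro x
    rw [hK, Subgroup.mem_map]
    constructor
    · rintro ⟨u, hu, rfl⟩
      exact ⟨u.2, MonoidHom.mem_ker.1 hu⟩
    · rintro ⟨h, h1⟩
      exact ⟨⟨x, h⟩, MonoidHom.mem_ker.2 h1, rfl⟩
  have hKD : K ≤ D := fun x hx => ((hmemK x).1 hx).1
  have hKn : K.Normal := by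
    constructor
    intro x hx y
    obtain ⟨h, h1⟩ := (hmemK x).1 hx
    rw [hmemK]
    refine ⟨hDn.conj_mem x h y, ?_⟩
    have := hw y ⟨x, h⟩
    rw [h1] at this
    rw [← this]
    congr 1
  let q : Y →* Y ⧸ K := QuotientGroup.mk' K
  have hq : Function.Surjective q := QuotientGroup.mk'_surjective K
  have hqk : q.ker = K := QuotientGroup.ker_mk' K
  set P : Subgroup (Y ⧸ K) := D.map q with hPdef
  have hP : IsPGroup p P := hD.map q
  have hPZ : P ≤ Subgroup.center (Y ⧸ K) := by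
    rintro _ ⟨u, hu, rfl⟩
    rw [Subgroup.mem_center_iff]
    intro g
    obtain ⟨y, rfl⟩ := hq g
    rw [← map_mul, ← map_mul]
    have h1 : y * u * y⁻¹ * u⁻¹ ∈ K := by
      rw [hmemK]
      have h2 : y * u * y⁻¹ ∈ D := hDn.conj_mem u hu y
      refine ⟨D.mul_mem h2 (D.inv_mem hu), ?_⟩
      have h3 := hw y ⟨u, hu⟩
      have h4 : (⟨y * u * y⁻¹ * u⁻¹, D.mul_mem h2 (D.inv_mem hu)⟩ : D) =
          MulAut.conjNormal y ⟨u, hu⟩ * (⟨u, hu⟩ : D)⁻¹ := by
        apply Subtype.ext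
        simp [MulAut.conjNormal_apply]
      rw [h4, map_mul, map_inv, h3, mul_inv_cancel]
    have h5 : q (y * u * y⁻¹ * u⁻¹) = 1 := by
      rw [← MonoidHom.mem_ker, hqk]
      exact h1
    have h6 : y * u = (y * u * y⁻¹ * u⁻¹) * (u * y) := by group
    rw [h6, map_mul, h5, one_mul]
  have := Fintype.ofFinite K
  obtain ⟨ψb, hψb⟩ := Blocks.Deflate.exists_deflation K ψ hψ (by
    have h1 : ∀ n : K, ψ n = ψ 1 := fun n => hker n (hKD n.2)
    rw [Finset.sum_congr rfl fun n _ => h1 n, Finset.sum_const, nsmul_eq_mul]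
    refine mul_ne_zero ?_ (isIrr_apply_one_ne_zero hψ)
    exact_mod_cast Finset.card_ne_zero_of_mem (Finset.mem_univ (1 : K)))
  have hψb' : ∀ y : Y, ψ y = (ψb : Y ⧸ K → ℂ) (q y) := fun y => congrFun hψb y
  have hdeg' : (charDegree (ψb : Y ⧸ K → ℂ)).factorization p = P.index.factorization p := by
    have h1 : charDegree (ψb : Y ⧸ K → ℂ) = charDegree ψ := by
      unfold charDegree
      rw [hψb', map_one]
    have h2 : P.index = D.index := Subgroup.index_map_eq D hq (by rw [hqk]; exact hKD)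
    rw [h1, h2, hdeg]
  have hdef := (S0969.result p M hM P hP hPZ ψb hdeg').1
  have hcen : Subgroup.centralizer (P : Set (Y ⧸ K)) = ⊤ := by
    rw [eq_top_iff]
    intro g _
    rw [Subgroup.mem_centralizer_iff]
    intro u hu
    exact (Subgroup.mem_center_iff.1 (hPZ hu) g).symm
  -- the linear character of `P`
  let r : D →* P := q.subgroupMap D
  have hr : Function.Surjective r := q.subgroupMap_surjective D
  have hrw : r.ker ≤ w.ker := by
    intro u hu
    have h1 : q (u : Y) = 1 := congrArg Subtype.val (MonoidHom.mem_ker.1 hu)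
    rw [← MonoidHom.mem_ker, hqk, hmemK] at h1
    obtain ⟨h, h2⟩ := h1
    exact MonoidHom.mem_ker.2 h2
  let wb : P →* ℂˣ := r.liftOfSurjective hr ⟨w, hrw⟩
  have hwb : ∀ u : D, wb (r u) = w u := fun u =>
    MonoidHom.liftOfRightInverse_comp_apply r _ (Function.rightInverse_surjInv hr) ⟨w, hrw⟩ u
  obtain ⟨χ, -, hχ⟩ := (CentralProd.main p M hM P hP (by rw [hcen, sup_top_eq]) _
    (Blocks.Basic.isPBlock_blockOf ψb) hdef (Blocks.Basic.mem_blockOf_self ψb) (by
      rintro _ ⟨u, hu, rfl⟩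
      have := hker u hu
      rw [hψb', hψb', map_one] at this
      exact this)).1 (fun x => (wb x : ℂ)) (CharDeep.LinearChar.isIrrCharacter_of_hom wb)
  refine ⟨⟨fun y => (χ : Y ⧸ K → ℂ) (q y), isIrr_comp q hq χ.2⟩, fun u y hy => ?_⟩
  have h1 := hχ (r u) (q y) (fun h => hy (h.trans (orderOf_map_dvd q y)))
  rw [hwb, ← hψb'] at h1
  rw [← h1]
  show (χ : Y ⧸ K → ℂ) (q ((u : Y) * y)) = _
  rw [map_mul]
  rfl

end Cfsg.Agent.H700.CentralTwist
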