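import Mathlib
import Cfsg.Prelude.Def_Blocks
import Cfsg.Agent.H700.CentralProd
import Cfsg.Agent.H700.CentralTwist
import Cfsg.Agent.H646.UCov
import Cfsg.Agent.S0973
import Cfsg.Agent.S0934
import Cfsg.Agent.S0908

/-!
# A block with normal defect group: the canonical character

`D` is a normal defect group of the block `B` of `G` and `N = D C_G(D)`.
-/

set_option autoImplicit false

namespace Cfsg.Agent.H700.NormData

open Cfsg Cfsg.Agent.Characters.Core Cfsg.Agent.Blocks.CentralProduct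
open scoped ComplexConjugate

universe u

variable {G : Type u} [Group G] {p : ℕ} {M : Ideal AlgInt}

theorem exists_mul {D N : Subgroup G} [D.Normal] (hN : N = D ⊔ Subgroup.centralizer (D : Set G))
    {n : G} (hn : n ∈ N) : ∃ d ∈ D, ∃ c ∈ Subgroup.centralizer (D : Set G), d * c = n := by
  rw [hN] at hn
  exact Subgroup.mem_sup_of_normal_left.1 hn

theorem sup_eq_top {D N : Subgroup G} [D.Normal]
    (hN : N = D ⊔ Subgroup.centralizer (D : Set G)) :
    D.subgroupOf N ⊔ Subgroup.centralizer (D.subgroupOf N : Set N) = ⊤ := by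
  have hDN : D ≤ N := hN ▸ le_sup_left
  have hCN : Subgroup.centralizer (D : Set G) ≤ N := hN ▸ le_sup_right
  rw [eq_top_iff]
  intro n _
  obtain ⟨d, hd, c, hc, h⟩ := exists_mul hN n.2
  have h1 : n = ⟨d, hDN hd⟩ * ⟨c, hCN hc⟩ := Subtype.ext h.symm
  rw [h1]
  refine Subgroup.mul_mem_sup (Subgroup.mem_subgroupOf.2 hd) ?_
  rw [Subgroup.mem_centralizer_iff]
  intro u hu
  apply Subtype.ext
  exact Subgroup.mem_centralizer_iff.1 hc u (Subgroup.mem_subgroupOf.1 hu)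

/-- The canonical character. -/
structure Data (p : ℕ) (M : Ideal AlgInt) (B : Set (IrrCharacter G)) (D N : Subgroup G)
    (b : Set (IrrCharacter N)) (θ : IrrCharacter N) : Prop where
  eqN : N = D ⊔ Subgroup.centralizer (D : Set G)
  isPGroup : IsPGroup p D
  blk : IsPBlock M b
  defect : IsDefectGroup p M b (D.subgroupOf N)
  ind : IsInducedBlock M N b B
  mem : θ ∈ b
  ker : ∀ x ∈ D.subgroupOf N, (θ : N → ℂ) x = (θ : N → ℂ) 1
  uniq : ∀ θ' ∈ b, (∀ x ∈ D.subgroupOf N, (θ' : N → ℂ) x = (θ' : N → ℂ) 1) → θ' = θ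
  deg : (charDegree (θ : N → ℂ)).factorization p = (D.subgroupOf N).index.factorization p

theorem isPGroup_of_isDefectGroup {B : Set (IrrCharacter G)} {D : Subgroup G}
    (hD : IsDefectGroup p M B D) : IsPGroup p D := by
  obtain ⟨g, -, P, rfl⟩ := hD
  exact P.2.map _

theorem exists_data [Finite G] [Fact p.Prime] (hM : IsPModular p M) {B : Set (IrrCharacter G)}
    (hB : IsPBlock M B) {D : Subgroup G} [D.Normal] (hD : IsDefectGroup p M B D) :
    ∃ (b : Set (IrrCharacter ↥(D ⊔ Subgroup.centralizer (D : Set G))))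
      (θ : IrrCharacter ↥(D ⊔ Subgroup.centralizer (D : Set G))),
      Data p M B D (D ⊔ Subgroup.centralizer (D : Set G)) b θ := by
  obtain ⟨b, hbD, hind⟩ := (S0973.result p M hM B hB D hD).1
  have hDp := isPGroup_of_isDefectGroup hD
  have hDp' : IsPGroup p (D.subgroupOf (D ⊔ Subgroup.centralizer (D : Set G))) :=
    hDp.comap_of_injective (Subgroup.subtype _) (Subgroup.subtype_injective _)
  obtain ⟨⟨θ, ⟨hθ, hθk⟩, huniq⟩, hdeg, -⟩ := S0968.result p M hM _ hDp' (sup_eq_top rfl) b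
    hind.1 hbD
  exact ⟨b, θ, rfl, hDp, hind.1, hbD, hind, hθ, hθk, fun θ' h1 h2 => huniq θ' ⟨h1, h2⟩,
    hdeg θ hθ hθk⟩

section consequences

variable [Finite G] [Fact p.Prime] {B : Set (IrrCharacter G)} {D N : Subgroup G} [D.Normal]
  {b : Set (IrrCharacter N)} {θ : IrrCharacter N}

theorem Data.isPGroup' (h : Data p M B D N b θ) : IsPGroup p (D.subgroupOf N) :=
  h.isPGroup.comap_of_injective (Subgroup.subtype _) (Subgroup.subtype_injective _)

omit [Finite G] [Fact p.Prime] [D.Normal] in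
theorem Data.le (h : Data p M B D N b θ) : D ≤ N := h.eqN ▸ le_sup_left

omit [Finite G] [Fact p.Prime] [D.Normal] in
theorem Data.centralizer_le (h : Data p M B D N b θ) : Subgroup.centralizer (D : Set G) ≤ N :=
  h.eqN ▸ le_sup_right

omit [Finite G] [Fact p.Prime] in
theorem Data.normal (h : Data p M B D N b θ) : N.Normal := by
  rw [h.eqN]
  have : (Subgroup.centralizer (D : Set G)).Normal := Subgroup.normal_centralizer
  infer_instance

/-- The member of `b` over the linear character `w` of `D`. -/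
theorem Data.exists_lin (hM : IsPModular p M) (h : Data p M B D N b θ) (w : D →* ℂˣ) :
    ∃ φ ∈ b, (∀ (u : G) (hu : u ∈ D) (y : N), ¬ p ∣ orderOf y →
      (φ : N → ℂ) (⟨u, h.le hu⟩ * y) = (w ⟨u, hu⟩ : ℂ) * (θ : N → ℂ) y) ∧
      ∀ g : N, g ∉ prodSet p (D.subgroupOf N) → (φ : N → ℂ) g = 0 := by
  obtain ⟨h1, -, h3⟩ := CentralProd.main p M hM (D.subgroupOf N) h.isPGroup'
    (sup_eq_top h.eqN) b h.blk h.defect h.mem h.ker
  let j : D.subgroupOf N →* D := (Subgroup.subgroupOfEquivOfLe h.le).toMonoidHom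
  obtain ⟨φ, hφ, hφ1⟩ := h1 (fun x => (w (j x) : ℂ))
    (CharDeep.LinearChar.isIrrCharacter_of_hom (w.comp j))
  refine ⟨φ, hφ, fun u hu y hy => ?_, h3 φ hφ⟩
  exact hφ1 ⟨⟨u, h.le hu⟩, Subgroup.mem_subgroupOf.2 hu⟩ y hy

/-- Values of the members of `b`. -/
theorem Data.exists_eq (hM : IsPModular p M) (h : Data p M B D N b θ) {χ : IrrCharacter N}
    (hχ : χ ∈ b) : (∃ η : D.subgroupOf N → ℂ, IsIrrCharacter (D.subgroupOf N) η ∧
      ∀ (u : D.subgroupOf N) (y : N), ¬ p ∣ orderOf y →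
        (χ : N → ℂ) (u * y) = η u * (θ : N → ℂ) y) ∧
      ∀ g : N, g ∉ prodSet p (D.subgroupOf N) → (χ : N → ℂ) g = 0 := by
  obtain ⟨-, h2, h3⟩ := CentralProd.main p M hM (D.subgroupOf N) h.isPGroup'
    (sup_eq_top h.eqN) b h.blk h.defect h.mem h.ker
  exact ⟨h2 χ hχ, h3 χ hχ⟩

theorem not_dvd_orderOf_one : ¬ p ∣ orderOf (1 : G) := by
  rw [orderOf_one]
  exact (Fact.out : p.Prime).one_lt.ne' ∘ Nat.dvd_one.1

/-- `θ (u y) = θ y`. -/
theorem Data.apply_mul (hM : IsPModular p M) (h : Data p M B D N b θ) (u : G) (hu : u ∈ D) (y : N)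
    (hy : ¬ p ∣ orderOf y) : (θ : N → ℂ) (⟨u, h.le hu⟩ * y) = (θ : N → ℂ) y := by
  obtain ⟨⟨η, hη, h1⟩, -⟩ := h.exists_eq hM h.mem
  have h2 := h1 ⟨⟨u, h.le hu⟩, Subgroup.mem_subgroupOf.2 hu⟩ 1 not_dvd_orderOf_one
  have h3 := h.ker ⟨u, h.le hu⟩ (Subgroup.mem_subgroupOf.2 hu)
  rw [mul_one] at h2
  have h4 : η ⟨⟨u, h.le hu⟩, Subgroup.mem_subgroupOf.2 hu⟩ = 1 := by
    have h5 : η ⟨⟨u, h.le hu⟩, Subgroup.mem_subgroupOf.2 hu⟩ * (θ : N → ℂ) 1 =
        1 * (θ : N → ℂ) 1 := by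
      rw [← h2, one_mul]
      exact h3
    exact mul_right_cancel₀ (isIrr_apply_one_ne_zero θ.2) h5
  rw [← one_mul ((θ : N → ℂ) y), ← h4]
  exact h1 ⟨⟨u, h.le hu⟩, Subgroup.mem_subgroupOf.2 hu⟩ y hy

end consequences

end Cfsg.Agent.H700.NormData
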