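import Mathlib
import Cfsg.Prelude.Def_Characters
import Cfsg.Agent.Characters.Core
import Cfsg.Agent.Characters.Clifford
import Cfsg.Agent.Blocks.CliffordCentral
import Cfsg.Agent.Blocks.Over
import Cfsg.Agent.CharDeep.CliffordCorr

/-!
# Averaging over a subgroup on which an irreducible representation stays irreducible

`H = V T` with `V` abelian normal, `V ∩ T = 1`, `N ≤ T` the centralizer of `V` in `T`.  If all the
irreducible characters of `H` over an invariant `θ ∈ Irr(N)` have the same degree and `|T : N|` is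
prime to `|V|`, then `T` centralizes `V`.
-/

set_option autoImplicit false

namespace Cfsg.Agent.H700.SchurAvg

open Cfsg Cfsg.Agent.Characters.Core Cfsg.Agent.Characters.Clifford
open scoped ComplexConjugate

/-- Averaging over a group on which the representation stays irreducible. -/
theorem sum_conj_mul_hom {H K : Type*} [Group H] [Group K] [Fintype K] (f : K →* H) {χ : H → ℂ}
    (hχ : IsIrrCharacter H χ) (hT : IsIrrCharacter K (fun t : K => χ (f t))) (x y : H) :
    ∑ t : K, χ (f t * x * (f t)⁻¹ * y) = Nat.card K * χ x / χ 1 * χ y := by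
  classical
  obtain ⟨n, ρ, hρ, rfl⟩ := hχ
  let σ : Representation ℂ K (Fin n → ℂ) := ρ.comp f
  have hσc : σ.character = fun t : K => ρ.character (f t) := rfl
  have hσ : σ.IsIrreducible := isIrreducible_of_isIrrCharacter σ (by rw [hσc]; exact hT)
  let A : (Fin n → ℂ) →ₗ[ℂ] (Fin n → ℂ) := ∑ t : K, ρ (f t * x * (f t)⁻¹)
  have hA : ∀ g : K, A ∘ₗ σ g = σ g ∘ₗ A := by
    intro g
    show (∑ t : K, ρ (f t * x * (f t)⁻¹)) * ρ (f g) =
      ρ (f g) * (∑ t : K, ρ (f t * x * (f t)⁻¹))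
    rw [Finset.sum_mul, Finset.mul_sum]
    refine Fintype.sum_equiv (Equiv.mulLeft g⁻¹) _ _ fun t => ?_
    rw [← map_mul, ← map_mul]
    congr 1
    simp only [Equiv.coe_mulLeft, map_mul, map_inv]
    group
  have h1 := Blocks.CliffordCentral.eq_scalar_of_commute σ A hA
  have h2 : LinearMap.trace ℂ _ A = Nat.card K * ρ.character x := by
    show LinearMap.trace ℂ _ (∑ t : K, ρ (f t * x * (f t)⁻¹)) = _
    rw [map_sum]
    have : ∀ t : K, LinearMap.trace ℂ _ (ρ (f t * x * (f t)⁻¹)) = ρ.character x :=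
      fun t => ρ.char_conj x (f t)
    rw [Finset.sum_congr rfl fun t _ => this t, Finset.sum_const, Finset.card_univ, nsmul_eq_mul,
      Nat.card_eq_fintype_card]
  have h3 : ∑ t : K, ρ.character (f t * x * (f t)⁻¹ * y) =
      LinearMap.trace ℂ _ (A ∘ₗ ρ y) := by
    show _ = LinearMap.trace ℂ _ ((∑ t : K, ρ (f t * x * (f t)⁻¹)) * ρ y)
    rw [Finset.sum_mul, map_sum]
    refine Finset.sum_congr rfl fun t _ => ?_
    rw [← map_mul]
    rfl
  have h4 : σ.character 1 = ρ.character 1 := by rw [hσc]; simp only [map_one]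
  rw [h3, h1, h2, h4, LinearMap.smul_comp, LinearMap.id_comp, map_smul, smul_eq_mul]
  rfl

/-- Averaging over a subgroup on which the representation stays irreducible. -/
theorem sum_conj_mul {H : Type*} [Group H] (T : Subgroup H) [Fintype T] {χ : H → ℂ}
    (hχ : IsIrrCharacter H χ) (hT : IsIrrCharacter T (fun t : T => χ t)) (x y : H) :
    ∑ t : T, χ ((t : H) * x * (t : H)⁻¹ * y) = Nat.card T * χ x / χ 1 * χ y :=
  sum_conj_mul_hom T.subtype hχ hT x y

/-- Averaging over the whole group. -/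
theorem sum_conj_mul_self {H : Type*} [Group H] [Fintype H] {χ : H → ℂ}
    (hχ : IsIrrCharacter H χ) (x y : H) :
    ∑ t : H, χ (t * x * t⁻¹ * y) = Nat.card H * χ x / χ 1 * χ y :=
  sum_conj_mul_hom (MonoidHom.id H) hχ hχ x y

/-- The value at the inverse. -/
theorem mul_inv_eq {H : Type*} [Group H] [Finite H] {χ : H → ℂ} (hχ : IsIrrCharacter H χ)
    (x : H) : χ x * χ x⁻¹ = (Complex.normSq (χ x) : ℂ) := by
  rw [isCharacter_apply_inv (isIrr_isCharacter hχ), Complex.mul_conj]

section Over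

variable {H : Type*} [Group H] [Fintype H] (T N : Subgroup H) [N.Normal] [Fintype N] [Fintype T]

/-- `χ` lies over `θ`. -/
def Ov (θ : N → ℂ) (χ : H → ℂ) : Prop := classInner (fun n : N => χ n) θ ≠ 0

variable {N}

omit [Fintype T] in
theorem mult_eq {θ : N → ℂ} (hθ : IsIrrCharacter N θ)
    (hinv : ∀ g : H, θ ∘ (MulAut.conjNormal g : MulAut N) = θ) {χ : H → ℂ}
    (hχ : IsIrrCharacter H χ) (h : Ov N θ χ) :
    classInner (fun n : N => χ n) θ = χ 1 / θ 1 := by
  have h1 := CharDeep.CliffordCorr.restrict_eq_smul_of_invariant N hχ hθ hinv h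
  have h2 := congrFun h1 1
  simp only [Pi.smul_apply, smul_eq_mul, OneMemClass.coe_one] at h2
  rw [h2, mul_div_assoc, div_self (isIrr_apply_one_ne_zero hθ), mul_one]

theorem over_apply {θ : N → ℂ} (hθ : IsIrrCharacter N θ)
    (hinv : ∀ g : H, θ ∘ (MulAut.conjNormal g : MulAut N) = θ) {χ : H → ℂ}
    (hχ : IsIrrCharacter H χ) (h : Ov N θ χ) (n : N) : χ n = χ 1 / θ 1 * θ n := by
  have h1 := CharDeep.CliffordCorr.restrict_eq_smul_of_invariant N hχ hθ hinv h
  have h2 := congrFun h1 n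
  rw [mult_eq hθ hinv hχ h] at h2
  exact h2

open scoped Classical in
theorem sum_over [Fintype (IrrCharacter H)] {θ : N → ℂ} (hθ : IsIrrCharacter N θ)
    (hinv : ∀ g : H, θ ∘ (MulAut.conjNormal g : MulAut N) = θ) (g : H) :
    ∑ χ ∈ Finset.univ.filter (fun χ : IrrCharacter H => Ov N θ χ), (χ : H → ℂ) 1 * (χ : H → ℂ) g =
      θ 1 * indFun N θ g := by
  have h1 : indFun N θ g = ∑ χ : IrrCharacter H,
      classInner (fun n : N => (χ : H → ℂ) n) θ * (χ : H → ℂ) g := by
    conv_lhs => rw [classFunction_eq_sum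
      (CharactersDeep.NormalInd.indFun_isClassFunction N θ)]
    simp only [Finset.sum_apply, Pi.smul_apply, smul_eq_mul]
    refine Finset.sum_congr rfl fun χ _ => ?_
    rw [CharactersDeep.NormalInd.classInner_indFun N θ _ (isIrr_isClassFunction χ.2)]
    obtain ⟨k, hk⟩ := classInner_isNat (isCharacter_restrict N (isIrr_isCharacter χ.2))
      (isIrr_isCharacter hθ)
    rw [hk, ← classInner_conj_symm, hk, Complex.conj_natCast]
  rw [h1, Finset.sum_filter, Finset.mul_sum]
  refine Finset.sum_congr rfl fun χ _ => ?_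
  have hθ1 := isIrr_apply_one_ne_zero hθ
  split_ifs with h
  · rw [mult_eq hθ hinv χ.2 h]
    field_simp
  · have : classInner (fun n : N => (χ : H → ℂ) n) θ = 0 := by
      by_contra h'
      exact h h'
    rw [this]
    ring

open scoped Classical in
omit [Fintype T] in
/-- Characters over `θ` vanish at `x` if no `t x t⁻¹ (u x u⁻¹)⁻¹` lies in `N`. -/
theorem vanish {K : Type*} [Group K] [Fintype K] (f : K →* H) {θ : N → ℂ} (hθ : IsIrrCharacter N θ)
    (hinv : ∀ g : H, θ ∘ (MulAut.conjNormal g : MulAut N) = θ) {d : ℂ}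
    (hd : ∀ χ : IrrCharacter H, Ov N θ χ → (χ : H → ℂ) 1 = d)
    (hT : ∀ χ : IrrCharacter H, Ov N θ χ → IsIrrCharacter K (fun t : K => (χ : H → ℂ) (f t)))
    (x u : H) (hx : ∀ t : K, f t * x * (f t)⁻¹ * (u * x * u⁻¹)⁻¹ ∉ N)
    (χ : IrrCharacter H) (hχ : Ov N θ χ) : (χ : H → ℂ) x = 0 := by
  have := finite_irr (G := H)
  have := Fintype.ofFinite (IrrCharacter H)
  set S := Finset.univ.filter (fun χ : IrrCharacter H => Ov N θ χ) with hS
  have hd0 : d ≠ 0 := by
    rw [← hd χ hχ]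
    exact isIrr_apply_one_ne_zero χ.2
  have h1 : ∑ χ ∈ S, ∑ t : K, (χ : H → ℂ) 1 *
      (χ : H → ℂ) (f t * x * (f t)⁻¹ * (u * x * u⁻¹)⁻¹) = 0 := by
    rw [Finset.sum_comm]
    refine Finset.sum_eq_zero fun t _ => ?_
    rw [hS, sum_over hθ hinv, CharactersDeep.NormalInd.indFun_of_not_mem N θ (hx t), mul_zero]
  have h2 : ∀ χ ∈ S, ∑ t : K, (χ : H → ℂ) 1 *
      (χ : H → ℂ) (f t * x * (f t)⁻¹ * (u * x * u⁻¹)⁻¹) =
        Nat.card K * (Complex.normSq ((χ : H → ℂ) x) : ℂ) := by
    intro χ hχ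
    have hχ' : Ov N θ χ := (Finset.mem_filter.1 hχ).2
    have h0 := isIrr_apply_one_ne_zero χ.2
    rw [← Finset.mul_sum, sum_conj_mul_hom f χ.2 (hT χ hχ'), ← mul_inv_eq χ.2]
    have h3 : (χ : H → ℂ) (u * x * u⁻¹)⁻¹ = (χ : H → ℂ) x⁻¹ := by
      have := isIrr_isClassFunction χ.2 x⁻¹ u
      rw [← this]
      group
    rw [h3]
    field_simp
  rw [Finset.sum_congr rfl h2, ← Finset.mul_sum] at h1
  have hTc : (Nat.card K : ℂ) ≠ 0 := by exact_mod_cast Nat.card_pos.ne'
  have h3 := (mul_eq_zero.1 h1).resolve_left hTc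
  have h4 : ∑ χ ∈ S, Complex.normSq ((χ : H → ℂ) x) = 0 := by exact_mod_cast h3
  have h5 := (Finset.sum_eq_zero_iff_of_nonneg fun χ _ => Complex.normSq_nonneg _).1 h4 χ
    (Finset.mem_filter.2 ⟨Finset.mem_univ _, hχ⟩)
  exact Complex.normSq_eq_zero.1 h5

/-- The isotypic idempotent acts trivially. -/
theorem sum_theta_mul {θ : N → ℂ} (hθ : IsIrrCharacter N θ)
    (hinv : ∀ g : H, θ ∘ (MulAut.conjNormal g : MulAut N) = θ) {χ : H → ℂ}
    (hχ : IsIrrCharacter H χ) (h : Ov N θ χ) (y : H) :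
    ∑ m : N, θ m⁻¹ * χ ((m : H) * y) = Nat.card N / θ 1 * χ y := by
  classical
  let f : H → ℂ := fun g => if hg : g ∈ N then θ ⟨g, hg⟩⁻¹ else 0
  have hf : IsClassFunction H f := by
    intro g x
    by_cases hg : g ∈ N
    · have hg' : x * g * x⁻¹ ∈ N := Subgroup.Normal.conj_mem inferInstance g hg x
      simp only [f, dif_pos hg, dif_pos hg']
      have := congrFun (hinv x) (⟨g, hg⟩⁻¹ : N)
      rw [← this]
      simp only [Function.comp]
      congr 1
      apply Subtype.ext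
      simp only [MulAut.conjNormal_apply, Subgroup.coe_inv]
      group
    · have hg' : x * g * x⁻¹ ∉ N := by
        intro h
        apply hg
        have := Subgroup.Normal.conj_mem (H := N) inferInstance _ h x⁻¹
        convert this using 1
        group
      simp only [f, dif_neg hg, dif_neg hg']
  have h1 := Blocks.Over.sum_mul_shift hχ hf y
  have h2 : ∀ F : H → ℂ, ∑ n : H, f n * F n = ∑ m : N, θ m⁻¹ * F m := by
    intro F
    have h3 : ∑ n : H, f n * F n = ∑ n ∈ (Finset.univ : Finset N).map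
        ⟨Subtype.val, Subtype.val_injective⟩, f n * F n := by
      symm
      apply Finset.sum_subset (Finset.subset_univ _)
      intro x _ hx
      have : x ∉ N := by
        intro hx'
        apply hx
        rw [Finset.mem_map]
        exact ⟨⟨x, hx'⟩, Finset.mem_univ _, rfl⟩
      simp only [f, dif_neg this, zero_mul]
    rw [h3, Finset.sum_map]
    refine Finset.sum_congr rfl fun m _ => ?_
    simp only [Function.Embedding.coeFn_mk, f, dif_pos m.2]
  rw [h2 (fun n => χ (n * y)), h2] at h1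
  rw [h1]
  congr 1
  have hθ1 := isIrr_apply_one_ne_zero hθ
  have hχ1 := isIrr_apply_one_ne_zero hχ
  have h3 : ∑ m : N, θ m⁻¹ * χ m = χ 1 / θ 1 * Nat.card N := by
    have h4 := classInner_irr_self hθ
    unfold classInner at h4
    have hN0 : (Nat.card N : ℂ) ≠ 0 := by exact_mod_cast Nat.card_pos.ne'
    have h5 : ∑ m : N, θ m * conj (θ m) = Nat.card N := by
      field_simp at h4
      exact h4
    rw [← h5, Finset.mul_sum]
    refine Finset.sum_congr rfl fun m _ => ?_
    rw [over_apply hθ hinv hχ h m, isCharacter_apply_inv (isIrr_isCharacter hθ)]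
    ring
  rw [h3]
  field_simp

/-- If `v` centralizes `N` then `χ (n v) = χ v θ n / θ 1`. -/
theorem apply_mul_of_commute {θ : N → ℂ} (hθ : IsIrrCharacter N θ)
    (hinv : ∀ g : H, θ ∘ (MulAut.conjNormal g : MulAut N) = θ) {χ : H → ℂ}
    (hχ : IsIrrCharacter H χ) (h : Ov N θ χ) {v : H} (hv : ∀ n : N, (n : H) * v = v * n) (n : N) :
    χ ((n : H) * v) = θ n / θ 1 * χ v := by
  have hθ1 := isIrr_apply_one_ne_zero hθ
  have hN0 : (Nat.card N : ℂ) ≠ 0 := by exact_mod_cast Nat.card_pos.ne'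
  have h1 : ∑ m : N, χ (((m * n * m⁻¹ : N) : H) * v) = Nat.card N * χ ((n : H) * v) := by
    rw [Finset.sum_congr rfl fun m _ => ?_, Finset.sum_const, Finset.card_univ, nsmul_eq_mul,
      Nat.card_eq_fintype_card]
    have h2 := isIrr_isClassFunction hχ ((n : H) * v) (m : H)
    rw [← h2]
    congr 1
    have h3 := hv m⁻¹
    simp only [Subgroup.coe_mul, Subgroup.coe_inv, mul_assoc] at h3 ⊢
    rw [h3]
  have h2 : ∀ m : N, χ (((m * n * m⁻¹ : N) : H) * v) =
      θ 1 / Nat.card N * ∑ k : N, θ (m * n * m⁻¹ * k⁻¹) * χ ((k : H) * v) := by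
    intro m
    have h3 := sum_theta_mul hθ hinv hχ h (((m * n * m⁻¹ : N) : H) * v)
    have h4 : ∑ k : N, θ (m * n * m⁻¹ * k⁻¹) * χ ((k : H) * v) =
        ∑ k : N, θ k⁻¹ * χ ((k : H) * (((m * n * m⁻¹ : N) : H) * v)) := by
      refine Fintype.sum_equiv (Equiv.mulRight (m * n * m⁻¹)⁻¹) _ _ fun k => ?_
      simp only [Equiv.coe_mulRight, mul_inv_rev, inv_inv]
      congr 2
      rw [← mul_assoc, ← Subgroup.coe_mul]
      congr 2
      group
    rw [h4, h3]
    field_simp
  rw [Finset.sum_congr rfl fun m _ => h2 m, ← Finset.mul_sum, Finset.sum_comm] at h1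
  have h3 : ∀ k : N, ∑ m : N, θ (m * n * m⁻¹ * k⁻¹) * χ ((k : H) * v) =
      Nat.card N * θ n / θ 1 * (θ k⁻¹ * χ ((k : H) * v)) := by
    intro k
    rw [← Finset.sum_mul, sum_conj_mul_self hθ]
    ring
  rw [Finset.sum_congr rfl fun k _ => h3 k, ← Finset.mul_sum, sum_theta_mul hθ hinv hχ h] at h1
  have h4 : (Nat.card N : ℂ) * χ ((n : H) * v) = Nat.card N * (θ n / θ 1 * χ v) := by
    rw [← h1]
    field_simp
  exact mul_left_cancel₀ hN0 h4

end Over

end Cfsg.Agent.H700.SchurAvg
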