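import Mathlib
import Cfsg.Agent.H700.SchurAvg

/-!
# Split extensions of abelian groups with all characters of the same degree

`H` is a group with a normal abelian subgroup `V = ker π`, `f` a section of `π : H → K`, and `N` a
normal subgroup of `H` inside the image of `f`, consisting of the elements of that image
centralizing `V`.  If the characters of `H` over an invariant `θ ∈ Irr(N)` all have the same degree
and `K/N` has order prime to `|V|` then `f K` centralizes `V`.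
-/

set_option autoImplicit false

namespace Cfsg.Agent.H700.SplitDeg

open Cfsg Cfsg.Agent.Characters.Core Cfsg.Agent.Characters.Clifford
open Cfsg.Agent.H700.SchurAvg
open scoped ComplexConjugate

/-- Coprime action of a cyclic group on an abelian group. -/
theorem coprime_decomp {A : Type*} [CommGroup A] [Finite A] (σ : A →* A) {k : ℕ}
    (hk : k.Coprime (Nat.card A)) (hσ : ∀ a, (σ^[k]) a = a) :
    (∀ v : A, ∃ u c : A, σ c = c ∧ v * (u * (σ u)⁻¹) = c) ∧
      ∀ u : A, σ (u * (σ u)⁻¹) = u * (σ u)⁻¹ → σ u = u := by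
  have hB : ∀ u : A, σ (u * (σ u)⁻¹) = u * (σ u)⁻¹ → σ u = u := by
    intro u hu
    set c := u * (σ u)⁻¹ with hc
    have h1 : σ u = c⁻¹ * u := by rw [hc]; group
    have h2 : ∀ n : ℕ, (σ^[n]) u = (c⁻¹) ^ n * u := by
      intro n
      induction n with
      | zero => simp
      | succ n ih =>
        rw [Function.iterate_succ_apply', ih, map_mul, map_pow, map_inv, hu, h1, pow_succ]
        group
    have h3 := h2 k
    rw [hσ] at h3
    have h4 : (c⁻¹) ^ k = 1 := by
      have : (c⁻¹) ^ k * u = 1 * u := by rw [one_mul]; exact h3.symm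
      exact mul_right_cancel this
    have h5 : orderOf c⁻¹ = 1 :=
      Nat.eq_one_of_dvd_coprimes hk (orderOf_dvd_of_pow_eq_one h4) (orderOf_dvd_natCard _)
    rw [orderOf_eq_one_iff, inv_eq_one] at h5
    rw [h1, h5, inv_one, one_mul]
  refine ⟨?_, hB⟩
  let φ : A →* A :=
    { toFun := fun u => u * (σ u)⁻¹
      map_one' := by simp
      map_mul' := fun a b => by
        simp only [map_mul, mul_inv_rev]
        rw [mul_comm (σ b)⁻¹ (σ a)⁻¹, mul_mul_mul_comm] }
  have hφ : ∀ u, φ u = u * (σ u)⁻¹ := fun u => rfl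
  have hker : ∀ u, u ∈ φ.ker ↔ σ u = u := by
    intro u
    rw [MonoidHom.mem_ker, hφ, mul_inv_eq_one, eq_comm]
  have hdis : Disjoint φ.ker φ.range := by
    rw [Subgroup.disjoint_def]
    rintro x hx ⟨u, rfl⟩
    rw [hker, hφ] at hx
    rw [hφ, hB u hx, mul_inv_cancel]
  have hcompl : φ.ker.IsComplement' φ.range := by
    apply Subgroup.isComplement'_of_card_mul_and_disjoint _ hdis
    rw [← Subgroup.index_ker, Subgroup.card_mul_index]
  intro v
  have hv : v ∈ φ.ker ⊔ φ.range := by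
    rw [hcompl.sup_eq_top]
    exact Subgroup.mem_top v
  obtain ⟨c, hc, y, ⟨u, rfl⟩, rfl⟩ := Subgroup.mem_sup.1 hv
  refine ⟨u⁻¹, c, (hker c).1 hc, ?_⟩
  have : u⁻¹ * (σ u⁻¹)⁻¹ = (φ u)⁻¹ := by
    rw [← hφ, map_inv]
  rw [this, mul_assoc, mul_inv_cancel, mul_one]

section Main

variable {H K : Type*} [Group H] [Fintype H] [Group K] [Fintype K] (f : K →* H) (π : H →* K)
  (N : Subgroup H) [N.Normal] [Fintype N]

/-- The setting. -/
structure Setup : Prop where
  sec : ∀ k, π (f k) = k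
  comm : ∀ a ∈ π.ker, ∀ b ∈ π.ker, a * b = b * a
  le : ∀ n ∈ N, f (π n) = n
  cen : ∀ n ∈ N, ∀ v ∈ π.ker, n * v = v * n
  mem : ∀ k : K, (∀ v ∈ π.ker, f k * v = v * f k) → f k ∈ N
  cop : ∀ k : K, ∃ m : ℕ, m.Coprime (Nat.card π.ker) ∧ f k ^ m ∈ N

variable {f π N}

omit [N.Normal] [Fintype N] [Fintype K] in
/-- Conjugating into the centralizer. -/
theorem exists_conj (h : Setup f π N) (v : H) (hv : v ∈ π.ker) (g : K) :
    ∃ u ∈ π.ker, ∃ c ∈ π.ker, c * f g = f g * c ∧ u * (v * f g) * u⁻¹ = c * f g := by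
  let _ : CommGroup π.ker :=
    { (inferInstance : Group π.ker) with
      mul_comm := fun a b => Subtype.ext (h.comm a a.2 b b.2) }
  have hn : ∀ a : π.ker, f g * (a : H) * (f g)⁻¹ ∈ π.ker := fun a =>
    Subgroup.Normal.conj_mem inferInstance _ a.2 _
  let σ : π.ker →* π.ker :=
    { toFun := fun a => ⟨f g * (a : H) * (f g)⁻¹, hn a⟩
      map_one' := by
        apply Subtype.ext
        simp
      map_mul' := fun a b => by
        apply Subtype.ext
        simp only [Subgroup.coe_mul]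
        group }
  have hσ : ∀ a : π.ker, ((σ a : π.ker) : H) = f g * (a : H) * (f g)⁻¹ := fun a => rfl
  have hσn : ∀ (n : ℕ) (a : π.ker), (((σ^[n]) a : π.ker) : H) = (f g) ^ n * (a : H) * ((f g) ^ n)⁻¹ := by
    intro n a
    induction n with
    | zero => simp
    | succ n ih =>
      rw [Function.iterate_succ_apply', hσ, ih, pow_succ']
      group
  obtain ⟨m, hm, hmN⟩ := h.cop g
  have h1 := coprime_decomp σ hm (fun a => by
    apply Subtype.ext
    rw [hσn, h.cen _ hmN a a.2]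
    group)
  obtain ⟨u, c, hc, hvc⟩ := h1.1 ⟨v, hv⟩
  refine ⟨u, u.2, c, c.2, ?_, ?_⟩
  · have h2 := congrArg Subtype.val hc
    rw [hσ] at h2
    conv_lhs => rw [← h2]
    group
  · have h2 := congrArg Subtype.val hvc
    simp only [Subgroup.coe_mul, Subgroup.coe_inv, hσ] at h2
    rw [← h2]
    have h3 : v * (u : H) = u * v := h.comm v hv u u.2
    calc (u : H) * (v * f g) * (u : H)⁻¹ = (u * v) * f g * (u : H)⁻¹ := by group
      _ = v * u * f g * (u : H)⁻¹ := by rw [h3]
      _ = v * (u * (f g * u * (f g)⁻¹)⁻¹) * f g := by group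

omit [N.Normal] [Fintype N] [Fintype K] in
/-- If `[u, g]` commutes with `g` then so does `u`. -/
theorem commute_of (h : Setup f π N) (g : K) (u : H) (hu : u ∈ π.ker)
    (hc : f g * (u * (f g * u * (f g)⁻¹)⁻¹) * (f g)⁻¹ = u * (f g * u * (f g)⁻¹)⁻¹) :
    f g * u = u * f g := by
  let _ : CommGroup π.ker :=
    { (inferInstance : Group π.ker) with
      mul_comm := fun a b => Subtype.ext (h.comm a a.2 b b.2) }
  have hn : ∀ a : π.ker, f g * (a : H) * (f g)⁻¹ ∈ π.ker := fun a =>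
    Subgroup.Normal.conj_mem inferInstance _ a.2 _
  let σ : π.ker →* π.ker :=
    { toFun := fun a => ⟨f g * (a : H) * (f g)⁻¹, hn a⟩
      map_one' := by
        apply Subtype.ext
        simp
      map_mul' := fun a b => by
        apply Subtype.ext
        simp only [Subgroup.coe_mul]
        group }
  have hσ : ∀ a : π.ker, ((σ a : π.ker) : H) = f g * (a : H) * (f g)⁻¹ := fun a => rfl
  have hσn : ∀ (n : ℕ) (a : π.ker), (((σ^[n]) a : π.ker) : H) = (f g) ^ n * (a : H) * ((f g) ^ n)⁻¹ := by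
    intro n a
    induction n with
    | zero => simp
    | succ n ih =>
      rw [Function.iterate_succ_apply', hσ, ih, pow_succ']
      group
  obtain ⟨m, hm, hmN⟩ := h.cop g
  have h1 := coprime_decomp σ hm (fun a => by
    apply Subtype.ext
    rw [hσn, h.cen _ hmN a a.2]
    group)
  have h2 := h1.2 ⟨u, hu⟩ (by
    apply Subtype.ext
    rw [hσ]
    simp only [Subgroup.coe_mul, Subgroup.coe_inv, hσ]
    exact hc)
  have h3 := congrArg Subtype.val h2
  rw [hσ] at h3
  simp only at h3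
  conv_rhs => rw [← h3]
  group

/-- The characters over `θ` stay irreducible on `f K`. -/
theorem isIrr_restrict (h : Setup f π N) {θ : N → ℂ} (hθ : IsIrrCharacter N θ)
    (hinv : ∀ g : H, θ ∘ (MulAut.conjNormal g : MulAut N) = θ) {d : ℂ}
    (hd : ∀ χ : IrrCharacter H, Ov N θ χ → (χ : H → ℂ) 1 = d)
    (χ : IrrCharacter H) (hχ : Ov N θ χ) : IsIrrCharacter K (fun t : K => (χ : H → ℂ) (f t)) := by
  classical
  have := finite_irr (G := K)
  have := Fintype.ofFinite (IrrCharacter K)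
  have hc : IsCharacter K (fun t : K => (χ : H → ℂ) (f t)) :=
    isCharacter_comp f (isIrr_isCharacter χ.2)
  obtain ⟨c, hc1, hc2⟩ := CharDeep.CliffordCorr.exists_nat_coeffs hc
  have hd0 : d ≠ 0 := by
    rw [← hd χ hχ]
    exact isIrr_apply_one_ne_zero χ.2
  -- constituents have degree `d`
  have hdeg : ∀ ψ : IrrCharacter K, c ψ ≠ 0 → (ψ : K → ℂ) 1 = d := by
    intro ψ hψ
    have hψ' : IsIrrCharacter H (fun x => (ψ : K → ℂ) (π x)) :=
      isIrr_comp π (fun k => ⟨f k, h.sec k⟩) ψ.2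
    have h1 := hd ⟨_, hψ'⟩ ?_
    · simpa using h1
    · -- `ψ ∘ π` lies over `θ`
      intro h0
      have hcψ : IsCharacter N (fun n : N => (ψ : K → ℂ) (π n)) :=
        isCharacter_comp (π.comp N.subtype) (isIrr_isCharacter ψ.2)
      have hres : ∀ ψ : IrrCharacter K, IsCharacter N (fun n : N => (ψ : K → ℂ) (π n)) := fun ψ =>
        isCharacter_comp (π.comp N.subtype) (isIrr_isCharacter ψ.2)
      have := finite_irr (G := N)
      have := Fintype.ofFinite (IrrCharacter N)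
      have hall : ∀ η : IrrCharacter N,
          classInner (fun n : N => (ψ : K → ℂ) (π n)) (η : N → ℂ) = 0 := by
        intro η
        by_cases hηθ : (η : N → ℂ) = θ
        · rw [hηθ]
          exact h0
        · choose b hb using fun ψ : IrrCharacter K =>
            classInner_isNat (hres ψ) (isIrr_isCharacter η.2)
          have h2 : classInner (fun n : N => (χ : H → ℂ) n) (η : N → ℂ) = 0 := by
            have h3 : (fun n : N => (χ : H → ℂ) n) = ((χ : H → ℂ) 1 / θ 1) • θ := by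
              funext n
              rw [over_apply hθ hinv χ.2 hχ n]
              rfl
            rw [h3, classInner_smul_left, classInner_irr_ne hθ η.2 (fun h => hηθ h.symm), mul_zero]
          have h3 : (fun n : N => (χ : H → ℂ) n) = ∑ ψ : IrrCharacter K,
              (c ψ : ℂ) • (fun n : N => (ψ : K → ℂ) (π n)) := by
            funext n
            have h4 := congrFun hc1 (π n)
            simp only [Finset.sum_apply, Pi.smul_apply, smul_eq_mul, h.le n n.2] at h4 ⊢
            exact h4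
          rw [h3, classInner_sum_left] at h2
          simp_rw [classInner_smul_left, hb] at h2
          have h4 : ∑ ψ : IrrCharacter K, c ψ * b ψ = 0 := by exact_mod_cast h2
          have h5 := (Finset.sum_eq_zero_iff.1 h4) ψ (Finset.mem_univ _)
          have h6 := (Nat.mul_eq_zero.1 h5).resolve_left hψ
          rw [hb, h6, Nat.cast_zero]
      have h7 := classFunction_eq_sum (isCharacter_isClassFunction hcψ)
      have h8 := congrFun h7 1
      simp only [Finset.sum_apply, hall, zero_smul, Pi.zero_apply, Finset.sum_const_zero,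
        OneMemClass.coe_one, map_one] at h8
      exact isIrr_apply_one_ne_zero ψ.2 h8
  have hsum : ∑ ψ : IrrCharacter K, c ψ = 1 := by
    have h1 := congrFun hc1 1
    simp only [Finset.sum_apply, Pi.smul_apply, smul_eq_mul, map_one, hd χ hχ] at h1
    have h2 : ∀ ψ : IrrCharacter K, (c ψ : ℂ) * (ψ : K → ℂ) 1 = (c ψ : ℂ) * d := by
      intro ψ
      by_cases hψ : c ψ = 0
      · rw [hψ]; simp
      · rw [hdeg ψ hψ]
    rw [Finset.sum_congr rfl fun ψ _ => h2 ψ, ← Finset.sum_mul] at h1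
    have h3 : (∑ ψ : IrrCharacter K, (c ψ : ℂ)) = 1 := by
      have : (1 : ℂ) * d = (∑ ψ : IrrCharacter K, (c ψ : ℂ)) * d := by rw [one_mul]; exact h1
      exact (mul_right_cancel₀ hd0 this).symm
    exact_mod_cast h3
  obtain ⟨ψ₀, -, hψ₀⟩ : ∃ ψ ∈ (Finset.univ : Finset (IrrCharacter K)), c ψ ≠ 0 := by
    apply Finset.exists_ne_zero_of_sum_ne_zero
    rw [hsum]
    exact one_ne_zero
  have hsplit := Finset.add_sum_erase Finset.univ c (Finset.mem_univ ψ₀)
  rw [hsum] at hsplit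
  have h0 : ∑ ψ ∈ Finset.univ.erase ψ₀, c ψ = 0 := by omega
  have h1 : c ψ₀ = 1 := by omega
  have h2 : (fun t : K => (χ : H → ℂ) (f t)) = (ψ₀ : K → ℂ) := by
    rw [hc1, ← Finset.add_sum_erase _ _ (Finset.mem_univ ψ₀), h1, Nat.cast_one, one_smul,
      Finset.sum_eq_zero, add_zero]
    intro ψ hψ
    rw [(Finset.sum_eq_zero_iff.1 h0) ψ hψ, Nat.cast_zero, zero_smul]
  rw [h2]
  exact ψ₀.2

/-- Vanishing off the product of `V` and `N`. -/
theorem vanish_off (h : Setup f π N) {θ : N → ℂ} (hθ : IsIrrCharacter N θ)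
    (hinv : ∀ g : H, θ ∘ (MulAut.conjNormal g : MulAut N) = θ) {d : ℂ}
    (hd : ∀ χ : IrrCharacter H, Ov N θ χ → (χ : H → ℂ) 1 = d)
    (χ : IrrCharacter H) (hχ : Ov N θ χ) (v : H) (hv : v ∈ π.ker) (g : K) (hg : f g ∉ N) :
    (χ : H → ℂ) (v * f g) = 0 := by
  obtain ⟨u₀, hu₀, c, hc, hcg, hcon⟩ := exists_conj h v hv g
  have h1 : (χ : H → ℂ) (v * f g) = (χ : H → ℂ) (c * f g) := by
    rw [← hcon]
    exact (isIrr_isClassFunction χ.2 _ _).symm
  rw [h1]
  obtain ⟨u, hu, huc⟩ : ∃ u ∈ π.ker, f g * u ≠ u * f g := by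
    by_contra hcon
    push Not at hcon
    exact hg (h.mem g hcon)
  refine vanish f hθ hinv hd (isIrr_restrict h hθ hinv hd) (c * f g) u ?_ χ hχ
  intro t hz
  apply huc
  apply commute_of h g u hu
  set z := f t * (c * f g) * (f t)⁻¹ * (u * (c * f g) * u⁻¹)⁻¹ with hzdef
  have hπ : π z = t * g * t⁻¹ * g⁻¹ := by
    rw [hzdef]
    simp only [map_mul, map_inv, h.sec, MonoidHom.mem_ker.1 hc, MonoidHom.mem_ker.1 hu]
    group
  have hz' : f (t * g * t⁻¹ * g⁻¹) = z := by rw [← hπ]; exact h.le z hz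
  simp only [map_mul, map_inv] at hz'
  -- `k = z` centralizes the kernel
  have hcz := h.cen z hz
  have hker : ∀ a ∈ π.ker, ∀ x : H, x * a * x⁻¹ ∈ π.ker := fun a ha x =>
    Subgroup.Normal.conj_mem inferInstance _ ha _
  -- `f t c (f t)⁻¹ = c [u, g]`
  have hw := hker u hu (f g)
  have e1 : f t * f g * (f t)⁻¹ = z * f g := by rw [← hz']; group
  have e2 : z = f t * c * (f t)⁻¹ * (z * (f g * u * (f g)⁻¹) * c⁻¹ * u⁻¹) := by
    conv_lhs => rw [hzdef]
    have : f t * (c * f g) * (f t)⁻¹ = f t * c * (f t)⁻¹ * (f t * f g * (f t)⁻¹) := by group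
    rw [this, e1]
    group
  set w := f g * u * (f g)⁻¹ with hwdef
  set c' := f t * c * (f t)⁻¹ with hc'def
  have hc' : c' ∈ π.ker := hker c hc (f t)
  have e3 : c' * w * c⁻¹ * u⁻¹ = 1 := by
    have h3 : z * (c' * w * c⁻¹ * u⁻¹) = z * 1 := by
      rw [mul_one]
      calc z * (c' * w * c⁻¹ * u⁻¹) = (z * c') * w * c⁻¹ * u⁻¹ := by group
        _ = (c' * z) * w * c⁻¹ * u⁻¹ := by rw [hcz c' hc']
        _ = c' * (z * w * c⁻¹ * u⁻¹) := by group
        _ = z := e2.symm
    exact mul_left_cancel h3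
  have e4 : u * w⁻¹ = c⁻¹ * c' := by
    have h3 : w * c⁻¹ = c⁻¹ * w := h.comm w hw _ (π.ker.inv_mem hc)
    have h4 : u⁻¹ * w = w * u⁻¹ := h.comm _ (π.ker.inv_mem hu) w hw
    have h5 : c' * c⁻¹ = c⁻¹ * c' := h.comm _ hc' _ (π.ker.inv_mem hc)
    have h6 : (c' * c⁻¹) * (w * u⁻¹) = 1 := by
      rw [← e3]
      calc (c' * c⁻¹) * (w * u⁻¹) = c' * (c⁻¹ * w) * u⁻¹ := by group
        _ = c' * w * c⁻¹ * u⁻¹ := by rw [← h3]; group
    rw [← h5, eq_comm]
    calc c' * c⁻¹ = (c' * c⁻¹) * (w * u⁻¹) * (u * w⁻¹) := by group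
      _ = u * w⁻¹ := by rw [h6, one_mul]
  rw [e4]
  have e5 : f g * f t = z⁻¹ * (f t * f g) := by rw [← hz']; group
  have e6 : f g * c⁻¹ * (f g)⁻¹ = c⁻¹ := by
    have : f g * c⁻¹ * (f g)⁻¹ = (f g * c * (f g)⁻¹)⁻¹ := by group
    rw [this, ← hcg]
    group
  have e7 : f g * c * (f g)⁻¹ = c := by rw [← hcg]; group
  have e8 : f g * c' * (f g)⁻¹ = c' := by
    calc f g * c' * (f g)⁻¹ = (f g * f t) * c * (f g * f t)⁻¹ := by rw [hc'def]; group
      _ = z⁻¹ * (f t * (f g * c * (f g)⁻¹) * (f t)⁻¹) * z := by rw [e5]; group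
      _ = z⁻¹ * (c' * z) := by rw [e7, hc'def]; group
      _ = c' := by rw [← hcz c' hc']; group
  calc f g * (c⁻¹ * c') * (f g)⁻¹ = (f g * c⁻¹ * (f g)⁻¹) * (f g * c' * (f g)⁻¹) := by group
    _ = c⁻¹ * c' := by rw [e6, e8]

open scoped Classical in
/-- Sums over `H`. -/
theorem sum_eq' {H K : Type*} [Group H] [Fintype H] [Group K] [Fintype K] {f : K →* H}
    {π : H →* K} (hsec : ∀ k, π (f k) = k) (F : H → ℂ) :
    ∑ x : H, F x = ∑ k : K, ∑ v : π.ker, F ((v : H) * f k) := by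
  rw [← Fintype.sum_prod_type' (f := fun (k : K) (v : π.ker) => F ((v : H) * f k))]
  symm
  refine Fintype.sum_bijective (fun y : K × π.ker => (y.2 : H) * f y.1) ⟨?_, ?_⟩ _ _ fun _ => rfl
  · rintro ⟨k, v⟩ ⟨k', v'⟩ hkv
    simp only at hkv
    have h1 := congrArg π hkv
    rw [map_mul, map_mul, hsec, hsec, MonoidHom.mem_ker.1 v.2, MonoidHom.mem_ker.1 v'.2,
      one_mul, one_mul] at h1
    subst h1
    have h2 := mul_right_cancel hkv
    rw [Subtype.ext h2]
  · intro x
    refine ⟨(π x, ⟨x * (f (π x))⁻¹, ?_⟩), by simp⟩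
    rw [MonoidHom.mem_ker, map_mul, map_inv, hsec, mul_inv_cancel]

omit [N.Normal] [Fintype N] in
open scoped Classical in
/-- Sums over `H`. -/
theorem sum_eq (h : Setup f π N) (F : H → ℂ) :
    ∑ x : H, F x = ∑ k : K, ∑ v : π.ker, F ((v : H) * f k) := sum_eq' h.sec F

omit [Fintype H] [Fintype K] in
theorem sum_mul_inv {X : Type*} [Group X] [Fintype X] {ψ : X → ℂ} (hψ : IsIrrCharacter X ψ) :
    ∑ x : X, ψ x * ψ x⁻¹ = Nat.card X := by
  have h4 := classInner_irr_self hψ
  unfold classInner at h4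
  have hN0 : (Nat.card X : ℂ) ≠ 0 := by exact_mod_cast Nat.card_pos.ne'
  have h5 : ∑ m : X, ψ m * conj (ψ m) = Nat.card X := by
    field_simp at h4
    exact h4
  rw [← h5]
  exact Finset.sum_congr rfl fun x _ => by rw [isCharacter_apply_inv (isIrr_isCharacter hψ)]

open scoped Classical in
theorem sum_ker (h : Setup f π N) {θ : N → ℂ} (hθ : IsIrrCharacter N θ)
    (hinv : ∀ g : H, θ ∘ (MulAut.conjNormal g : MulAut N) = θ) {d : ℂ}
    (hd : ∀ χ : IrrCharacter H, Ov N θ χ → (χ : H → ℂ) 1 = d)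
    (χ : IrrCharacter H) (hχ : Ov N θ χ) :
    ∑ v : π.ker, (χ : H → ℂ) v * (χ : H → ℂ) (v : H)⁻¹ = Nat.card π.ker * d ^ 2 := by
  have hθ1 := isIrr_apply_one_ne_zero hθ
  have hχ1 := hd χ hχ
  have hd0 : d ≠ 0 := by
    rw [← hχ1]
    exact isIrr_apply_one_ne_zero χ.2
  have hHK : (Nat.card H : ℂ) = Nat.card π.ker * Nat.card K := by
    have h1 := sum_eq h (fun _ => (1 : ℂ))
    simp only [Finset.sum_const, Finset.card_univ, nsmul_eq_mul, mul_one] at h1
    rw [Nat.card_eq_fintype_card, Nat.card_eq_fintype_card, Nat.card_eq_fintype_card, h1]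
    ring
  let a : K → ℂ := fun k => if hk : f k ∈ N then θ ⟨f k, hk⟩ * θ ⟨f k, hk⟩⁻¹ / θ 1 ^ 2 else 0
  have h1 : ∀ (k : K) (v : π.ker), (χ : H → ℂ) ((v : H) * f k) * (χ : H → ℂ) ((v : H) * f k)⁻¹ =
      a k * ((χ : H → ℂ) v * (χ : H → ℂ) (v : H)⁻¹) := by
    intro k v
    by_cases hk : f k ∈ N
    · simp only [a, dif_pos hk]
      have e1 : (v : H) * f k = f k * v := (h.cen _ hk v v.2).symm
      have e2 := apply_mul_of_commute hθ hinv χ.2 hχ (v := (v : H))
        (fun n => h.cen n n.2 v v.2) ⟨f k, hk⟩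
      have e3 := apply_mul_of_commute hθ hinv χ.2 hχ (v := (v : H)⁻¹)
        (fun n => h.cen n n.2 _ (π.ker.inv_mem v.2)) ⟨f k, hk⟩⁻¹
      have e4 : ((v : H) * f k)⁻¹ = (f k)⁻¹ * (v : H)⁻¹ := mul_inv_rev _ _
      simp only [Subgroup.coe_inv] at e3
      rw [e4, e1, e2, e3]
      ring
    · simp only [a, dif_neg hk]
      rw [vanish_off h hθ hinv hd χ hχ v v.2 k hk, zero_mul, zero_mul]
  have h2 := sum_mul_inv χ.2
  rw [sum_eq h] at h2
  simp_rw [h1, ← Finset.mul_sum] at h2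
  rw [← Finset.sum_mul] at h2
  have h3 := sum_mul_inv (isIrr_restrict h hθ hinv hd χ hχ)
  have h4 : ∀ k : K, (χ : H → ℂ) (f k) * (χ : H → ℂ) (f k⁻¹) = a k * d ^ 2 := by
    intro k
    have := h1 k 1
    simp only [OneMemClass.coe_one, one_mul, inv_one, hχ1] at this
    rw [map_inv, this]
    ring
  rw [Finset.sum_congr rfl fun k _ => h4 k, ← Finset.sum_mul] at h3
  have hK0 : (Nat.card K : ℂ) ≠ 0 := by exact_mod_cast Nat.card_pos.ne'
  have ha0 : ∑ k : K, a k ≠ 0 := by
    intro h0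
    rw [h0, zero_mul] at h3
    exact hK0 h3.symm
  rw [hHK] at h2
  have h5 : (∑ k : K, a k) * (∑ v : π.ker, (χ : H → ℂ) v * (χ : H → ℂ) (v : H)⁻¹) =
      (∑ k : K, a k) * (Nat.card π.ker * d ^ 2) := by
    rw [h2, ← h3]
    ring
  exact mul_left_cancel₀ ha0 h5

open scoped Classical in
/-- The main result: `f K` centralizes `π.ker`. -/
theorem centralizes (h : Setup f π N) {θ : N → ℂ} (hθ : IsIrrCharacter N θ)
    (hinv : ∀ g : H, θ ∘ (MulAut.conjNormal g : MulAut N) = θ) {d : ℂ}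
    (hd : ∀ χ : IrrCharacter H, Ov N θ χ → (χ : H → ℂ) 1 = d) (k : K) (v : H)
    (hv : v ∈ π.ker) : f k * v = v * f k := by
  have := finite_irr (G := H)
  have := Fintype.ofFinite (IrrCharacter H)
  set S := Finset.univ.filter (fun χ : IrrCharacter H => Ov N θ χ) with hS
  obtain ⟨χ₀, hχ₀⟩ := Blocks.Over.exists_over N ⟨θ, hθ⟩
  have hd0 : d ≠ 0 := by
    rw [← hd χ₀ hχ₀]
    exact isIrr_apply_one_ne_zero χ₀.2
  have hθ1 := isIrr_apply_one_ne_zero hθ
  have hSpos : (S.card : ℂ) ≠ 0 := by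
    have : χ₀ ∈ S := Finset.mem_filter.2 ⟨Finset.mem_univ _, hχ₀⟩
    exact_mod_cast (Finset.card_pos.2 ⟨χ₀, this⟩).ne'
  have hK0 : (Nat.card K : ℂ) ≠ 0 := by exact_mod_cast Nat.card_pos.ne'
  -- the value of the sum at the identity
  have hA : θ 1 * indFun N θ 1 = S.card * d ^ 2 := by
    rw [← sum_over hθ hinv, ← hS, Finset.sum_congr rfl (g := fun _ => d ^ 2) ?_,
      Finset.sum_const, nsmul_eq_mul]
    intro χ hχ
    rw [hd χ (Finset.mem_filter.1 hχ).2, sq]
  have h1 : ∀ v : π.ker, ∑ t : K, θ 1 * indFun N θ (f t * v * (f t)⁻¹ * (v : H)⁻¹) =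
      Nat.card K * ∑ χ ∈ S, (χ : H → ℂ) v * (χ : H → ℂ) (v : H)⁻¹ := by
    intro v
    rw [Finset.sum_congr rfl fun t _ => (sum_over hθ hinv _).symm, Finset.sum_comm, ← hS,
      Finset.mul_sum]
    refine Finset.sum_congr rfl fun χ hχ => ?_
    have hχ' : Ov N θ χ := (Finset.mem_filter.1 hχ).2
    rw [← Finset.mul_sum, sum_conj_mul_hom f χ.2 (isIrr_restrict h hθ hinv hd χ hχ')]
    have := isIrr_apply_one_ne_zero χ.2
    field_simp
  have h2 : ∀ (v : π.ker) (t : K), θ 1 * indFun N θ (f t * v * (f t)⁻¹ * (v : H)⁻¹) =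
      if f t * v = v * f t then S.card * d ^ 2 else 0 := by
    intro v t
    split_ifs with hc
    · rw [hc, ← hA]
      congr 2
      group
    · rw [CharactersDeep.NormalInd.indFun_of_not_mem N θ, mul_zero]
      intro hN
      apply hc
      have h3 : f t * v * (f t)⁻¹ * (v : H)⁻¹ ∈ π.ker :=
        π.ker.mul_mem (Subgroup.Normal.conj_mem inferInstance _ v.2 _) (π.ker.inv_mem v.2)
      have h4 := h.le _ hN
      rw [MonoidHom.mem_ker.1 h3, map_one] at h4
      have h5 : f t * v * (f t)⁻¹ * (v : H)⁻¹ = 1 := h4.symm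
      have h6 : f t * v * (f t)⁻¹ = v := mul_inv_eq_one.1 h5
      exact mul_inv_eq_iff_eq_mul.1 h6
  have h3 : ∑ v : π.ker, ∑ t : K, (if f t * v = v * f t then (S.card * d ^ 2 : ℂ) else 0) =
      Nat.card π.ker * Nat.card K * (S.card * d ^ 2) := by
    have e1 : ∀ v : π.ker, ∑ t : K, (if f t * v = v * f t then (S.card * d ^ 2 : ℂ) else 0) =
        Nat.card K * ∑ χ ∈ S, (χ : H → ℂ) v * (χ : H → ℂ) (v : H)⁻¹ := by
      intro v
      rw [← h1 v]
      exact Finset.sum_congr rfl fun t _ => (h2 v t).symm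
    rw [Finset.sum_congr rfl fun v _ => e1 v, ← Finset.mul_sum, Finset.sum_comm,
      Finset.sum_congr rfl fun χ hχ => sum_ker h hθ hinv hd χ (Finset.mem_filter.1 hχ).2,
      Finset.sum_const, nsmul_eq_mul]
    ring
  have h4 : ∑ y : π.ker × K, (if f y.2 * y.1 = y.1 * f y.2 then (1 : ℕ) else 0) =
      ∑ y : π.ker × K, 1 := by
    have e1 : (∑ y : π.ker × K, (if f y.2 * y.1 = y.1 * f y.2 then (1 : ℂ) else 0)) =
        Nat.card π.ker * Nat.card K := by
      rw [Fintype.sum_prod_type]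
      have e2 : ∀ v : π.ker, ∀ t : K, (if f t * v = v * f t then (S.card * d ^ 2 : ℂ) else 0) =
          (S.card * d ^ 2 : ℂ) * (if f t * v = v * f t then (1 : ℂ) else 0) := by
        intro v t
        split_ifs <;> simp
      simp_rw [e2, ← Finset.mul_sum] at h3
      have h0 : (S.card * d ^ 2 : ℂ) ≠ 0 := mul_ne_zero hSpos (pow_ne_zero 2 hd0)
      rw [mul_comm] at h3
      exact mul_right_cancel₀ h0 h3
    have e3 : ((∑ y : π.ker × K, (if f y.2 * y.1 = y.1 * f y.2 then (1 : ℕ) else 0) : ℕ) : ℂ) =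
        ((∑ y : π.ker × K, 1 : ℕ) : ℂ) := by
      push_cast
      rw [e1]
      simp [Nat.card_eq_fintype_card]
    exact_mod_cast e3
  have h5 := (Finset.sum_eq_sum_iff_of_le (fun y _ => by split_ifs <;> simp)).1 h4
    ((⟨v, hv⟩ : π.ker), k) (Finset.mem_univ _)
  by_contra hc
  simp only [if_neg hc] at h5
  exact absurd h5 (by norm_num)

end Main

end Cfsg.Agent.H700.SplitDeg
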