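import Mathlib
import Cfsg.Agent.H700.SplitDeg
import Cfsg.Agent.Characters.CCBasic
import Cfsg.Agent.CharDeep.LinearChar
import Cfsg.Agent.Blocks.Fong

/-!
# Characters of split extensions of abelian groups

`π : H → K` with abelian kernel and section `f`.  Every irreducible character of `H` is induced
from the inertia group of a linear character `l` of `π.ker`, and comes from an irreducible character
of the stabilizer of `l` in `K`.
-/

set_option autoImplicit false

namespace Cfsg.Agent.H700.SplitCliff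

open Cfsg Cfsg.Agent.Characters.Core Cfsg.Agent.Characters.Clifford
open Cfsg.Agent.H700.SchurAvg Cfsg.Agent.H700.SplitDeg
open scoped ComplexConjugate

/-- A constituent of a character restricting to a multiple of the irreducible `θ` restricts to a
multiple of `θ`. -/
theorem sub_restrict {X Y : Type*} [Group X] [Group Y] [Fintype X] [Fintype Y] (j : X →* Y)
    {θ : X → ℂ} (hθ : IsIrrCharacter X θ) {χ : Y → ℂ} (hχ : IsCharacter Y χ) {c : ℂ}
    (hc : ∀ x, χ (j x) = c * θ x) {μ : Y → ℂ} (hμ : IsIrrCharacter Y μ)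
    (h : classInner χ μ ≠ 0) : ∃ c' : ℂ, ∀ x, μ (j x) = c' * θ x := by
  classical
  have := finite_irr (G := X)
  have := Fintype.ofFinite (IrrCharacter X)
  have := finite_irr (G := Y)
  have := Fintype.ofFinite (IrrCharacter Y)
  obtain ⟨a, ha, ha'⟩ := CharDeep.CliffordCorr.exists_nat_coeffs hχ
  have hres : ∀ ψ : IrrCharacter Y, IsCharacter X (fun x => (ψ : Y → ℂ) (j x)) := fun ψ =>
    isCharacter_comp j (isIrr_isCharacter ψ.2)
  have haμ : a ⟨μ, hμ⟩ ≠ 0 := by
    intro h0
    apply h
    have := ha' ⟨μ, hμ⟩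
    rw [h0, Nat.cast_zero] at this
    exact this
  have hz : ∀ ζ : IrrCharacter X, (ζ : X → ℂ) ≠ θ →
      classInner (fun x => μ (j x)) (ζ : X → ℂ) = 0 := by
    intro ζ hζ
    choose b hb using fun ψ : IrrCharacter Y => classInner_isNat (hres ψ) (isIrr_isCharacter ζ.2)
    have h2 : classInner (fun x => χ (j x)) (ζ : X → ℂ) = 0 := by
      have h3 : (fun x => χ (j x)) = c • θ := by
        funext x
        rw [hc]
        rfl
      rw [h3, classInner_smul_left, classInner_irr_ne hθ ζ.2 (fun h => hζ h.symm), mul_zero]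
    have h3 : (fun x => χ (j x)) = ∑ ψ : IrrCharacter Y,
        (a ψ : ℂ) • (fun x => (ψ : Y → ℂ) (j x)) := by
      funext x
      have h4 := congrFun ha (j x)
      simp only [Finset.sum_apply, Pi.smul_apply, smul_eq_mul] at h4 ⊢
      exact h4
    rw [h3, classInner_sum_left] at h2
    simp_rw [classInner_smul_left, hb] at h2
    have h4 : ∑ ψ : IrrCharacter Y, a ψ * b ψ = 0 := by exact_mod_cast h2
    have h5 := (Finset.sum_eq_zero_iff.1 h4) ⟨μ, hμ⟩ (Finset.mem_univ _)
    have h6 := (Nat.mul_eq_zero.1 h5).resolve_left haμ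
    have h7 := hb ⟨μ, hμ⟩
    rw [h6, Nat.cast_zero] at h7
    exact h7
  refine ⟨classInner (fun x => μ (j x)) θ, fun x => ?_⟩
  have h7 := classFunction_eq_sum (isCharacter_isClassFunction (hres ⟨μ, hμ⟩))
  rw [Finset.sum_eq_single (⟨θ, hθ⟩ : IrrCharacter X)] at h7
  · exact congrFun h7 x
  · intro ζ _ hζ
    have h8 := hz ζ (fun h => hζ (Subtype.ext h))
    show classInner (fun x => μ (j x)) (ζ : X → ℂ) • (ζ : X → ℂ) = 0
    rw [h8, zero_smul]
  · intro h
    exact absurd (Finset.mem_univ _) h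

variable {H K : Type*} [Group H] [Group K] (f : K →* H) (π : H →* K)

/-- The stabilizer in `K` of the linear character `l` of `π.ker`. -/
def stab (l : π.ker →* ℂˣ) : Subgroup K where
  carrier := {k | ∀ v : π.ker, l (MulAut.conjNormal (f k) v) = l v}
  mul_mem' := by
    intro a b ha hb v
    rw [map_mul, map_mul, MulAut.mul_apply, ha, hb]
  one_mem' := by
    intro v
    rw [map_one, map_one, MulAut.one_apply]
  inv_mem' := by
    intro a ha v
    have := ha (MulAut.conjNormal (f a⁻¹) v)
    rw [← MulAut.mul_apply, ← map_mul, ← map_mul, mul_inv_cancel, map_one, map_one,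
      MulAut.one_apply] at this
    exact this.symm

variable {f π}

theorem mem_stab {l : π.ker →* ℂˣ} {k : K} :
    k ∈ stab f π l ↔ ∀ v : π.ker, l (MulAut.conjNormal (f k) v) = l v := Iff.rfl

/-- The inertia group in `H`. -/
theorem mem_inertia (hsec : ∀ k, π (f k) = k)
    (hcomm : ∀ a ∈ π.ker, ∀ b ∈ π.ker, a * b = b * a) (l : π.ker →* ℂˣ) (x : H) :
    x ∈ (stab f π l).comap π ↔ ∀ v : π.ker, l (MulAut.conjNormal x v) = l v := by
  rw [Subgroup.mem_comap, mem_stab]
  have h1 : ∀ v : π.ker, (MulAut.conjNormal x v : π.ker) =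
      MulAut.conjNormal (f (π x)) v := by
    intro v
    apply Subtype.ext
    rw [MulAut.conjNormal_apply, MulAut.conjNormal_apply]
    have hk : x * (f (π x))⁻¹ ∈ π.ker := by
      rw [MonoidHom.mem_ker, map_mul, map_inv, hsec, mul_inv_cancel]
    have hv : f (π x) * v * (f (π x))⁻¹ ∈ π.ker := Subgroup.Normal.conj_mem inferInstance _ v.2 _
    calc x * (v : H) * x⁻¹ = (x * (f (π x))⁻¹) * (f (π x) * v * (f (π x))⁻¹) *
          (x * (f (π x))⁻¹)⁻¹ := by group
      _ = f (π x) * v * (f (π x))⁻¹ := by rw [hcomm _ hk _ hv]; group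
  simp only [h1]

theorem exists_stab [Fintype H] [Fintype K] (hsec : ∀ k, π (f k) = k)
    (hcomm : ∀ a ∈ π.ker, ∀ b ∈ π.ker, a * b = b * a) {χ : H → ℂ} (hχ : IsIrrCharacter H χ)
    (N : Subgroup H) (hN : N ≤ Subgroup.centralizer (π.ker : Set H)) [N.Normal] [Fintype N]
    {θ : N → ℂ} (hθ : IsIrrCharacter N θ)
    (hinv : ∀ g : H, θ ∘ (MulAut.conjNormal g : MulAut N) = θ) (hov : Ov N θ χ) :
    ∃ (l : π.ker →* ℂˣ) (ψ : stab f π l → ℂ), IsIrrCharacter (stab f π l) ψ ∧
      χ 1 = (stab f π l).index * ψ 1 ∧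
      ∃ c : ℂ, ∀ (k : stab f π l) (hk : f k ∈ N), ψ k = c * θ ⟨f k, hk⟩ := by
  classical
  have := finite_irr (G := π.ker)
  have := Fintype.ofFinite (IrrCharacter π.ker)
  -- a constituent of the restriction to the kernel
  obtain ⟨lam, hlam⟩ := Blocks.Fong.exists_constituent π.ker ⟨χ, hχ⟩
  obtain ⟨l, hl⟩ := Characters.CCBasic.exists_hom_of_comm
    (fun a b : π.ker => Subtype.ext (hcomm a a.2 b b.2)) lam.2
  have hkn : π.ker.Normal := inferInstance
  have hT : ∀ g : H, g ∈ (stab f π l).comap π ↔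
      ∀ n : π.ker, (lam : π.ker → ℂ) ⟨g * (n : H) * g⁻¹, hkn.conj_mem (n : H) n.2 g⟩ =
        (lam : π.ker → ℂ) n := by
    intro g
    rw [mem_inertia hsec hcomm, hl]
    constructor
    · intro h n
      have := h n
      exact congrArg Units.val this
    · intro h n
      exact Units.ext (h n)
  have hle : π.ker ≤ (stab f π l).comap π := by
    intro x hx
    rw [Subgroup.mem_comap, MonoidHom.mem_ker.1 hx]
    exact Subgroup.one_mem _
  set I := (stab f π l).comap π with hI
  have := Fintype.ofFinite I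
  obtain ⟨μ, hμ, hind, hmul⟩ := CharDeep.CliffordCorr.clifford_correspondence π.ker
    (lam : π.ker → ℂ) lam.2 I hT hle χ hχ hlam
  -- the structure of `I`
  let πI : I →* stab f π l := π.subgroupComap (stab f π l)
  have hπI : ∀ x : I, ((πI x : stab f π l) : K) = π x := fun x => rfl
  let fI : stab f π l →* I :=
    { toFun := fun k => ⟨f k, by rw [hI, Subgroup.mem_comap, hsec]; exact k.2⟩
      map_one' := by
        apply Subtype.ext
        simp
      map_mul' := fun a b => by
        apply Subtype.ext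
        simp }
  have hfI : ∀ k : stab f π l, ((fI k : I) : H) = f k := fun k => rfl
  have hsecI : ∀ k, πI (fI k) = k := fun k => Subtype.ext (by rw [hπI, hfI, hsec])
  let j : πI.ker →* π.ker :=
    { toFun := fun n => ⟨((n : I) : H), by
        rw [MonoidHom.mem_ker, ← hπI, MonoidHom.mem_ker.1 n.2]
        rfl⟩
      map_one' := rfl
      map_mul' := fun a b => rfl }
  have hj : ∀ n : πI.ker, ((j n : π.ker) : H) = ((n : I) : H) := fun n => rfl
  have hjb : Function.Bijective j := by
    constructor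
    · intro a b hab
      apply Subtype.ext
      apply Subtype.ext
      rw [← hj, ← hj, hab]
    · intro v
      refine ⟨⟨⟨(v : H), hle v.2⟩, ?_⟩, rfl⟩
      rw [MonoidHom.mem_ker]
      apply Subtype.ext
      rw [hπI]
      exact MonoidHom.mem_ker.1 v.2
  let e : πI.ker ≃* π.ker := MulEquiv.ofBijective j hjb
  have hθ' : IsIrrCharacter πI.ker (fun n => (lam : π.ker → ℂ) (j n)) :=
    isIrr_comp j hjb.2 lam.2
  have hinv' : ∀ g : I, (fun n => (lam : π.ker → ℂ) (j n)) ∘
      (MulAut.conjNormal g : MulAut πI.ker) = fun n => (lam : π.ker → ℂ) (j n) := by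
    intro g
    funext n
    have h1 := (hT g).1 g.2 (j n)
    simp only [Function.comp]
    rw [← h1]
    congr 1
  have hov' : Ov πI.ker (fun n => (lam : π.ker → ℂ) (j n)) μ := by
    intro h0
    apply hlam
    rw [← hmul, ← h0]
    exact (classInner_comp_mulEquiv e (fun n : π.ker => μ ⟨(n : H), hle n.2⟩)
      (lam : π.ker → ℂ)).symm
  have hμv : ∀ (v : πI.ker) (y : I), μ ((v : I) * y) = (l (j v) : ℂ) * μ y := by
    intro v y
    have h1 := sum_theta_mul hθ' hinv' hμ hov' y
    have h2 := sum_theta_mul hθ' hinv' hμ hov' ((v : I) * y)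
    have hl1 : (lam : π.ker → ℂ) (j 1) = 1 := by
      rw [hl]
      simp
    rw [hl1, div_one] at h1 h2
    have h3 : ∑ m : πI.ker, (lam : π.ker → ℂ) (j m⁻¹) * μ ((m : I) * ((v : I) * y)) =
        (l (j v) : ℂ) * ∑ m : πI.ker, (lam : π.ker → ℂ) (j m⁻¹) * μ ((m : I) * y) := by
      rw [Finset.mul_sum]
      refine Fintype.sum_equiv (Equiv.mulRight v) _ _ fun m => ?_
      simp only [Equiv.coe_mulRight, mul_inv_rev, map_mul, hl, Units.val_mul, Subgroup.coe_mul,
        mul_assoc]
      rw [← mul_assoc (l (j v) : ℂ), ← Units.val_mul, ← map_mul, ← map_mul, mul_inv_cancel,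
        map_one, map_one, Units.val_one, one_mul]
    rw [h3, h1] at h2
    have hc0 : (Nat.card πI.ker : ℂ) ≠ 0 := by exact_mod_cast Nat.card_pos.ne'
    have h4 : (Nat.card πI.ker : ℂ) * μ ((v : I) * y) =
        (Nat.card πI.ker : ℂ) * ((l (j v) : ℂ) * μ y) := by
      rw [← h2]
      ring
    exact mul_left_cancel₀ hc0 h4
  have hψc : IsCharacter (stab f π l) (fun k => μ (fI k)) :=
    isCharacter_comp fI (isIrr_isCharacter hμ)
  have hψ : IsIrrCharacter (stab f π l) (fun k => μ (fI k)) := by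
    rw [isIrr_iff_classInner_self hψc]
    have h1 := sum_mul_inv hμ
    rw [sum_eq' hsecI] at h1
    have h2 : ∀ (k : stab f π l) (v : πI.ker), μ ((v : I) * fI k) * μ ((v : I) * fI k)⁻¹ =
        μ (fI k) * μ (fI k)⁻¹ := by
      intro k v
      have h3 : μ ((v : I) * fI k)⁻¹ = μ (((v⁻¹ : πI.ker) : I) * (fI k)⁻¹) := by
        have h4 := isIrr_isClassFunction hμ (((v⁻¹ : πI.ker) : I) * (fI k)⁻¹) (fI k)⁻¹
        rw [← h4]
        congr 1
        simp only [Subgroup.coe_inv]
        group
      rw [h3, hμv, hμv, map_inv, map_inv, Units.val_inv_eq_inv_val]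
      have := (l (j v)).ne_zero
      field_simp
    simp_rw [h2, Finset.sum_const, Finset.card_univ, nsmul_eq_mul,
      ← Nat.card_eq_fintype_card] at h1
    rw [← Finset.mul_sum] at h1
    have hcard : (Nat.card I : ℂ) = Nat.card πI.ker * Nat.card (stab f π l) := by
      have h5 := sum_eq' hsecI (fun _ => (1 : ℂ))
      simp only [Finset.sum_const, Finset.card_univ, nsmul_eq_mul, mul_one,
        ← Nat.card_eq_fintype_card] at h5
      rw [h5, mul_comm]
    rw [hcard] at h1
    have hc0 : (Nat.card πI.ker : ℂ) ≠ 0 := by exact_mod_cast Nat.card_pos.ne'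
    have h6 := mul_left_cancel₀ hc0 h1
    unfold classInner
    have h7 : ∑ k : stab f π l, μ (fI k) * conj (μ (fI k)) = Nat.card (stab f π l) := by
      rw [← h6]
      refine Finset.sum_congr rfl fun k _ => ?_
      rw [isCharacter_apply_inv (isIrr_isCharacter hμ)]
    rw [h7, inv_mul_cancel₀]
    exact_mod_cast Nat.card_pos.ne'
  refine ⟨l, _, hψ, ?_, ?_⟩
  · have hidx : I.index = (stab f π l).index :=
      Subgroup.index_comap_of_surjective _ (fun k => ⟨f k, hsec k⟩)
    rw [map_one, ← hind, CharactersDeep.NormalInd.indFun_one, hidx]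
  · have hNI : N ≤ I := by
      intro n hn
      rw [hI, mem_inertia hsec hcomm]
      intro v
      congr 1
      apply Subtype.ext
      rw [MulAut.conjNormal_apply]
      have := Subgroup.mem_centralizer_iff.1 (hN hn) v v.2
      rw [← this]
      group
    obtain ⟨c, hc⟩ := sub_restrict (Subgroup.inclusion hNI) hθ
      (isCharacter_comp I.subtype (isIrr_isCharacter hχ)) (c := χ 1 / θ 1)
      (fun n => over_apply hθ hinv hχ hov n) hμ (by
        intro h0
        have h1 := CharactersDeep.NormalInd.classInner_indFun I μ χ (isIrr_isClassFunction hχ)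
        rw [hind, classInner_irr_self hχ, ← classInner_conj_symm] at h1
        have h2 : classInner (fun h : I => χ h) μ = 0 := h0
        rw [h2, map_zero] at h1
        exact one_ne_zero h1)
    refine ⟨c, fun k hk => ?_⟩
    have := hc ⟨f k, hk⟩
    rw [← this]
    rfl

/-- If all `|K : K_l| ψ(1)`, with `l` a linear character of `π.ker` and `ψ` an irreducible character
of its stabilizer over `θ`, are equal, then `K` centralizes `π.ker`. -/
theorem centralizes_of_stab [Fintype H] [Fintype K] {N : Subgroup H} [N.Normal] [Fintype N]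
    (h : Setup f π N) {θ : N → ℂ} (hθ : IsIrrCharacter N θ)
    (hinv : ∀ g : H, θ ∘ (MulAut.conjNormal g : MulAut N) = θ) {d : ℂ}
    (hd : ∀ (l : π.ker →* ℂˣ) (ψ : stab f π l → ℂ), IsIrrCharacter (stab f π l) ψ →
      (∃ c : ℂ, ∀ (k : stab f π l) (hk : f k ∈ N), ψ k = c * θ ⟨f k, hk⟩) →
      (stab f π l).index * ψ 1 = d) (k : K) (v : H) (hv : v ∈ π.ker) : f k * v = v * f k := by
  refine centralizes h hθ hinv (d := d) (fun χ hχ => ?_) k v hv
  obtain ⟨l, ψ, hψ, h1, h2⟩ := exists_stab h.sec h.comm χ.2 N (fun n hn => by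
    rw [Subgroup.mem_centralizer_iff]
    intro v hv
    exact (h.cen n hn v hv).symm) hθ hinv hχ
  rw [h1]
  exact hd l ψ hψ h2

end Cfsg.Agent.H700.SplitCliff
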