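import Mathlib
import Cfsg.Agent.H700.NormData
import Cfsg.Agent.H700.SplitCliff
import Cfsg.Agent.S1489

/-!
# A block with normal defect group: inertia groups and characters over the canonical character
-/

set_option autoImplicit false

namespace Cfsg.Agent.H700.NormInertia

open Cfsg Cfsg.Agent.Characters.Core Cfsg.Agent.Characters.Clifford
open Cfsg.Agent.Blocks.CentralProduct
open Cfsg.Agent.H700.NormData Cfsg.Agent.H700.SchurAvg
open scoped ComplexConjugate

universe u

variable {G : Type u} [Group G] {p : ℕ} {M : Ideal AlgInt}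

/-- The inertia group of `θ`. -/
def inertia (N : Subgroup G) [N.Normal] (θ : N → ℂ) : Subgroup G where
  carrier := {g | ∀ n : N, θ (MulAut.conjNormal g n) = θ n}
  mul_mem' := by
    intro a b ha hb n
    rw [map_mul, MulAut.mul_apply, ha, hb]
  one_mem' := by
    intro n
    rw [map_one, MulAut.one_apply]
  inv_mem' := by
    intro a ha n
    have := ha (MulAut.conjNormal a⁻¹ n)
    rw [← MulAut.mul_apply, ← map_mul, mul_inv_cancel, map_one, MulAut.one_apply] at this
    exact this.symm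

theorem mem_inertia {N : Subgroup G} [N.Normal] {θ : N → ℂ} {g : G} :
    g ∈ inertia N θ ↔ ∀ n : N, θ (MulAut.conjNormal g n) = θ n := Iff.rfl

theorem le_inertia {N : Subgroup G} [N.Normal] {θ : N → ℂ} (hθ : IsClassFunction N θ) :
    N ≤ inertia N θ := by
  intro g hg
  rw [mem_inertia]
  intro n
  have h1 := hθ n ⟨g, hg⟩
  rw [← h1]
  congr 1

variable {B : Set (IrrCharacter G)} {D N : Subgroup G} [hDn : D.Normal] [hNn : N.Normal]
  {b : Set (IrrCharacter N)} {θ : IrrCharacter N}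

omit [hNn : N.Normal] in
theorem mem_inertia_lin {w : D →* ℂˣ} {g : G} :
    g ∈ inertia D (fun u => (w u : ℂ)) ↔ ∀ u : D, w (MulAut.conjNormal g u) = w u := by
  rw [mem_inertia]
  exact ⟨fun h u => Units.ext (h u), fun h u => congrArg Units.val (h u)⟩

omit [hNn : N.Normal] in
/-- `N` fixes the linear characters of `D`. -/
theorem Data.le_inertia_lin (h : Data p M B D N b θ) (w : D →* ℂˣ) :
    N ≤ inertia D (fun u => (w u : ℂ)) := by
  intro n hn
  rw [mem_inertia_lin]
  intro u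
  obtain ⟨d, hd, c, hc, rfl⟩ := exists_mul h.eqN hn
  have h1 : MulAut.conjNormal (d * c) u = (⟨d, hd⟩ : D) * u * (⟨d, hd⟩ : D)⁻¹ := by
    apply Subtype.ext
    rw [MulAut.conjNormal_apply]
    have h2 := Subgroup.mem_centralizer_iff.1 hc u u.2
    simp only [Subgroup.coe_mul, Subgroup.coe_inv]
    calc d * c * (u : G) * (d * c)⁻¹ = d * (c * u) * c⁻¹ * d⁻¹ := by group
      _ = d * (u * c) * c⁻¹ * d⁻¹ := by rw [h2]
      _ = d * u * d⁻¹ := by group
  rw [h1, map_mul, map_mul, map_inv, mul_comm, ← mul_assoc, inv_mul_cancel, one_mul]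

theorem orderOf_conjNormal (N : Subgroup G) [N.Normal] (g : G) (y : N) :
    orderOf (MulAut.conjNormal g y : N) = orderOf y := (MulAut.conjNormal g).orderOf_eq y

theorem prodSet_conj (g : G) {n : N} (hn : n ∈ prodSet p (D.subgroupOf N)) :
    MulAut.conjNormal g n ∈ prodSet p (D.subgroupOf N) := by
  obtain ⟨u, hu, y, hy, rfl⟩ := hn
  refine ⟨MulAut.conjNormal g u, ?_, MulAut.conjNormal g y, ?_, map_mul _ _ _⟩
  · rw [Subgroup.mem_subgroupOf, MulAut.conjNormal_apply]
    exact hDn.conj_mem _ (Subgroup.mem_subgroupOf.1 hu) g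
  · rwa [orderOf_conjNormal]

theorem prodSet_conj_iff (g : G) (n : N) : MulAut.conjNormal g n ∈ prodSet p (D.subgroupOf N) ↔
    n ∈ prodSet p (D.subgroupOf N) := by
  refine ⟨fun h => ?_, prodSet_conj g⟩
  have := prodSet_conj (p := p) g⁻¹ h
  rwa [← MulAut.mul_apply, ← map_mul, inv_mul_cancel, map_one, MulAut.one_apply] at this

variable [Finite G] [Fact p.Prime]

/-- The inertia group of the twisted canonical character. -/
theorem Data.mem_inertia_twist (hM : IsPModular p M) (h : Data p M B D N b θ) (w : D →* ℂˣ)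
    {φ : IrrCharacter N} (hφ1 : ∀ (u : G) (hu : u ∈ D) (y : N), ¬ p ∣ orderOf y →
      (φ : N → ℂ) (⟨u, h.le hu⟩ * y) = (w ⟨u, hu⟩ : ℂ) * (θ : N → ℂ) y)
    (hφ0 : ∀ g : N, g ∉ prodSet p (D.subgroupOf N) → (φ : N → ℂ) g = 0) (g : G) :
    g ∈ inertia N (φ : N → ℂ) ↔
      g ∈ inertia N (θ : N → ℂ) ∧ g ∈ inertia D (fun u => (w u : ℂ)) := by
  have hp1 : ¬ p ∣ orderOf (1 : N) := not_dvd_orderOf_one
  have hconj : ∀ (u : G) (hu : u ∈ D) (y : N), MulAut.conjNormal g (⟨u, h.le hu⟩ * y) =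
      ⟨g * u * g⁻¹, h.le (hDn.conj_mem u hu g)⟩ * MulAut.conjNormal g y := by
    intro u hu y
    rw [map_mul]
    congr 1
  have hwconj : ∀ (u : G) (hu : u ∈ D), (MulAut.conjNormal g (⟨u, hu⟩ : D) : D) =
      ⟨g * u * g⁻¹, hDn.conj_mem u hu g⟩ := by
    intro u hu
    apply Subtype.ext
    rw [MulAut.conjNormal_apply]
  constructor
  · intro hg
    rw [mem_inertia] at hg
    have hreg : ∀ y : N, ¬ p ∣ orderOf y →
        (θ : N → ℂ) (MulAut.conjNormal g y) = (θ : N → ℂ) y := by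
      intro y hy
      have h1 := hg (⟨1, h.le D.one_mem⟩ * y)
      rw [hconj 1 D.one_mem, hφ1 1 D.one_mem y hy,
        hφ1 (g * 1 * g⁻¹) (hDn.conj_mem 1 D.one_mem g) _ (by rwa [orderOf_conjNormal])] at h1
      have h2 : (⟨g * 1 * g⁻¹, hDn.conj_mem 1 D.one_mem g⟩ : D) = 1 := by
        apply Subtype.ext
        simp
      have h3 : (⟨1, D.one_mem⟩ : D) = 1 := rfl
      rw [h2, h3, map_one, Units.val_one, one_mul, one_mul] at h1
      exact h1
    refine ⟨?_, ?_⟩
    · rw [mem_inertia]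
      intro n
      by_cases hn : n ∈ prodSet p (D.subgroupOf N)
      · obtain ⟨u, hu, y, hy, rfl⟩ := hn
        have hu' := Subgroup.mem_subgroupOf.1 hu
        have e : u = ⟨(u : G), h.le hu'⟩ := rfl
        rw [e, hconj _ hu', h.apply_mul hM _ hu' y hy,
          h.apply_mul hM _ (hDn.conj_mem _ hu' g) _ (by rwa [orderOf_conjNormal]), hreg y hy]
      · rw [(h.exists_eq hM h.mem).2 n hn, (h.exists_eq hM h.mem).2 _
          (by rwa [prodSet_conj_iff])]
    · rw [mem_inertia_lin]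
      rintro ⟨u, hu⟩
      have h1 := hg (⟨u, h.le hu⟩ * 1)
      rw [hconj u hu, hφ1 u hu 1 hp1, hφ1 _ (hDn.conj_mem u hu g) _ (by rwa [orderOf_conjNormal]),
        map_one, ← hwconj u hu] at h1
      exact Units.ext (mul_right_cancel₀ (isIrr_apply_one_ne_zero θ.2) h1)
  · rintro ⟨hg1, hg2⟩
    rw [mem_inertia] at hg1 ⊢
    rw [mem_inertia_lin] at hg2
    intro n
    by_cases hn : n ∈ prodSet p (D.subgroupOf N)
    · obtain ⟨u, hu, y, hy, rfl⟩ := hn
      have hu' := Subgroup.mem_subgroupOf.1 hu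
      have e : u = ⟨(u : G), h.le hu'⟩ := rfl
      rw [e, hconj _ hu', hφ1 _ hu' y hy, hφ1 _ (hDn.conj_mem _ hu' g) _ (by rwa [orderOf_conjNormal]),
        ← hwconj _ hu', hg2, hg1]
    · rw [hφ0 n hn, hφ0 _ (by rwa [prodSet_conj_iff])]

omit [Finite G] in
/-- The characters of `G` over a member of `b` lie in `B`. -/
theorem Data.mem_of_over [Fintype G] [Fintype N] (hM : IsPModular p M) (hB : IsPBlock M B)
    (h : Data p M B D N b θ) {φ : IrrCharacter N} (hφ : φ ∈ b) {χ : IrrCharacter G}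
    (hχ : classInner (fun n : N => (χ : G → ℂ) n) (φ : N → ℂ) ≠ 0) : χ ∈ B := by
  have hprime : M.IsPrime := hM.2.1.isPrime
  obtain ⟨χ₀, hχ₀, h0⟩ := S0934.result p M hM N b B h.ind θ h.mem
  have hU := H646.UCov.ucov_of_centralizer_le hM D h.isPGroup N h.centralizer_le
  have h1 := hU θ φ (Blocks.Basic.isPBlock_sameBlock h.blk h.mem hφ) χ₀ χ h0 hχ
  exact Blocks.Basic.isPBlock_mem_of_sameBlock hB hχ₀ h1

omit [Finite G] [Fact p.Prime] hDn hNn in
/-- The character induced from an irreducible `ψ` of `S` over `φ` lies over `φ`. -/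
theorem over_indFun [Fintype G] [Fintype N] {S : Subgroup G} (hNS : N ≤ S) [Fintype S]
    {ψ : S → ℂ} (hψ : IsIrrCharacter S ψ) {φ : N → ℂ} (hφ : IsIrrCharacter N φ)
    (hover : classInner (fun n : N => ψ ⟨n, hNS n.2⟩) φ ≠ 0)
    (hirr : IsIrrCharacter G (indFun S ψ)) :
    classInner (fun n : N => indFun S ψ n) φ ≠ 0 := by
  classical
  have := finite_irr (G := S)
  have := Fintype.ofFinite (IrrCharacter S)
  obtain ⟨a, ha, ha'⟩ := CharDeep.CliffordCorr.exists_nat_coeffs
    (isCharacter_comp S.subtype (isIrr_isCharacter hirr))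
  have haψ : a ⟨ψ, hψ⟩ ≠ 0 := by
    intro h0
    have h1 := ha' ⟨ψ, hψ⟩
    rw [h0, Nat.cast_zero] at h1
    have h2 := CharactersDeep.NormalInd.classInner_indFun S ψ (indFun S ψ)
      (isIrr_isClassFunction hirr)
    rw [classInner_irr_self hirr, ← classInner_conj_symm] at h2
    have h3 : classInner (fun h : S => indFun S ψ h) ψ = 0 := h1
    rw [h3, map_zero] at h2
    exact one_ne_zero h2
  have hres : ∀ η : IrrCharacter S, IsCharacter N (fun n : N => (η : S → ℂ) ⟨n, hNS n.2⟩) :=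
    fun η => isCharacter_comp (Subgroup.inclusion hNS) (isIrr_isCharacter η.2)
  choose k hk using fun η : IrrCharacter S => classInner_isNat (hres η) (isIrr_isCharacter hφ)
  have h3 : (fun n : N => indFun S ψ n) = ∑ η : IrrCharacter S,
      (a η : ℂ) • (fun n : N => (η : S → ℂ) ⟨n, hNS n.2⟩) := by
    funext n
    have h4 := congrFun ha ⟨(n : G), hNS n.2⟩
    simp only [Finset.sum_apply, Pi.smul_apply, smul_eq_mul] at h4 ⊢
    exact h4
  rw [h3, classInner_sum_left]
  simp_rw [classInner_smul_left, hk]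
  intro h4
  have h5 : ∑ η : IrrCharacter S, a η * k η = 0 := by exact_mod_cast h4
  have h6 := (Finset.sum_eq_zero_iff.1 h5) ⟨ψ, hψ⟩ (Finset.mem_univ _)
  have h7 := (Nat.mul_eq_zero.1 h6).resolve_left haψ
  apply hover
  have h8 := hk ⟨ψ, hψ⟩
  rw [h7, Nat.cast_zero] at h8
  exact h8

end Cfsg.Agent.H700.NormInertia
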