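import Mathlib
import Cfsg.Agent.H700.SplitCliff

/-!
# A criterion for a `p'`-group of automorphisms to be trivial

`T` is a finite group with normal `p`-subgroup `D`, and `N` the subgroup of the elements acting
trivially on `D/D'`.
-/

set_option autoImplicit false

namespace Cfsg.Agent.H700.SplitSemi

open Cfsg Cfsg.Agent.Characters.Core
open Cfsg.Agent.H700.SchurAvg Cfsg.Agent.H700.SplitDeg Cfsg.Agent.H700.SplitCliff

variable {T : Type*} [Group T] (D : Subgroup T) [D.Normal]

/-- The action on the abelianization of a normal subgroup. -/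
def act : T →* MulAut (Abelianization D) where
  toFun t := (MulAut.conjNormal t : MulAut D).abelianizationCongr
  map_one' := by
    ext a
    induction a using QuotientGroup.induction_on with
    | H u => 
      rw [map_one]
      rfl
  map_mul' a b := by
    ext x
    induction x using QuotientGroup.induction_on with
    | H u => 
      rw [map_mul]
      rfl

theorem act_of (t : T) (u : D) :
    act D t (Abelianization.of u) = Abelianization.of (MulAut.conjNormal t u) := rfl

variable {D}

/-- Main result. -/
theorem main [Fintype T] {p : ℕ} (hp : p.Prime) (hD : IsPGroup p D) (N : Subgroup T) [N.Normal]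
    [Fintype N] (hN : ∀ t : T, t ∈ N ↔
      ∀ u : D, (Abelianization.of (MulAut.conjNormal t u : D) : Abelianization D) =
        Abelianization.of u)
    (hidx : ¬ p ∣ N.index) {θ : N → ℂ} (hθ : IsIrrCharacter N θ)
    (hinv : ∀ g : T, θ ∘ (MulAut.conjNormal g : MulAut N) = θ) {d : ℂ}
    (hd : ∀ (w : D →* ℂˣ) (S : Subgroup T),
      (∀ t : T, t ∈ S ↔ ∀ u : D, w (MulAut.conjNormal t u) = w u) →
      ∀ ψ : S → ℂ, IsIrrCharacter S ψ →
        (∃ c : ℂ, ∀ (k : S) (hk : (k : T) ∈ N), ψ k = c * θ ⟨k, hk⟩) → S.index * ψ 1 = d) :
    N = ⊤ := by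
  classical
  have : Finite (Abelianization D) := inferInstance
  let A := Abelianization D
  let H := A ⋊[act D] T
  have hfin : Finite H := Finite.of_equiv _ SemidirectProduct.equivProd.symm
  have : Fintype H := Fintype.ofFinite H
  let f : T →* H := SemidirectProduct.inr
  let π : H →* T := SemidirectProduct.rightHom
  have hsec : ∀ k, π (f k) = k := fun k => SemidirectProduct.rightHom_inr k
  have hker : ∀ v ∈ π.ker, ∃ a : A, v = SemidirectProduct.inl a := by
    intro v hv
    refine ⟨v.left, ?_⟩
    have h1 : v.right = 1 := MonoidHom.mem_ker.1 hv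
    ext
    · simp
    · simp [h1]
  have hinl : ∀ a : A, (SemidirectProduct.inl a : H) ∈ π.ker := fun a => by
    rw [MonoidHom.mem_ker]
    exact SemidirectProduct.rightHom_inl a
  have hact : ∀ t : T, t ∈ N ↔ ∀ a : A, act D t a = a := by
    intro t
    rw [hN]
    constructor
    · intro h a
      obtain ⟨u, rfl⟩ := QuotientGroup.mk_surjective a
      exact h u
    · intro h u
      exact h (Abelianization.of u)
  have hconj : ∀ (t : T) (a : A), f t * (SemidirectProduct.inl a : H) * (f t)⁻¹ =
      SemidirectProduct.inl (act D t a) := fun t a => by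
    rw [← map_inv]
    exact (SemidirectProduct.inl_aut t a).symm
  have hcommN : ∀ n ∈ N, ∀ a : A, f n * (SemidirectProduct.inl a : H) =
      SemidirectProduct.inl a * f n := by
    intro n hn a
    have := hconj n a
    rw [(hact n).1 hn] at this
    exact mul_inv_eq_iff_eq_mul.1 this
  let N' : Subgroup H := N.map f
  have hN' : N'.Normal := by
    constructor
    rintro _ ⟨n, hn, rfl⟩ g
    have hn' : g.right * n * g.right⁻¹ ∈ N := Subgroup.Normal.conj_mem inferInstance n hn _
    refine ⟨g.right * n * g.right⁻¹, hn', ?_⟩
    have h1 : g = SemidirectProduct.inl g.left * f g.right :=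
      (SemidirectProduct.inl_left_mul_inr_right g).symm
    have h2 := hcommN _ hn' g.left
    conv_rhs => rw [h1]
    calc f (g.right * n * g.right⁻¹)
        = f (g.right * n * g.right⁻¹) * SemidirectProduct.inl g.left *
            (SemidirectProduct.inl g.left)⁻¹ := by group
      _ = SemidirectProduct.inl g.left * f (g.right * n * g.right⁻¹) *
            (SemidirectProduct.inl g.left)⁻¹ := by rw [h2]
      _ = SemidirectProduct.inl g.left * f g.right * f n *
            (SemidirectProduct.inl g.left * f g.right)⁻¹ := by
          rw [map_mul, map_mul, map_inv]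
          group
  have := Fintype.ofFinite N'
  have hsetup : Setup f π N' := by
    refine ⟨hsec, ?_, ?_, ?_, ?_, ?_⟩
    · intro a ha b hb
      obtain ⟨a, rfl⟩ := hker a ha
      obtain ⟨b, rfl⟩ := hker b hb
      rw [← map_mul, ← map_mul, mul_comm]
    · rintro _ ⟨n, hn, rfl⟩
      rw [hsec]
    · rintro _ ⟨n, hn, rfl⟩ v hv
      obtain ⟨a, rfl⟩ := hker v hv
      exact hcommN n hn a
    · intro k hk
      refine ⟨k, (hact k).2 fun a => ?_, rfl⟩
      have h1 := hk _ (hinl a)
      have h2 := hconj k a
      rw [h1, mul_inv_cancel_right] at h2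
      exact (SemidirectProduct.inl_injective h2).symm
    · intro k
      refine ⟨N.index, ?_, ?_⟩
      · have hA : IsPGroup p A := hD.to_quotient _
        have hpk : IsPGroup p π.ker := by
          intro v
          obtain ⟨a, ha⟩ := hker v v.2
          obtain ⟨k, hk⟩ := hA a
          refine ⟨k, Subtype.ext ?_⟩
          rw [Subgroup.coe_pow, ha, ← map_pow, hk, map_one]
          rfl
        have : Fact p.Prime := ⟨hp⟩
        obtain ⟨m, hm⟩ := IsPGroup.iff_card.1 hpk
        rw [hm]
        exact Nat.Coprime.pow_right m ((Nat.Prime.coprime_iff_not_dvd hp).2 hidx).symm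
      · rw [← map_pow]
        exact ⟨_, Subgroup.pow_index_mem N k, rfl⟩
  -- the character
  let j : N' →* N :=
    { toFun := fun n => ⟨π n, by
        obtain ⟨m, hm, hm'⟩ := n.2
        rw [← hm', hsec]
        exact hm⟩
      map_one' := rfl
      map_mul' := fun a b => rfl }
  have hj : ∀ n : N', ((j n : N) : T) = π n := fun n => rfl
  have hjs : Function.Surjective j := by
    intro n
    exact ⟨⟨f n, n, n.2, rfl⟩, Subtype.ext (hsec _)⟩
  have hθ' : IsIrrCharacter N' (fun n => θ (j n)) := isIrr_comp j hjs hθ
  have hinv' : ∀ g : H, (fun n => θ (j n)) ∘ (MulAut.conjNormal g : MulAut N') =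
      fun n => θ (j n) := by
    intro g
    funext n
    have h1 := congrFun (hinv (π g)) (j n)
    simp only [Function.comp] at h1 ⊢
    rw [← h1]
    congr 1
  have hcen := centralizes_of_stab hsetup hθ' hinv' (d := d) (by
    intro l ψ hψ hc
    let w : D →* ℂˣ := l.comp ((SemidirectProduct.inl.codRestrict π.ker hinl).comp
      Abelianization.of)
    have hw : ∀ u : D, w u = l ⟨SemidirectProduct.inl (Abelianization.of u), hinl _⟩ :=
      fun u => rfl
    refine hd w (stab f π l) ?_ ψ hψ ?_
    · intro t
      rw [mem_stab]
      constructor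
      · intro h u
        rw [hw, hw, ← h ⟨SemidirectProduct.inl (Abelianization.of u), hinl _⟩]
        congr 1
        apply Subtype.ext
        rw [MulAut.conjNormal_apply]
        exact (hconj t (Abelianization.of u)).symm
      · intro h v
        obtain ⟨a, ha⟩ := hker v v.2
        obtain ⟨u, rfl⟩ := QuotientGroup.mk_surjective a
        have h1 := h u
        rw [hw, hw] at h1
        have h2 : v = ⟨SemidirectProduct.inl (Abelianization.of u), hinl _⟩ := Subtype.ext ha
        rw [h2, ← h1]
        congr 1
        apply Subtype.ext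
        rw [MulAut.conjNormal_apply]
        exact (hconj t (Abelianization.of u))
    · obtain ⟨c, hc⟩ := hc
      refine ⟨c, fun k hk => ?_⟩
      rw [hc k ⟨k, hk, rfl⟩]
      congr 2)
  rw [eq_top_iff]
  intro t _
  rw [hact]
  intro a
  have h1 := hcen t (SemidirectProduct.inl a) (hinl a)
  have h2 := hconj t a
  rw [h1, mul_inv_cancel_right] at h2
  exact (SemidirectProduct.inl_injective h2).symm

end Cfsg.Agent.H700.SplitSemi
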