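import Mathlib
import Cfsg.Agent.H700.NormInertia
import Cfsg.Agent.H700.SplitSemi

/-!
# A block with normal defect group: degrees of the height zero characters
-/

set_option autoImplicit false

namespace Cfsg.Agent.H700.NormDeg

open Cfsg Cfsg.Agent.Characters.Core Cfsg.Agent.Characters.Clifford
open Cfsg.Agent.Blocks.CentralProduct
open Cfsg.Agent.H700.NormData Cfsg.Agent.H700.SchurAvg Cfsg.Agent.H700.NormInertia
open scoped ComplexConjugate

universe u

variable {G : Type u} [Group G] {p : ℕ} {M : Ideal AlgInt}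

theorem mem_inertia' {N : Subgroup G} [hN : N.Normal] {θ : N → ℂ} {g : G} :
    g ∈ inertia N θ ↔ ∀ n : N, θ ⟨g * n * g⁻¹, hN.conj_mem n n.2 g⟩ = θ n := by
  rw [mem_inertia]
  have : ∀ n : N, (MulAut.conjNormal g n : N) = ⟨g * n * g⁻¹, hN.conj_mem n n.2 g⟩ := fun n =>
    Subtype.ext (MulAut.conjNormal_apply g n)
  simp only [this]

variable [Fintype G] [Fact p.Prime] {B : Set (IrrCharacter G)} {D N : Subgroup G}
  [hDn : D.Normal] [hNn : N.Normal] [Fintype N] {b : Set (IrrCharacter N)} {θ : IrrCharacter N}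

omit [Fact p.Prime] hDn in
/-- Restriction of a character of `S` over `θ`. -/
theorem restrict_eq {S : Subgroup G}
    (hNS : N ≤ S) (hS : S ≤ inertia N (θ : N → ℂ)) {ψ : S → ℂ} (hψ : IsIrrCharacter S ψ)
    (hov : classInner (fun n : N => ψ ⟨n, hNS n.2⟩) (θ : N → ℂ) ≠ 0) (n : N) :
    ψ ⟨n, hNS n.2⟩ = classInner (fun n : N => ψ ⟨n, hNS n.2⟩) (θ : N → ℂ) * (θ : N → ℂ) n :=
  CharDeep.CliffordCorr.restrict_eq_mul_of_invariant N S hNS hψ θ.2
    (fun _ hg => mem_inertia'.1 (hS hg)) hov n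

omit [Fact p.Prime] hDn in
theorem apply_of_mem (h : Data p M B D N b θ) {S : Subgroup G}
    (hNS : N ≤ S) (hS : S ≤ inertia N (θ : N → ℂ)) {ψ : S → ℂ} (hψ : IsIrrCharacter S ψ)
    (hov : classInner (fun n : N => ψ ⟨n, hNS n.2⟩) (θ : N → ℂ) ≠ 0) (u : S)
    (hu : (u : G) ∈ D) : ψ u = ψ 1 := by
  have h1 := restrict_eq hNS hS hψ hov ⟨u, h.le hu⟩
  have h2 := restrict_eq hNS hS hψ hov 1
  rw [h.ker _ (Subgroup.mem_subgroupOf.2 hu)] at h1
  exact h1.trans h2.symm

omit [Fact p.Prime] in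
theorem fac_le (h : Data p M B D N b θ) {S : Subgroup G}
    (hNS : N ≤ S) (hS : S ≤ inertia N (θ : N → ℂ)) {ψ : S → ℂ} (hψ : IsIrrCharacter S ψ)
    (hov : classInner (fun n : N => ψ ⟨n, hNS n.2⟩) (θ : N → ℂ) ≠ 0) :
    (charDegree ψ).factorization p ≤ (D.subgroupOf S).index.factorization p := by
  classical
  have := Fintype.ofFinite (D.subgroupOf S)
  obtain ⟨ψb, hψb⟩ := Blocks.Deflate.exists_deflation (D.subgroupOf S) ψ hψ (by
    have h1 : ∀ n : D.subgroupOf S, ψ n = ψ 1 := fun n =>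
      apply_of_mem h hNS hS hψ hov n (Subgroup.mem_subgroupOf.1 n.2)
    rw [Finset.sum_congr rfl fun n _ => h1 n, Finset.sum_const, nsmul_eq_mul]
    refine mul_ne_zero ?_ (isIrr_apply_one_ne_zero hψ)
    exact_mod_cast Finset.card_ne_zero_of_mem (Finset.mem_univ (1 : D.subgroupOf S)))
  obtain ⟨n, hn0, hn⟩ := isIrr_apply_one ψb.2
  have h1 : ψ 1 = n := by
    rw [hψb]
    exact hn
  have h2 : n ∣ (D.subgroupOf S).index := degree_dvd_card ψb.2 hn
  rw [charDegree_eq h1]
  exact (Nat.factorization_le_iff_dvd hn0.ne' Subgroup.index_ne_zero_of_finite).2 h2 p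

omit [Fact p.Prime] hDn in
theorem dvd_degree {S : Subgroup G}
    (hNS : N ≤ S) (hS : S ≤ inertia N (θ : N → ℂ)) {ψ : S → ℂ} (hψ : IsIrrCharacter S ψ)
    (hov : classInner (fun n : N => ψ ⟨n, hNS n.2⟩) (θ : N → ℂ) ≠ 0) :
    charDegree (θ : N → ℂ) ∣ charDegree ψ := by
  obtain ⟨k, hk⟩ := classInner_isNat (isCharacter_comp (Subgroup.inclusion hNS)
    (isIrr_isCharacter hψ)) (isIrr_isCharacter θ.2)
  have h2 := restrict_eq hNS hS hψ hov 1
  obtain ⟨n, hn0, hn⟩ := isIrr_apply_one hψ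
  obtain ⟨m, hm0, hm⟩ := isIrr_apply_one θ.2
  have h3 : classInner (fun n : N => ψ ⟨n, hNS n.2⟩) (θ : N → ℂ) = k := hk
  rw [h3, hm] at h2
  have h4 : ψ ⟨((1 : N) : G), hNS (1 : N).2⟩ = ψ 1 := rfl
  rw [h4, hn] at h2
  rw [charDegree_eq hn, charDegree_eq hm]
  refine ⟨k, ?_⟩
  have : n = k * m := by exact_mod_cast h2
  rw [this, mul_comm]

omit [Fintype G] [Fact p.Prime] hDn hNn [Fintype N] in
theorem fac_index [Finite G] {S : Subgroup G} (hDN : D ≤ N) (hNS : N ≤ S) :
    (D.subgroupOf S).index.factorization p =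
      (D.subgroupOf N).index.factorization p + (N.relIndex S).factorization p := by
  have h1 := Subgroup.relIndex_mul_relIndex D N S hDN hNS
  have h2 : (D.subgroupOf S).index = (D.subgroupOf N).index * N.relIndex S := h1.symm
  have h3 : N.relIndex S ≠ 0 := Subgroup.index_ne_zero_of_finite (H := N.subgroupOf S)
  rw [h2, Nat.factorization_mul Subgroup.index_ne_zero_of_finite h3]
  rfl

omit hNn in
/-- The inner product with `θ`, in the form used by the Clifford correspondence. -/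
theorem classInner_indFun_subgroupOf {S : Subgroup G} [Fintype S] (hNS : N ≤ S) {ψ : S → ℂ}
    (hψ : IsIrrCharacter S ψ) (φ : IrrCharacter N)
    (hov : classInner (fun n : N => ψ ⟨n, hNS n.2⟩) (φ : N → ℂ) ≠ 0) :
    classInner (indFun (N.subgroupOf S)
      (fun x => (φ : N → ℂ) ⟨(x : S), Subgroup.mem_subgroupOf.mp x.2⟩)) ψ ≠ 0 := by
  classical
  have := Fintype.ofFinite (N.subgroupOf S)
  rw [CharactersDeep.NormalInd.classInner_indFun _ _ _ (isIrr_isClassFunction hψ)]
  let e : N.subgroupOf S ≃* N := Subgroup.subgroupOfEquivOfLe hNS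
  have h1 := classInner_comp_mulEquiv e (φ : N → ℂ) (fun n : N => ψ ⟨n, hNS n.2⟩)
  have h2 : classInner (fun x : N.subgroupOf S =>
      (φ : N → ℂ) ⟨((x : S) : G), Subgroup.mem_subgroupOf.mp x.2⟩)
      (fun x : N.subgroupOf S => ψ x) = classInner (φ : N → ℂ) (fun n : N => ψ ⟨n, hNS n.2⟩) := h1
  intro h0
  apply hov
  rw [h2] at h0
  rw [← classInner_conj_symm, h0, map_zero]

/-- Inducing a character of the inertia group of a member of `b`. -/
theorem ind_mem (hM : IsPModular p M) (hB : IsPBlock M B) (h : Data p M B D N b θ)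
    {φ : IrrCharacter N} (hφ : φ ∈ b) {S : Subgroup G} (hNS : N ≤ S)
    (hS : ∀ g : G, g ∈ S ↔ g ∈ inertia N (φ : N → ℂ)) {ψ : S → ℂ} (hψ : IsIrrCharacter S ψ)
    (hov : classInner (fun n : N => ψ ⟨n, hNS n.2⟩) (φ : N → ℂ) ≠ 0) :
    ∃ χ ∈ B, charDegree (χ : G → ℂ) = S.index * charDegree ψ := by
  classical
  have := Fintype.ofFinite S
  have hc := classInner_indFun_subgroupOf hNS hψ φ hov
  have hirr := (S1489.result N S (φ : N → ℂ) φ.2 (fun g => (hS g).trans mem_inertia') hNS ψ ψ hψ hψ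
    hc hc).1
  have hover := over_indFun hNS hψ φ.2 hov hirr
  refine ⟨⟨_, hirr⟩, Data.mem_of_over hM hB h hφ hover, ?_⟩
  obtain ⟨n, hn0, hn⟩ := isIrr_apply_one hψ
  rw [charDegree_eq hn]
  apply charDegree_eq
  show indFun S ψ 1 = _
  rw [CharactersDeep.NormalInd.indFun_one, hn]
  push_cast
  rfl

omit [Fintype G] hDn in
theorem fac_card [Finite G] (hM : IsPModular p M) (hB : IsPBlock M B)
    (hD : IsDefectGroup p M B D) : (Nat.card D).factorization p = blockDefect p B := by
  rw [S0908.result p M hM B hB D hD, Nat.factorization_pow]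
  simp [(Fact.out : p.Prime).factorization_self]

omit [Fintype G] [Fact p.Prime] hDn in
/-- Criterion for height zero. -/
theorem height_zero [Finite G] {χ : IrrCharacter G} (hχ : χ ∈ B)
    (h : (charDegree (χ : G → ℂ)).factorization p + blockDefect p B ≤
      (Nat.card G).factorization p) : blockHeight p B (χ : G → ℂ) = 0 := by
  rw [Blocks.Basic.blockHeight_def, tsub_eq_zero_iff_le]
  rw [Blocks.Basic.blockDefect_def] at h
  obtain ⟨χ₁, hχ₁, h1⟩ := Nat.sInf_mem (s := (fun χ : IrrCharacter G =>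
    (charDegree (χ : G → ℂ)).factorization p) '' B) ⟨_, χ, hχ, rfl⟩
  have h2 : (charDegree (χ₁ : G → ℂ)).factorization p ≤ (Nat.card G).factorization p := by
    obtain ⟨n, hn0, hn⟩ := isIrr_apply_one χ₁.2
    rw [charDegree_eq hn]
    exact (Nat.factorization_le_iff_dvd hn0.ne' Nat.card_pos.ne').2 (degree_dvd_card χ₁.2 hn) p
  simp only at h1
  omega

omit [Fintype G] [Fact p.Prime] hDn in
theorem le_fac [Finite G] {χ : IrrCharacter G} (hχ : χ ∈ B) : (Nat.card G).factorization p ≤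
    blockDefect p B + (charDegree (χ : G → ℂ)).factorization p := by
  rw [Blocks.Basic.blockDefect_def]
  have h : sInf ((fun χ : IrrCharacter G => (charDegree (χ : G → ℂ)).factorization p) '' B) ≤
      (charDegree (χ : G → ℂ)).factorization p :=
    Nat.sInf_le ⟨χ, hχ, rfl⟩
  omega

omit [Fintype G] [Fact p.Prime] hDn in
theorem fac_card_eq [Finite G] {S : Subgroup G} (hDS : D ≤ S) : (Nat.card G).factorization p =
    (Nat.card D).factorization p + (D.subgroupOf S).index.factorization p +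
      S.index.factorization p := by
  have h1 := Subgroup.card_mul_index S
  have h2 := Subgroup.card_mul_index (D.subgroupOf S)
  have h3 : Nat.card (D.subgroupOf S) = Nat.card D :=
    Nat.card_congr (Subgroup.subgroupOfEquivOfLe hDS).toEquiv
  rw [← h1, ← h2, h3, Nat.factorization_mul
    (mul_ne_zero Nat.card_pos.ne' Subgroup.index_ne_zero_of_finite)
    Subgroup.index_ne_zero_of_finite, Nat.factorization_mul Nat.card_pos.ne'
    Subgroup.index_ne_zero_of_finite]
  rfl

/-- The inertia group has index prime to `p` over `N`. -/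
theorem not_dvd_relIndex (hM : IsPModular p M) (hB : IsPBlock M B) (hD : IsDefectGroup p M B D)
    (h : Data p M B D N b θ) : ¬ p ∣ N.relIndex (inertia N (θ : N → ℂ)) := by
  classical
  have hp : p.Prime := Fact.out
  set T := inertia N (θ : N → ℂ) with hT
  have hNT : N ≤ T := le_inertia (isIrr_isClassFunction θ.2)
  have hDT : D ≤ T := h.le.trans hNT
  have := Fintype.ofFinite T
  have := Fintype.ofFinite (N.subgroupOf T)
  have := finite_irr (G := T)
  have := Fintype.ofFinite (IrrCharacter T)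
  let e : N.subgroupOf T ≃* N := Subgroup.subgroupOfEquivOfLe hNT
  have he : ∀ x : N.subgroupOf T, ((e x : N) : G) = ((x : T) : G) := fun _ => rfl
  have hθT : IsIrrCharacter (N.subgroupOf T) (fun x => (θ : N → ℂ) (e x)) :=
    isIrr_comp (e : N.subgroupOf T →* N) e.surjective θ.2
  have hinv : ∀ g : T, (fun x => (θ : N → ℂ) (e x)) ∘
      (MulAut.conjNormal g : MulAut (N.subgroupOf T)) = fun x => (θ : N → ℂ) (e x) := by
    intro g
    funext x
    have h1 := mem_inertia.1 g.2 (e x)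
    simp only [Function.comp]
    rw [← h1]
    congr 1
  have hsum := sum_over hθT hinv (1 : T)
  rw [CharactersDeep.NormalInd.indFun_one] at hsum
  obtain ⟨m, hm0, hm⟩ := isIrr_apply_one θ.2
  have hθdeg := h.deg
  rw [charDegree_eq hm] at hθdeg
  have he1 : (θ : N → ℂ) (e 1) = m := by rw [map_one, hm]
  rw [he1] at hsum
  choose dd hdd0 hdd using fun ψ : IrrCharacter T => isIrr_apply_one ψ.2
  set Z := Finset.univ.filter (fun ψ : IrrCharacter T =>
    Ov (N.subgroupOf T) (fun x => (θ : N → ℂ) (e x)) (ψ : T → ℂ)) with hZ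
  have hsum' : ∑ ψ ∈ Z, dd ψ * dd ψ = m * (N.relIndex T * m) := by
    have h1 : (∑ ψ ∈ Z, (dd ψ : ℂ) * dd ψ) = m * ((N.subgroupOf T).index * m) := by
      rw [← hsum]
      refine Finset.sum_congr rfl fun ψ _ => ?_
      rw [hdd]
    exact_mod_cast h1
  have hfac : (Nat.card G).factorization p = _ := fac_card_eq (p := p) hDT
  have hfi := fac_index (p := p) h.le hNT
  -- every degree is divisible by the right power of `p`
  have hdiv : ∀ ψ ∈ Z, p ^ (D.subgroupOf T).index.factorization p ∣ dd ψ := by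
    intro ψ hψ
    have hov : Ov (N.subgroupOf T) (fun x => (θ : N → ℂ) (e x)) (ψ : T → ℂ) :=
      (Finset.mem_filter.1 hψ).2
    have hov' : classInner (fun n : N => (ψ : T → ℂ) ⟨n, hNT n.2⟩) (θ : N → ℂ) ≠ 0 := by
      intro h0
      apply hov
      rw [← h0]
      exact classInner_comp_mulEquiv e (fun n : N => (ψ : T → ℂ) ⟨n, hNT n.2⟩) (θ : N → ℂ)
    obtain ⟨χ, hχ, hdeg⟩ := ind_mem hM hB h h.mem hNT (fun g => by rw [hT]) ψ.2 hov'
    have h1 := le_fac (p := p) hχ
    rw [hdeg, Nat.factorization_mul Subgroup.index_ne_zero_of_finite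
      (by rw [charDegree_eq (hdd ψ)]; exact (hdd0 ψ).ne'), Finsupp.add_apply,
      charDegree_eq (hdd ψ), hfac, ← fac_card hM hB hD] at h1
    exact (Nat.Prime.pow_dvd_iff_le_factorization hp (hdd0 ψ).ne').2 (by omega)
  have hdiv2 : p ^ (2 * (D.subgroupOf T).index.factorization p) ∣ m * (N.relIndex T * m) := by
    rw [← hsum']
    refine Finset.dvd_sum fun ψ hψ => ?_
    rw [two_mul, pow_add]
    exact mul_dvd_mul (hdiv ψ hψ) (hdiv ψ hψ)
  intro hdvd
  have hr0 : N.relIndex T ≠ 0 := Subgroup.index_ne_zero_of_finite (H := N.subgroupOf T)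
  have hpos : 0 < (N.relIndex T).factorization p :=
    Nat.Prime.factorization_pos_of_dvd hp hr0 hdvd
  rw [Nat.Prime.pow_dvd_iff_le_factorization hp (mul_ne_zero hm0.ne' (mul_ne_zero hr0 hm0.ne')),
    Nat.factorization_mul hm0.ne' (mul_ne_zero hr0 hm0.ne'), Nat.factorization_mul hr0 hm0.ne',
    Finsupp.add_apply, Finsupp.add_apply, hfi, ← hθdeg] at hdiv2
  omega

end Cfsg.Agent.H700.NormDeg
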