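import Mathlib
import Cfsg.Agent.H700.NormDeg
import Cfsg.Agent.S0012
import Cfsg.Agent.S0029

/-!
# A block with normal defect group all of whose height zero characters have the same degree
-/

set_option autoImplicit false

namespace Cfsg.Agent.H700.NormMain

open Cfsg Cfsg.Agent.Characters.Core Cfsg.Agent.Characters.Clifford
open Cfsg.Agent.Blocks.CentralProduct
open Cfsg.Agent.H700.NormData Cfsg.Agent.H700.SchurAvg Cfsg.Agent.H700.NormInertia
open Cfsg.Agent.H700.NormDeg Cfsg.Agent.H700.SplitSemi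
open scoped ComplexConjugate

universe u

/-- Elements acting trivially on `D/D'` lie in `N ≥ C(D)` if `p` does not divide `|X : N|`. -/
theorem mem_of_act_trivial {X : Type u} [Group X] [Finite X] {p : ℕ} [Fact p.Prime]
    {D N : Subgroup X} [D.Normal] [N.Normal] (hD : IsPGroup p D)
    (hC : Subgroup.centralizer (D : Set X) ≤ N) (hidx : ¬ p ∣ N.index) {t : X}
    (ht : ∀ u : D, (Abelianization.of (MulAut.conjNormal t u : D) : Abelianization D) =
      Abelianization.of u) : t ∈ N := by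
  have hp : p.Prime := Fact.out
  have hn0 : orderOf t ≠ 0 := (orderOf_pos t).ne'
  set k := (orderOf t).factorization p with hk
  have hdvd : p ^ k ∣ orderOf t := Nat.ordProj_dvd _ _
  have hs : orderOf (t ^ p ^ k) = orderOf t / p ^ k :=
    orderOf_pow_of_dvd (pow_ne_zero _ hp.ne_zero) hdvd
  have hsp : ¬ p ∣ orderOf (t ^ p ^ k) := by
    rw [hs]
    exact Nat.not_dvd_ordCompl hp hn0
  have htker : t ∈ (act D).ker := by
    rw [MonoidHom.mem_ker]
    ext a
    obtain ⟨u, rfl⟩ := QuotientGroup.mk_surjective a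
    exact ht u
  have hle : Subgroup.zpowers (t ^ p ^ k) ≤ (act D).ker := by
    rw [Subgroup.zpowers_le]
    exact Subgroup.pow_mem _ htker _
  obtain ⟨m, hm⟩ := IsPGroup.iff_card.1 (hD.to_subgroup (frattini D))
  have hcen := S0029.result (Subgroup.zpowers (t ^ p ^ k)) D
    (by rw [Subgroup.normalizer_eq_top]; exact le_top) (by
      rw [Nat.card_zpowers, hm]
      exact Nat.Coprime.pow_right m ((Nat.Prime.coprime_iff_not_dvd hp).2 hsp).symm) (by
      intro a ha x hx
      have h1 := MonoidHom.mem_ker.1 (hle ha)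
      have h2 : act D a (Abelianization.of ⟨x, hx⟩) = Abelianization.of ⟨x, hx⟩ := by
        rw [h1]
        rfl
      rw [act_of] at h2
      have h3 : (MulAut.conjNormal a ⟨x, hx⟩ : D) / ⟨x, hx⟩ ∈ commutator D :=
        QuotientGroup.eq_iff_div_mem.1 h2
      refine ⟨_, (S0012.result p hD).1 h3, ?_⟩
      rw [div_eq_mul_inv]
      simp [MulAut.conjNormal_apply])
  have h1 : t ^ p ^ k ∈ N := hC (hcen (Subgroup.mem_zpowers _))
  have h2 : t ^ N.index ∈ N := Subgroup.pow_index_mem N t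
  have hcop : IsCoprime ((p ^ k : ℕ) : ℤ) (N.index : ℤ) := by
    rw [Nat.isCoprime_iff_coprime]
    exact Nat.Coprime.pow_left k ((Nat.Prime.coprime_iff_not_dvd hp).2 hidx)
  obtain ⟨x, y, hxy⟩ := hcop
  have h3 : t = (t ^ p ^ k) ^ x * (t ^ N.index) ^ y := by
    rw [← zpow_natCast, ← zpow_natCast, ← zpow_mul, ← zpow_mul, ← zpow_add,
      mul_comm _ x, mul_comm _ y, hxy, zpow_one]
  rw [h3]
  exact N.mul_mem (Subgroup.zpow_mem _ h1 _) (Subgroup.zpow_mem _ h2 _)

variable {G : Type u} [Group G] {p : ℕ} {M : Ideal AlgInt} [Fintype G] [Fact p.Prime]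
  {B : Set (IrrCharacter G)} {D N : Subgroup G} [hDn : D.Normal] [hNn : N.Normal] [Fintype N]
  {b : Set (IrrCharacter N)} {θ : IrrCharacter N}

/-- The `p`-part of the degrees of the characters over `θ`. -/
theorem fac_eq (hM : IsPModular p M) (hB : IsPBlock M B) (hD : IsDefectGroup p M B D)
    (h : Data p M B D N b θ) {S : Subgroup G}
    (hNS : N ≤ S) (hS : S ≤ inertia N (θ : N → ℂ)) {ψ : S → ℂ} (hψ : IsIrrCharacter S ψ)
    (hov : classInner (fun n : N => ψ ⟨n, hNS n.2⟩) (θ : N → ℂ) ≠ 0) :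
    (charDegree ψ).factorization p = (D.subgroupOf S).index.factorization p := by
  have hp : p.Prime := Fact.out
  refine le_antisymm (fac_le h hNS hS hψ hov) ?_
  have h1 := not_dvd_relIndex hM hB hD h
  have h2 : N.relIndex S ∣ N.relIndex (inertia N (θ : N → ℂ)) :=
    ⟨_, (Subgroup.relIndex_mul_relIndex N S _ hNS hS).symm⟩
  have h3 : (N.relIndex S).factorization p = 0 :=
    Nat.factorization_eq_zero_of_not_dvd fun h => h1 (h.trans h2)
  rw [fac_index h.le hNS, h3, add_zero, ← h.deg]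
  obtain ⟨n, hn0, hn⟩ := isIrr_apply_one hψ
  obtain ⟨m, hm0, hm⟩ := isIrr_apply_one θ.2
  have h4 := dvd_degree hNS hS hψ hov
  rw [charDegree_eq hn, charDegree_eq hm] at h4 ⊢
  exact (Nat.factorization_le_iff_dvd hm0.ne' hn0.ne').2 h4 p

/-- The height zero character attached to a linear character `w` of `D` and a character over `θ` of
the stabilizer of `w`. -/
theorem exists_height_zero (hM : IsPModular p M) (hB : IsPBlock M B)
    (hD : IsDefectGroup p M B D) (h : Data p M B D N b θ) (w : D →* ℂˣ) {S : Subgroup G}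
    (hS : ∀ g : G, g ∈ S ↔ g ∈ inertia N (θ : N → ℂ) ∧ g ∈ inertia D (fun u => (w u : ℂ)))
    (hNS : N ≤ S) {ψ : S → ℂ} (hψ : IsIrrCharacter S ψ)
    (hov : classInner (fun n : N => ψ ⟨n, hNS n.2⟩) (θ : N → ℂ) ≠ 0) :
    ∃ χ ∈ B, blockHeight p B (χ : G → ℂ) = 0 ∧
      charDegree (χ : G → ℂ) = S.index * charDegree ψ := by
  classical
  have hST : S ≤ inertia N (θ : N → ℂ) := fun g hg => ((hS g).1 hg).1
  have hDS : D ≤ S := h.le.trans hNS
  obtain ⟨φ, hφb, hφ1, hφ0⟩ := h.exists_lin hM w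
  have hfac := fac_eq hM hB hD h hNS hST hψ hov
  -- the twist
  let e : D.subgroupOf S ≃* D := Subgroup.subgroupOfEquivOfLe hDS
  have he : ∀ x : D.subgroupOf S, ((e x : D) : G) = ((x : S) : G) := fun _ => rfl
  have hDp : IsPGroup p (D.subgroupOf S) :=
    h.isPGroup.comap_of_injective (Subgroup.subtype _) (Subgroup.subtype_injective _)
  obtain ⟨ψ', hψ'⟩ := CentralTwist.exists_twist p hM (D.subgroupOf S) hDp
    (w.comp (e : D.subgroupOf S →* D)) (by
      intro y u
      have h1 := mem_inertia_lin.1 ((hS y).1 y.2).2 (e u)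
      show w (e (MulAut.conjNormal y u)) = w (e u)
      rw [← h1]
      congr 1) hψ
    (fun u hu => apply_of_mem h hNS hST hψ hov u (Subgroup.mem_subgroupOf.1 hu)) hfac
  have hval : ∀ (u : G) (hu : u ∈ D) (y : S), ¬ p ∣ orderOf y →
      (ψ' : S → ℂ) (⟨u, hDS hu⟩ * y) = (w ⟨u, hu⟩ : ℂ) * ψ y := by
    intro u hu y hy
    exact hψ' ⟨⟨u, hDS hu⟩, Subgroup.mem_subgroupOf.2 hu⟩ y hy
  have hone : (ψ' : S → ℂ) 1 = ψ 1 := by
    have h1 := hval 1 D.one_mem 1 not_dvd_orderOf_one
    have h2 : (⟨1, D.one_mem⟩ : D) = 1 := rfl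
    have h3 : (⟨1, hDS D.one_mem⟩ : S) * 1 = 1 := by
      apply Subtype.ext
      simp
    rw [h3, h2, map_one, Units.val_one, one_mul] at h1
    exact h1
  -- the twist lies over `φ`
  set c := classInner (fun n : N => ψ ⟨n, hNS n.2⟩) (θ : N → ℂ) with hc
  have hψc : ∀ n : N, ψ ⟨n, hNS n.2⟩ = c * (θ : N → ℂ) n := restrict_eq hNS hST hψ hov
  have hsum : ∀ n : N, (ψ' : S → ℂ) ⟨n, hNS n.2⟩ * conj ((φ : N → ℂ) n) =
      c * ((φ : N → ℂ) n * conj ((φ : N → ℂ) n)) := by
    intro n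
    by_cases hn : n ∈ prodSet p (D.subgroupOf N)
    · obtain ⟨u, hu, y, hy, rfl⟩ := hn
      have hu' := Subgroup.mem_subgroupOf.1 hu
      have hy' : ¬ p ∣ orderOf (⟨(y : G), hNS y.2⟩ : S) := by
        rw [Subgroup.orderOf_mk]
        rwa [Subgroup.orderOf_coe]
      have e2 := hval u hu' ⟨(y : G), hNS y.2⟩ hy'
      have e3 : (φ : N → ℂ) (u * y) = (w ⟨(u : G), hu'⟩ : ℂ) * (θ : N → ℂ) y := hφ1 u hu' y hy
      have e4 : (⟨((u * y : N) : G), hNS (u * y).2⟩ : S) =
          ⟨(u : G), hDS hu'⟩ * ⟨(y : G), hNS y.2⟩ := rfl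
      rw [e4, e2, hψc, ← mul_assoc c]
      congr 1
      rw [e3]
      ring
    · rw [hφ0 n hn]
      simp
  have hov' : classInner (fun n : N => (ψ' : S → ℂ) ⟨n, hNS n.2⟩) (φ : N → ℂ) ≠ 0 := by
    have h1 : classInner (fun n : N => (ψ' : S → ℂ) ⟨n, hNS n.2⟩) (φ : N → ℂ) =
        c * classInner (φ : N → ℂ) (φ : N → ℂ) := by
      unfold classInner
      rw [Finset.sum_congr rfl fun n _ => hsum n, ← Finset.mul_sum]
      ring
    rw [h1, classInner_irr_self φ.2, mul_one]
    exact hov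
  obtain ⟨χ, hχ, hdeg⟩ := ind_mem hM hB h hφb hNS (fun g => by
    rw [hS, Data.mem_inertia_twist hM h w hφ1 hφ0]) ψ'.2 hov'
  obtain ⟨n, hn0, hn⟩ := isIrr_apply_one hψ
  have hdψ : charDegree (ψ' : S → ℂ) = charDegree ψ := by
    rw [charDegree_eq hn, charDegree_eq (hone.trans hn)]
  rw [hdψ] at hdeg
  refine ⟨χ, hχ, height_zero hχ ?_, hdeg⟩
  rw [hdeg, Nat.factorization_mul Subgroup.index_ne_zero_of_finite
    (by rw [charDegree_eq hn]; exact hn0.ne'), Finsupp.add_apply, hfac, fac_card_eq hDS,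
    fac_card hM hB hD]
  omega

/-- If all height zero characters have the same degree then `θ` is only fixed by `N`. -/
theorem inertia_eq (hM : IsPModular p M) (hB : IsPBlock M B)
    (hD : IsDefectGroup p M B D) (h : Data p M B D N b θ) {d : ℕ}
    (hd : ∀ χ ∈ B, blockHeight p B (χ : G → ℂ) = 0 → charDegree (χ : G → ℂ) = d) :
    inertia N (θ : N → ℂ) = N := by
  classical
  have hp : p.Prime := Fact.out
  set T := inertia N (θ : N → ℂ) with hT
  have hNT : N ≤ T := le_inertia (isIrr_isClassFunction θ.2)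
  have hDT : D ≤ T := h.le.trans hNT
  have := Fintype.ofFinite T
  have := Fintype.ofFinite (N.subgroupOf T)
  have hidx : ¬ p ∣ (N.subgroupOf T).index := not_dvd_relIndex hM hB hD h
  let e : N.subgroupOf T ≃* N := Subgroup.subgroupOfEquivOfLe hNT
  have he : ∀ x : N.subgroupOf T, ((e x : N) : G) = ((x : T) : G) := fun _ => rfl
  have hθT : IsIrrCharacter (N.subgroupOf T) (fun x => (θ : N → ℂ) (e x)) :=
    isIrr_comp (e : N.subgroupOf T →* N) e.surjective θ.2
  have hinv : ∀ g : T, (fun x => (θ : N → ℂ) (e x)) ∘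
      (MulAut.conjNormal g : MulAut (N.subgroupOf T)) = fun x => (θ : N → ℂ) (e x) := by
    intro g
    funext x
    have h1 := mem_inertia.1 g.2 (e x)
    simp only [Function.comp]
    rw [← h1]
    congr 1
  let eD : D.subgroupOf T ≃* D := Subgroup.subgroupOfEquivOfLe hDT
  have heD : ∀ x : D.subgroupOf T, ((eD x : D) : G) = ((x : T) : G) := fun _ => rfl
  have hDp : IsPGroup p (D.subgroupOf T) :=
    h.isPGroup.comap_of_injective (Subgroup.subtype _) (Subgroup.subtype_injective _)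
  have hcen : Subgroup.centralizer (D.subgroupOf T : Set T) ≤ N.subgroupOf T := by
    intro t ht
    rw [Subgroup.mem_subgroupOf]
    apply h.centralizer_le
    rw [Subgroup.mem_centralizer_iff]
    intro u hu
    have := Subgroup.mem_centralizer_iff.1 ht ⟨u, hDT hu⟩ (Subgroup.mem_subgroupOf.2 hu)
    exact congrArg Subtype.val this
  have htop := SplitSemi.main hp hDp (N.subgroupOf T) (fun t => by
    refine ⟨fun ht u => ?_, fun ht => mem_of_act_trivial hDp hcen hidx ht⟩
    obtain ⟨x, hx, c, hc, hxc⟩ := exists_mul h.eqN (Subgroup.mem_subgroupOf.1 ht)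
    have h1 : (MulAut.conjNormal t u : D.subgroupOf T) =
        ⟨⟨x, hDT hx⟩, Subgroup.mem_subgroupOf.2 hx⟩ * u *
          (⟨⟨x, hDT hx⟩, Subgroup.mem_subgroupOf.2 hx⟩ : D.subgroupOf T)⁻¹ := by
      apply Subtype.ext
      apply Subtype.ext
      rw [MulAut.conjNormal_apply]
      have h2 := Subgroup.mem_centralizer_iff.1 hc ((u : T) : G) (Subgroup.mem_subgroupOf.1 u.2)
      simp only [Subgroup.coe_mul, Subgroup.coe_inv, ← hxc]
      calc x * c * ((u : T) : G) * (x * c)⁻¹ = x * (c * ((u : T) : G)) * c⁻¹ * x⁻¹ := by group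
        _ = x * (((u : T) : G) * c) * c⁻¹ * x⁻¹ := by rw [h2]
        _ = x * ((u : T) : G) * x⁻¹ := by group
    rw [h1, map_mul, map_mul, map_inv, mul_comm, ← mul_assoc, inv_mul_cancel, one_mul])
    hidx hθT hinv (d := (d : ℂ) / T.index) (by
    intro w S hS ψ hψ hc
    obtain ⟨c, hc⟩ := hc
    -- move to `G`
    set X := S.map T.subtype with hX
    have hmemX : ∀ g : G, g ∈ X ↔ ∃ ht : g ∈ T, (⟨g, ht⟩ : T) ∈ S := by
      intro g
      rw [hX, Subgroup.mem_map]
      constructor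
      · rintro ⟨t, ht, rfl⟩
        exact ⟨t.2, ht⟩
      · rintro ⟨ht, hs⟩
        exact ⟨⟨g, ht⟩, hs, rfl⟩
    let w' : D →* ℂˣ := w.comp (eD.symm : D →* D.subgroupOf T)
    have hw' : ∀ u : D.subgroupOf T, w' (eD u) = w u := fun u => by
      show w (eD.symm (eD u)) = w u
      rw [MulEquiv.symm_apply_apply]
    have hmem : ∀ t : T, t ∈ S ↔ (t : G) ∈ inertia D (fun u => (w' u : ℂ)) := by
      intro t
      rw [hS, mem_inertia_lin]
      constructor
      · intro h1 u
        obtain ⟨u, rfl⟩ := eD.surjective u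
        rw [hw', ← h1 u, ← hw']
        congr 1
      · intro h1 u
        rw [← hw', ← hw' u, ← h1 (eD u)]
        congr 1
    have hXS : ∀ g : G, g ∈ X ↔ g ∈ inertia N (θ : N → ℂ) ∧
        g ∈ inertia D (fun u => (w' u : ℂ)) := by
      intro g
      rw [hmemX]
      constructor
      · rintro ⟨ht, hs⟩
        exact ⟨ht, (hmem ⟨g, ht⟩).1 hs⟩
      · rintro ⟨ht, hs⟩
        exact ⟨ht, (hmem ⟨g, ht⟩).2 hs⟩
    have hNX : N ≤ X := by
      intro n hn
      rw [hXS]
      exact ⟨hNT hn, Data.le_inertia_lin h w' hn⟩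
    let j : X →* S :=
      { toFun := fun x => ⟨⟨(x : G), ((hmemX x).1 x.2).1⟩, ((hmemX x).1 x.2).2⟩
        map_one' := rfl
        map_mul' := fun a b => rfl }
    have hj : Function.Surjective j := by
      intro s
      exact ⟨⟨((s : T) : G), (hmemX _).2 ⟨(s : T).2, s.2⟩⟩, rfl⟩
    have hψX : IsIrrCharacter X (fun x => ψ (j x)) := isIrr_comp j hj hψ
    have hcX : ∀ n : N, ψ (j ⟨n, hNX n.2⟩) = c * (θ : N → ℂ) n := by
      intro n
      exact hc (j ⟨n, hNX n.2⟩) (Subgroup.mem_subgroupOf.2 n.2)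
    have hovX : classInner (fun n : N => ψ (j ⟨n, hNX n.2⟩)) (θ : N → ℂ) ≠ 0 := by
      have h1 : (fun n : N => ψ (j ⟨n, hNX n.2⟩)) = c • (θ : N → ℂ) := by
        funext n
        rw [hcX]
        rfl
      rw [h1, classInner_smul_left, classInner_irr_self θ.2, mul_one]
      rintro rfl
      have h2 := hcX 1
      rw [zero_mul] at h2
      apply isIrr_apply_one_ne_zero hψ
      exact h2
    obtain ⟨χ, hχ, hh, hdeg⟩ := exists_height_zero hM hB hD h w' hXS hNX hψX hovX
    have h1 := hd χ hχ hh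
    rw [hdeg] at h1
    obtain ⟨n, hn0, hn⟩ := isIrr_apply_one hψ
    have hn' : (fun x => ψ (j x)) 1 = (n : ℂ) := by
      simp only [map_one]
      exact hn
    rw [charDegree_eq (χ := fun x : X => ψ (j x)) hn'] at h1
    have h2 : X.index = S.index * T.index := by
      rw [hX, Subgroup.index_map_subtype]
    have hT0 : (T.index : ℂ) ≠ 0 := by
      exact_mod_cast Subgroup.index_ne_zero_of_finite
    rw [hn, ← h1, h2]
    push_cast
    field_simp)
  refine le_antisymm ?_ hNT
  intro t ht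
  have : (⟨t, ht⟩ : T) ∈ N.subgroupOf T := by
    rw [htop]
    exact Subgroup.mem_top _
  exact Subgroup.mem_subgroupOf.1 this

end Cfsg.Agent.H700.NormMain
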