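import Mathlib
import Cfsg.Prelude.Def_BrauerPairs
import Cfsg.Agent.H700.NormMain
import Cfsg.Agent.H652.PairBasic
import Cfsg.Agent.H649.DefectPair
import Cfsg.Agent.S0964

/-!
# A block with normal defect group: nilpotency
-/

set_option autoImplicit false

namespace Cfsg.Agent.H700.NormNil

open Cfsg Cfsg.Agent.Characters.Core Cfsg.Agent.Characters.Clifford
open Cfsg.Agent.Blocks.CentralProduct
open Cfsg.Agent.H700.NormData Cfsg.Agent.H700.SchurAvg Cfsg.Agent.H700.NormInertia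
open Cfsg.Agent.H700.NormDeg Cfsg.Agent.H700.NormMain
open Cfsg.Agent.H646.NormalSupport
open Cfsg.Agent.Blocks.Fong (cj cj_apply cj_cj cj_one)
open scoped ComplexConjugate

universe u

section Gen

variable {G : Type u} [Group G] {M : Ideal AlgInt}

/-- Transport of the same block relation along an isomorphism. -/
theorem sameBlock_comp {H : Type*} [Group H] (e : H ≃* G) {χ ψ : G → ℂ}
    (h : SameBlock M χ ψ) : SameBlock M (fun x => χ (e x)) (fun x => ψ (e x)) := by
  intro x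
  rw [Blocks.Covering.centralChar_comp_equiv, Blocks.Covering.centralChar_comp_equiv]
  exact h _

/-- Sums of invariant functions supported on a normal subgroup. -/
theorem omega_eq [Finite G] (C K : Subgroup G) [C.Normal] [Fintype C] [Fintype K] (hCK : C ≤ K)
    {β : G → ℂ} (hβ : IsClassFunction G β) (hβ0 : ∀ g, g ∉ C → β g = 0) {ξ : K → ℂ}
    (hξ : IsIrrCharacter K ξ) {η : C → ℂ} (hη : IsIrrCharacter C η)
    (hov : classInner (fun n : C => ξ ⟨n, hCK n.2⟩) η ≠ 0) :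
    ∑ x : K, β x * (ξ x / ξ 1) = ∑ x : C, β x * (η x / η 1) := by
  classical
  have := Fintype.ofFinite (C.subgroupOf K)
  let e : C.subgroupOf K ≃* C := Subgroup.subgroupOfEquivOfLe hCK
  have he : ∀ x : C.subgroupOf K, ((e x : C) : G) = ((x : K) : G) := fun _ => rfl
  have h1 : (∑ n : C.subgroupOf K, β ((n : K) : G) * ξ n) / ξ 1 =
      (∑ n : C.subgroupOf K, β ((n : K) : G) * η (e n)) / η (e 1) := by
    refine Blocks.Over.sum_mul_eq_of_over (C.subgroupOf K) hξ
      (isIrr_comp (e : C.subgroupOf K →* C) e.surjective hη) ?_ (fun n => β ((n : K) : G)) ?_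
    · intro h0
      apply hov
      rw [← h0]
      exact (classInner_comp_mulEquiv e (fun n : C => ξ ⟨n, hCK n.2⟩) η).symm
    · intro g n
      rw [MulAut.conjNormal_apply]
      exact hβ _ _
  have h2 : ∑ x : K, β x * (ξ x / ξ 1) = (∑ n : C.subgroupOf K, β ((n : K) : G) * ξ n) / ξ 1 := by
    rw [Finset.sum_div]
    have h3 : ∑ x : K, β x * (ξ x / ξ 1) = ∑ x ∈ (Finset.univ : Finset (C.subgroupOf K)).map
        ⟨Subtype.val, Subtype.val_injective⟩, β (x : G) * (ξ x / ξ 1) := by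
      symm
      apply Finset.sum_subset (Finset.subset_univ _)
      intro x _ hx
      rw [hβ0, zero_mul]
      intro hxC
      apply hx
      rw [Finset.mem_map]
      exact ⟨⟨x, Subgroup.mem_subgroupOf.2 hxC⟩, Finset.mem_univ _, rfl⟩
    rw [h3, Finset.sum_map]
    refine Finset.sum_congr rfl fun x _ => ?_
    rw [mul_div_assoc]
    rfl
  rw [h2, h1, map_one, Finset.sum_div]
  refine Fintype.sum_equiv e.toEquiv _ _ fun x => ?_
  rw [mul_div_assoc]
  rfl

/-- Covered blocks of a normal subgroup of `G` contained in `K` are conjugate in `K`. -/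
theorem cover_conj [Fintype G] {p : ℕ} [Fact p.Prime] (hM : IsPModular p M) (C K : Subgroup G)
    [C.Normal] [Fintype C] (hCK : C ≤ K) {f : Set (IrrCharacter K)} (hf : IsPBlock M f)
    {ξ ξ' : IrrCharacter K} (hξ : ξ ∈ f) (hξ' : ξ' ∈ f) {η η' : IrrCharacter C}
    (hov : classInner (fun n : C => (ξ : K → ℂ) ⟨n, hCK n.2⟩) (η : C → ℂ) ≠ 0)
    (hov' : classInner (fun n : C => (ξ' : K → ℂ) ⟨n, hCK n.2⟩) (η' : C → ℂ) ≠ 0) :
    ∃ k ∈ K, SameBlock M (η : C → ℂ) (cj C k η' : C → ℂ) := by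
  classical
  have hprime : M.IsPrime := hM.2.1.isPrime
  have := Fintype.ofFinite K
  have := Fintype.ofFinite (C.subgroupOf K)
  let e : C.subgroupOf K ≃* C := Subgroup.subgroupOfEquivOfLe hCK
  have he : ∀ x : C.subgroupOf K, ((e x : C) : G) = ((x : K) : G) := fun _ => rfl
  let θ : IrrCharacter (C.subgroupOf K) :=
    ⟨fun x => (η : C → ℂ) (e x), isIrr_comp (e : C.subgroupOf K →* C) e.surjective η.2⟩
  let θ' : IrrCharacter (C.subgroupOf K) :=
    ⟨fun x => (η' : C → ℂ) (e x), isIrr_comp (e : C.subgroupOf K →* C) e.surjective η'.2⟩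
  have h1 : classInner (fun n : C.subgroupOf K => (ξ : K → ℂ) n) (θ : C.subgroupOf K → ℂ) ≠ 0 := by
    intro h0
    apply hov
    rw [← h0]
    exact (classInner_comp_mulEquiv e (fun n : C => (ξ : K → ℂ) ⟨n, hCK n.2⟩) (η : C → ℂ)).symm
  have h1' : classInner (fun n : C.subgroupOf K => (ξ' : K → ℂ) n)
      (θ' : C.subgroupOf K → ℂ) ≠ 0 := by
    intro h0
    apply hov'
    rw [← h0]
    exact (classInner_comp_mulEquiv e (fun n : C => (ξ' : K → ℂ) ⟨n, hCK n.2⟩) (η' : C → ℂ)).symm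
  obtain ⟨g, θ'', hθ'', hg⟩ := S0964.result p M hM (C.subgroupOf K) f hf
    (blockOf M (θ : C.subgroupOf K → ℂ)) (Blocks.Basic.isPBlock_blockOf θ) ξ hξ θ
    (Blocks.Basic.mem_blockOf_self θ) h1 ξ' hξ' θ' h1'
  refine ⟨((g⁻¹ : K) : G), (g⁻¹).2, ?_⟩
  have h2 : SameBlock M (θ : C.subgroupOf K → ℂ) (θ'' : C.subgroupOf K → ℂ) := hθ''
  have h3 := sameBlock_comp e.symm h2
  have h4 : (fun x : C => (θ : C.subgroupOf K → ℂ) (e.symm x)) = (η : C → ℂ) := by
    funext x
    show (η : C → ℂ) (e (e.symm x)) = _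
    rw [MulEquiv.apply_symm_apply]
  have h5 : (fun x : C => (θ'' : C.subgroupOf K → ℂ) (e.symm x)) =
      (cj C ((g⁻¹ : K) : G) η' : C → ℂ) := by
    funext x
    have h6 := hg (MulAut.conjNormal g⁻¹ (e.symm x))
    have h7 : (⟨(g : K) * ((MulAut.conjNormal g⁻¹ (e.symm x) : C.subgroupOf K) : K) * g⁻¹,
        (inferInstance : (C.subgroupOf K).Normal).conj_mem _
          (MulAut.conjNormal g⁻¹ (e.symm x) : C.subgroupOf K).2 g⟩ : C.subgroupOf K) =
        e.symm x := by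
      apply Subtype.ext
      simp only [MulAut.conjNormal_apply]
      group
    rw [h7] at h6
    rw [← h6, cj_apply]
    show (η' : C → ℂ) (e (MulAut.conjNormal g⁻¹ (e.symm x))) = _
    congr 1
  rw [h4, h5] at h3
  exact h3

end Gen

local notation "Cn(" D ")" => Subgroup.centralizer (SetLike.coe D)

section Pair

variable {G : Type u} [Group G] {p : ℕ} {M : Ideal AlgInt} [Fintype G] [Fact p.Prime]
  {B : Set (IrrCharacter G)} {D : Subgroup G} [hDn : D.Normal]

open scoped Classical in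
/-- The block idempotent at a character of the centralizer. -/
theorem omega_under (hM : IsPModular p M) (hB : IsPBlock M B) (hDp : IsPGroup p D)
    [Fintype Cn(D)] (η : IrrCharacter Cn(D)) :
    ∑ x : Cn(D), blockCoeff B (x : G) * ((η : Cn(D) → ℂ) x / (η : Cn(D) → ℂ) 1) =
      if η ∈ underSet Cn(D) B then 1 else 0 := by
  have hprime : M.IsPrime := hM.2.1.isPrime
  have hCn : (Cn(D)).Normal := Subgroup.normal_centralizer
  have hU := H646.UCov.ucov_of_centralizer_le hM D hDp _ le_rfl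
  have h3 := Blocks.Fong.sum_blockCoeff_mul (underSet Cn(D) B) η
  have h4 : ∀ x : Cn(D), blockCoeff B (x : G) * ((η : Cn(D) → ℂ) x / (η : Cn(D) → ℂ) 1) =
      (blockCoeff (underSet Cn(D) B) x * (η : Cn(D) → ℂ) x) * ((η : Cn(D) → ℂ) 1)⁻¹ := by
    intro x
    rw [H646.UCov.blockCoeff_eq _ hU hB, dif_pos x.2, div_eq_mul_inv, mul_assoc]
  rw [Finset.sum_congr rfl fun x _ => h4 x, ← Finset.sum_mul, h3]
  split_ifs
  · exact mul_inv_cancel₀ (isIrr_apply_one_ne_zero η.2)
  · rw [zero_mul]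

/-- Constituents on `C_G(D)` of the members of the block of a Brauer pair of `B`. -/
theorem mem_underSet_of_pair (hM : IsPModular p M) (hB : IsPBlock M B) (hDp : IsPGroup p D)
    [Fintype Cn(D)] {Q : Subgroup G} {f : Set (IrrCharacter Cn(Q))}
    (hf : IsBrauerPairOf p M B Q f) {ξ : IrrCharacter Cn(Q)} (hξ : ξ ∈ f) (hCK : Cn(D) ≤ Cn(Q))
    {η : IrrCharacter Cn(D)}
    (hov : classInner (fun n : Cn(D) => (ξ : Cn(Q) → ℂ) ⟨n, hCK n.2⟩) (η : Cn(D) → ℂ) ≠ 0) :
    η ∈ underSet Cn(D) B := by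
  classical
  have hprime : M.IsPrime := hM.2.1.isPrime
  have hCn : (Cn(D)).Normal := Subgroup.normal_centralizer
  have := Fintype.ofFinite Cn(Q)
  by_contra hnot
  have h1 := hf.2.2 ξ hξ
  rw [H652.PairBasic.brauerOmega_eq_sum, omega_eq Cn(D) Cn(Q) hCK
    (Blocks.Fong.blockCoeff_isClassFunction B)
    (fun g hg => blockCoeff_eq_zero hM hB D hDp hg) ξ.2 η.2 hov, omega_under hM hB hDp,
    if_neg hnot, zero_sub, Blocks.Local.memLocalIdeal_neg_iff] at h1
  exact Blocks.Local.not_memLocalIdeal_one h1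

/-- The characters of `C_G(D)` under `B` belong to Brauer pairs of `B`. -/
theorem pair_of_mem_underSet (hM : IsPModular p M) (hB : IsPBlock M B) (hDp : IsPGroup p D)
    [Fintype Cn(D)] {η : IrrCharacter Cn(D)} (hη : η ∈ underSet Cn(D) B) :
    IsBrauerPairOf p M B D (blockOf M (η : Cn(D) → ℂ)) := by
  classical
  have hprime : M.IsPrime := hM.2.1.isPrime
  refine H652.PairBasic.isBrauerPairOf_of_mem hM hB hDp (Blocks.Basic.isPBlock_blockOf η)
    (Blocks.Basic.mem_blockOf_self η) ?_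
  rw [H652.PairBasic.brauerOmega_eq_sum, omega_under hM hB hDp, if_pos hη, sub_self]
  exact Blocks.Local.memLocalIdeal_zero

end Pair

section Main

variable {G : Type u} [Group G] {p : ℕ} {M : Ideal AlgInt} [Fintype G] [Fact p.Prime]
  {B : Set (IrrCharacter G)} {D N : Subgroup G} [hDn : D.Normal] [hNn : N.Normal] [Fintype N]
  {b : Set (IrrCharacter N)} {θ : IrrCharacter N}

omit [Fintype G] [Fact p.Prime] hNn [Fintype N] in
/-- `N` fixes the characters of `C_G(D)`. -/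
theorem cj_eq_self [(Cn(D)).Normal] (h : Data p M B D N b θ) {n : G} (hn : n ∈ N)
    (η : IrrCharacter Cn(D)) : cj Cn(D) n η = η := by
  obtain ⟨d, hd, c, hc, rfl⟩ := exists_mul h.eqN hn
  apply Subtype.ext
  funext x
  rw [cj_apply]
  have h1 : (MulAut.conjNormal (d * c) x : Cn(D)) = (⟨c, hc⟩ : Cn(D)) * x * (⟨c, hc⟩ : Cn(D))⁻¹ := by
    apply Subtype.ext
    rw [MulAut.conjNormal_apply]
    have h2 : c * (x : G) * c⁻¹ ∈ Cn(D) := (Cn(D)).mul_mem ((Cn(D)).mul_mem hc x.2)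
      ((Cn(D)).inv_mem hc)
    have h3 := Subgroup.mem_centralizer_iff.1 h2 d hd
    simp only [Subgroup.coe_mul, Subgroup.coe_inv]
    calc d * c * (x : G) * (d * c)⁻¹ = (d * (c * (x : G) * c⁻¹)) * d⁻¹ := by group
      _ = c * (x : G) * c⁻¹ := by rw [h3]; group
  rw [h1]
  exact isIrr_isClassFunction η.2 x ⟨c, hc⟩

omit [Fintype G] hNn [Fintype N] in
/-- The index of `C_G(D)` in `N` is a power of `p`. -/
theorem exists_index_pow [Finite G] (h : Data p M B D N b θ)
    [((Cn(D)).subgroupOf N).Normal] : ∃ k : ℕ, ((Cn(D)).subgroupOf N).index = p ^ k := by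
  have hq : IsPGroup p (N ⧸ (Cn(D)).subgroupOf N) := by
    intro q
    obtain ⟨n, rfl⟩ := QuotientGroup.mk_surjective q
    obtain ⟨d, hd, c, hc, hdc⟩ := exists_mul h.eqN n.2
    obtain ⟨k, hk⟩ := h.isPGroup ⟨d, hd⟩
    refine ⟨k, ?_⟩
    have h1 : n = ⟨d, h.le hd⟩ * ⟨c, h.centralizer_le hc⟩ := Subtype.ext hdc.symm
    have h2 : ((⟨c, h.centralizer_le hc⟩ : N) : N ⧸ (Cn(D)).subgroupOf N) = 1 :=
      (QuotientGroup.eq_one_iff _).2 (Subgroup.mem_subgroupOf.2 hc)
    rw [h1, QuotientGroup.mk_mul, h2, mul_one, ← QuotientGroup.mk_pow]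
    have h3 : (⟨d, h.le hd⟩ : N) ^ p ^ k = 1 := by
      apply Subtype.ext
      have := congrArg Subtype.val hk
      simpa using this
    rw [h3]
    rfl
  exact IsPGroup.iff_card.1 hq

/-- If conjugation by `x` keeps a character of `C_G(D)` under `θ` inside its block, then `x` fixes
`θ`. -/
theorem mem_inertia_of_sameBlock [(Cn(D)).Normal] [Fintype Cn(D)] (hM : IsPModular p M)
    (h : Data p M B D N b θ) {η : IrrCharacter Cn(D)}
    (hov : classInner (fun n : Cn(D) => (θ : N → ℂ) ⟨n, h.centralizer_le n.2⟩) (η : Cn(D) → ℂ) ≠ 0)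
    {x : G} (hx : SameBlock M (η : Cn(D) → ℂ) (cj Cn(D) x η : Cn(D) → ℂ)) :
    x ∈ inertia N (θ : N → ℂ) := by
  classical
  have hprime : M.IsPrime := hM.2.1.isPrime
  have hCN := h.centralizer_le
  have := Fintype.ofFinite ((Cn(D)).subgroupOf N)
  have hU := H646.UCov.ucov_of_index hM ((Cn(D)).subgroupOf N) (exists_index_pow h)
  let e : (Cn(D)).subgroupOf N ≃* Cn(D) := Subgroup.subgroupOfEquivOfLe hCN
  have he : ∀ y : (Cn(D)).subgroupOf N, ((e y : Cn(D)) : G) = ((y : N) : G) := fun _ => rfl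
  let η₁ : IrrCharacter ((Cn(D)).subgroupOf N) :=
    ⟨fun y => (η : Cn(D) → ℂ) (e y), isIrr_comp (e : (Cn(D)).subgroupOf N →* Cn(D)) e.surjective η.2⟩
  let η₂ : IrrCharacter ((Cn(D)).subgroupOf N) :=
    ⟨fun y => (cj Cn(D) x η : Cn(D) → ℂ) (e y),
      isIrr_comp (e : (Cn(D)).subgroupOf N →* Cn(D)) e.surjective (cj Cn(D) x η).2⟩
  have h1 : classInner (fun n : (Cn(D)).subgroupOf N => (θ : N → ℂ) n)
      (η₁ : (Cn(D)).subgroupOf N → ℂ) ≠ 0 := by
    intro h0
    apply hov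
    rw [← h0]
    exact (classInner_comp_mulEquiv e (fun n : Cn(D) => (θ : N → ℂ) ⟨n, hCN n.2⟩)
      (η : Cn(D) → ℂ)).symm
  have h2 : classInner (fun n : (Cn(D)).subgroupOf N => (cj N x θ : N → ℂ) n)
      (η₂ : (Cn(D)).subgroupOf N → ℂ) ≠ 0 := by
    intro h0
    apply hov
    let c : Cn(D) ≃* Cn(D) := MulAut.conjNormal x
    have h3 := classInner_comp_mulEquiv (e.trans c)
      (fun n : Cn(D) => (θ : N → ℂ) ⟨n, hCN n.2⟩) (η : Cn(D) → ℂ)
    rw [← h3, ← h0]
    congr 1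
  have h3 := hU η₁ η₂ (sameBlock_comp e hx) θ (cj N x θ) h1 h2
  have h4 : cj N x θ ∈ b := Blocks.Basic.isPBlock_mem_of_sameBlock h.blk h.mem h3
  have h5 : cj N x θ = θ := by
    refine h.uniq _ h4 fun y hy => ?_
    rw [cj_apply, cj_apply, map_one]
    apply h.ker
    rw [Subgroup.mem_subgroupOf, MulAut.conjNormal_apply]
    exact hDn.conj_mem _ (Subgroup.mem_subgroupOf.1 hy) x
  rw [mem_inertia]
  intro n
  rw [← cj_apply, h5]

omit [Fact p.Prime] hNn in
/-- Transitivity of lying over. -/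
theorem over_trans {C : Subgroup G} [Fintype C] (hCN : C ≤ N) {χ : G → ℂ}
    (hχ : IsIrrCharacter G χ) {φ : N → ℂ} (hφ : IsIrrCharacter N φ) {η : C → ℂ}
    (hη : IsIrrCharacter C η) (h1 : classInner (fun n : N => χ n) φ ≠ 0)
    (h2 : classInner (fun c : C => φ ⟨c, hCN c.2⟩) η ≠ 0) :
    classInner (fun c : C => χ c) η ≠ 0 := by
  classical
  have := finite_irr (G := N)
  have := Fintype.ofFinite (IrrCharacter N)
  obtain ⟨a, ha, ha'⟩ := CharDeep.CliffordCorr.exists_nat_coeffs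
    (isCharacter_comp N.subtype (isIrr_isCharacter hχ))
  have haφ : a ⟨φ, hφ⟩ ≠ 0 := by
    intro h0
    have h3 := ha' ⟨φ, hφ⟩
    rw [h0, Nat.cast_zero] at h3
    exact h1 h3
  have hres : ∀ ψ : IrrCharacter N, IsCharacter C (fun c : C => (ψ : N → ℂ) ⟨c, hCN c.2⟩) :=
    fun ψ => isCharacter_comp (Subgroup.inclusion hCN) (isIrr_isCharacter ψ.2)
  choose k hk using fun ψ : IrrCharacter N => classInner_isNat (hres ψ) (isIrr_isCharacter hη)
  have h3 : (fun c : C => χ c) = ∑ ψ : IrrCharacter N,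
      (a ψ : ℂ) • (fun c : C => (ψ : N → ℂ) ⟨c, hCN c.2⟩) := by
    funext n
    have h4 := congrFun ha ⟨(n : G), hCN n.2⟩
    simp only [Finset.sum_apply, Pi.smul_apply, smul_eq_mul] at h4 ⊢
    exact h4
  rw [h3, classInner_sum_left]
  simp_rw [classInner_smul_left, hk]
  intro h4
  have h5 : ∑ ψ : IrrCharacter N, a ψ * k ψ = 0 := by exact_mod_cast h4
  have h6 := (Finset.sum_eq_zero_iff.1 h5) ⟨φ, hφ⟩ (Finset.mem_univ _)
  have h7 := (Nat.mul_eq_zero.1 h6).resolve_left haφ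
  apply h2
  have h8 := hk ⟨φ, hφ⟩
  rw [h7, Nat.cast_zero] at h8
  exact h8

omit [Fintype G] in
/-- Constituents on a smaller subgroup. -/
theorem exists_under {C K : Subgroup G} [Fintype C] [Finite K] (hCK : C ≤ K)
    (ξ : IrrCharacter K) :
    ∃ η : IrrCharacter C, classInner (fun n : C => (ξ : K → ℂ) ⟨n, hCK n.2⟩) (η : C → ℂ) ≠ 0 := by
  by_contra hcon
  push Not at hcon
  have := Fintype.ofFinite K
  have h1 := classFunction_eq_zero (G := C) (f := fun n : C => (ξ : K → ℂ) ⟨n, hCK n.2⟩)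
    (isCharacter_isClassFunction (isCharacter_comp (Subgroup.inclusion hCK)
      (isIrr_isCharacter ξ.2))) (fun θ hθ => hcon ⟨θ, hθ⟩)
  have h2 : (ξ : K → ℂ) 1 = 0 := congrFun h1 1
  exact isIrr_apply_one_ne_zero ξ.2 h2

end Main

end Cfsg.Agent.H700.NormNil
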