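import Mathlib

/-!
# `p`-regular classes of a group with an abelian quotient of order prime to `p` (for S4883)

* `exists_regular_lift` : every coset of `N` contains a `p`-regular element if `p ∤ |G : N|`;
* `card_regular_ge` : `k` classes of `p`-regular elements inside `N` and `G / N` abelian of order prime to `p` give
  `k + |G : N| - 1` classes of `p`-regular elements;
* `card_classes_of_count` : many elements in `N` of order `p`-regular with big centralizers give many classes.
-/

set_option autoImplicit false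

namespace Cfsg.Agent.H700.ClsQuot

variable {G : Type*} [Group G] [Finite G]

/-- a `p`-regular element in every coset of `N`, if `p ∤ |G : N|` -/
theorem exists_regular_lift (N : Subgroup G) [N.Normal] {p : ℕ} (hp : p.Prime) (hN : ¬ p ∣ N.index) (x : G) :
    ∃ y : G, ¬ p ∣ orderOf y ∧ (y : G ⧸ N) = (x : G ⧸ N) := by
  have h0 : Nat.card G ≠ 0 := Nat.card_pos.ne'
  set M := p ^ (Nat.card G).factorization p with hM
  obtain ⟨t, ht⟩ : M ∣ Nat.card G := Nat.ordProj_dvd _ _
  have htp : ¬ p ∣ t := by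
    have h1 := Nat.not_dvd_ordCompl hp h0
    have h2 : Nat.card G / M = t := by rw [ht]; exact Nat.mul_div_cancel_left t (pow_pos hp.pos _)
    rwa [← hM, h2] at h1
  have hcop : Nat.Coprime M N.index := (Nat.Prime.coprime_iff_not_dvd hp).2 hN |>.pow_left _
  obtain ⟨u, hu1, hu2⟩ : ∃ u : ℕ, u ≡ 0 [MOD M] ∧ u ≡ 1 [MOD N.index] := by
    obtain ⟨u, hu⟩ := Nat.chineseRemainder hcop 0 1
    exact ⟨u, hu.1, hu.2⟩
  obtain ⟨v, hv⟩ := (Nat.modEq_zero_iff_dvd).1 hu1
  refine ⟨x ^ u, fun hd => htp (hd.trans (orderOf_dvd_of_pow_eq_one ?_)), ?_⟩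
  · rw [← pow_mul, hv, mul_assoc, mul_comm v t, ← mul_assoc, ← ht, pow_mul, pow_card_eq_one', one_pow]
  · have h3 : ((x : G ⧸ N)) ^ u = ((x : G ⧸ N)) ^ 1 := by
      rw [pow_eq_pow_iff_modEq]
      refine hu2.of_dvd ?_
      have : orderOf ((x : G ⧸ N)) ∣ Nat.card (G ⧸ N) := orderOf_dvd_natCard _
      exact this
    rw [pow_one] at h3
    rw [← h3]
    rfl

/-- classes of `p`-regular elements of a group with abelian quotient of order prime to `p` -/
theorem card_regular_ge (N : Subgroup G) [N.Normal] (hab : ∀ a b : G, a * b * a⁻¹ * b⁻¹ ∈ N) {p k : ℕ}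
    (hp : p.Prime) (hN : ¬ p ∣ N.index) (f : Fin k → G) (hf : ∀ i, f i ∈ N) (hfp : ∀ i, ¬ p ∣ orderOf (f i))
    (hinj : ∀ i j, IsConj (f i) (f j) → i = j) :
    k + (N.index - 1) ≤ Nat.card {c : ConjClasses G // ∃ g : G, ConjClasses.mk g = c ∧ ¬ p ∣ orderOf g} := by
  classical
  have : Finite (ConjClasses G) := Quotient.finite _
  let Q := {a : G ⧸ N // a ≠ 1}
  have hlift : ∀ a : G ⧸ N, ∃ y : G, ¬ p ∣ orderOf y ∧ (y : G ⧸ N) = a := by
    intro a
    obtain ⟨x, rfl⟩ := QuotientGroup.mk_surjective a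
    exact exists_regular_lift N hp hN x
  choose l hl1 hl2 using hlift
  have hconj : ∀ x y : G, IsConj x y → (x : G ⧸ N) = (y : G ⧸ N) := by
    intro x y h
    obtain ⟨c, rfl⟩ := isConj_iff.1 h
    rw [QuotientGroup.eq]
    have h1 := hab x⁻¹ c
    have h2 : x⁻¹ * (c * x * c⁻¹) = x⁻¹ * c * x⁻¹⁻¹ * c⁻¹ := by group
    rw [h2]; exact h1
  let ψ : Fin k ⊕ Q → {c : ConjClasses G // ∃ g : G, ConjClasses.mk g = c ∧ ¬ p ∣ orderOf g} :=
    Sum.elim (fun i => ⟨ConjClasses.mk (f i), f i, rfl, hfp i⟩) (fun a => ⟨ConjClasses.mk (l a.1), l a.1, rfl, hl1 a.1⟩)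
  have hψ : Function.Injective ψ := by
    rintro (i | a) (j | b) h
    · have h1 : ConjClasses.mk (f i) = ConjClasses.mk (f j) := congrArg Subtype.val h
      rw [hinj i j (ConjClasses.mk_eq_mk_iff_isConj.1 h1)]
    · have h1 : ConjClasses.mk (f i) = ConjClasses.mk (l b.1) := congrArg Subtype.val h
      have h2 := hconj _ _ (ConjClasses.mk_eq_mk_iff_isConj.1 h1)
      rw [hl2, (QuotientGroup.eq_one_iff _).2 (hf i)] at h2
      exact absurd h2.symm b.2
    · have h1 : ConjClasses.mk (l a.1) = ConjClasses.mk (f j) := congrArg Subtype.val h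
      have h2 := hconj _ _ (ConjClasses.mk_eq_mk_iff_isConj.1 h1)
      rw [hl2, (QuotientGroup.eq_one_iff _).2 (hf j)] at h2
      exact absurd h2 a.2
    · have h1 : ConjClasses.mk (l a.1) = ConjClasses.mk (l b.1) := congrArg Subtype.val h
      have h2 := hconj _ _ (ConjClasses.mk_eq_mk_iff_isConj.1 h1)
      rw [hl2, hl2] at h2
      rw [Subtype.ext h2]
  have h4 := Nat.card_le_card_of_injective ψ hψ
  have h5 : Nat.card Q = N.index - 1 := by
    have h6 : Nat.card (G ⧸ N) = N.index := rfl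
    rw [← h6]
    have : Fintype (G ⧸ N) := Fintype.ofFinite _
    rw [Nat.card_eq_fintype_card, Nat.card_eq_fintype_card]
    show Fintype.card {a : G ⧸ N // ¬ a = 1} = _
    rw [Fintype.card_subtype_compl, Fintype.card_subtype_eq]
  rw [Nat.card_sum, Nat.card_fin, h5] at h4
  exact h4

/-- many elements with big centralizers give many classes: `X` a finite set of elements, each of them having at least
`c` commuting elements, `(k - 1) * |G| < |X| * c`. -/
theorem exists_reps (X : Finset G) {c k : ℕ} (hc : ∀ x ∈ X, c ≤ Nat.card (Subgroup.centralizer {x}))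
    (h : (k - 1) * Nat.card G < X.card * c) :
    ∃ f : Fin k → G, (∀ i, f i ∈ X) ∧ ∀ i j, IsConj (f i) (f j) → i = j := by
  classical
  have hfib : ∀ b ∈ X.image (ConjClasses.mk), ((X.filter fun x => ConjClasses.mk x = b).card * c ≤ Nat.card G) := by
    intro b hb
    obtain ⟨x, hx, rfl⟩ := Finset.mem_image.1 hb
    have h1 : (X.filter fun y => ConjClasses.mk y = ConjClasses.mk x).card ≤
        Nat.card (MulAction.orbit (ConjAct G) x) := by
      rw [← Nat.card_eq_finsetCard (X.filter fun y => ConjClasses.mk y = ConjClasses.mk x)]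
      refine Nat.card_le_card_of_injective (fun y => ⟨y.1, ?_⟩) ?_
      · obtain ⟨-, hy⟩ := Finset.mem_filter.1 y.2
        obtain ⟨g, hg⟩ := isConj_iff.1 (ConjClasses.mk_eq_mk_iff_isConj.1 hy).symm
        exact ⟨ConjAct.toConjAct g, by rw [← hg]; exact ConjAct.toConjAct_smul g x⟩
      · intro y z hyz
        have h5 := congrArg Subtype.val hyz
        exact Subtype.ext h5
    have h2 : Nat.card (MulAction.orbit (ConjAct G) x) * Nat.card (MulAction.stabilizer (ConjAct G) x) =
        Nat.card (ConjAct G) := by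
      rw [← Nat.card_prod]
      exact Nat.card_congr (MulAction.orbitProdStabilizerEquivGroup (ConjAct G) x)
    have h3 : Nat.card (Subgroup.centralizer {x}) = Nat.card (MulAction.stabilizer (ConjAct G) x) := by
      rw [ConjAct.stabilizer_eq_centralizer]
      rfl
    have h4 : Nat.card (ConjAct G) = Nat.card G := rfl
    rw [← h4, ← h2, ← h3]
    exact Nat.mul_le_mul h1 (hc x hx)
  have hk : k ≤ (X.image (ConjClasses.mk)).card := by
    by_contra hlt
    push Not at hlt
    have h1 : X.card = ∑ b ∈ X.image (ConjClasses.mk), (X.filter fun x => ConjClasses.mk x = b).card :=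
      Finset.card_eq_sum_card_image _ _
    have h2 : X.card * c ≤ (X.image (ConjClasses.mk)).card * Nat.card G := by
      rw [h1, Finset.sum_mul, ← smul_eq_mul, ← Finset.sum_const]
      exact Finset.sum_le_sum hfib
    have h3 : (X.image (ConjClasses.mk)).card * Nat.card G ≤ (k - 1) * Nat.card G :=
      Nat.mul_le_mul (by omega) le_rfl
    omega
  obtain ⟨Y, hYX, hY⟩ := Finset.exists_subset_card_eq hk
  have h1 : ∀ y ∈ Y, ∃ x ∈ X, ConjClasses.mk x = y := by
    intro y hy
    simpa using Finset.mem_image.1 (hYX hy)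
  choose! x hx1 hx2 using h1
  let e := Y.equivFinOfCardEq hY
  refine ⟨fun i => x (e.symm i).1, fun i => hx1 _ (e.symm i).2, fun i j hij => ?_⟩
  apply e.symm.injective
  apply Subtype.ext
  rw [← hx2 _ (e.symm i).2, ← hx2 _ (e.symm j).2]
  exact ConjClasses.mk_eq_mk_iff_isConj.2 hij

end Cfsg.Agent.H700.ClsQuot
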