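import Mathlib
import Cfsg.Prelude.Def_BrauerPairs
import Cfsg.Agent.H700.NormNil
import Cfsg.Agent.H649.CentricBlock
import Cfsg.Agent.S0912
import Cfsg.Agent.Lib.Cores

/-!
# A block with normal defect group: inertia group `N` implies nilpotency
-/

set_option autoImplicit false

namespace Cfsg.Agent.H700.NormFwd

open Cfsg Cfsg.Agent.Characters.Core Cfsg.Agent.Characters.Clifford
open Cfsg.Agent.Blocks.CentralProduct
open Cfsg.Agent.H700.NormData Cfsg.Agent.H700.SchurAvg Cfsg.Agent.H700.NormInertia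
open Cfsg.Agent.H700.NormDeg Cfsg.Agent.H700.NormMain Cfsg.Agent.H700.NormNil
open Cfsg.Agent.H646.NormalSupport
open Cfsg.Agent.Blocks.Fong (cj cj_apply cj_cj cj_one)
open scoped ComplexConjugate

universe u

local notation "Cn(" D ")" => Subgroup.centralizer (SetLike.coe D)

variable {G : Type u} [Group G] {p : ℕ} {M : Ideal AlgInt} [Fact p.Prime]
  {B : Set (IrrCharacter G)}

/-- A normal defect group is the only defect group. -/
theorem eq_defect [Finite G] (hM : IsPModular p M) (hB : IsPBlock M B) {D D' : Subgroup G}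
    [hDn : D.Normal] (hD : IsDefectGroup p M B D) (hD' : IsDefectGroup p M B D') : D = D' := by
  have h1 : D ≤ pCore p G := Lib.Cores.le_pCore hDn (isPGroup_of_isDefectGroup hD)
  have h2 := S0912.result p M hM B hB D' hD'
  have h3 := S0908.result p M hM B hB D hD
  have h4 := S0908.result p M hM B hB D' hD'
  exact Subgroup.eq_of_le_of_card_ge (h1.trans h2) (by rw [h3, h4])

/-- If `y` is `p`-regular in `N_G(Q)` and `y = d c` with `d` a `p`-element and `c ∈ C_G(Q)`, then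
`y ∈ C_G(Q)`. -/
theorem mem_centralizer_of_mul [Finite G] {D Q : Subgroup G} (hDp : IsPGroup p D) {y d c : G}
    (hyQ : y ∈ Subgroup.normalizer (Q : Set G)) (hreg : ¬ p ∣ orderOf y) (hd : d ∈ D)
    (hc : c ∈ Cn(Q)) (h : d * c = y) : y ∈ Cn(Q) := by
  have hcn : c ∈ Subgroup.normalizer (Q : Set G) := Subgroup.centralizer_le_normalizer _ hc
  have hdn : d ∈ Subgroup.normalizer (Q : Set G) := by
    have : d = y * c⁻¹ := by rw [← h]; group
    rw [this]
    exact mul_mem hyQ (inv_mem hcn)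
  have h1 : (⟨y, hyQ⟩ : Subgroup.normalizer (Q : Set G)) = ⟨d, hdn⟩ * ⟨c, hcn⟩ :=
    Subtype.ext h.symm
  have hker : (⟨c, hcn⟩ : Subgroup.normalizer (Q : Set G)) ∈
      (Subgroup.normalizerMonoidHom Q).ker := by
    rw [Subgroup.normalizerMonoidHom_ker]
    exact Subgroup.mem_subgroupOf.2 hc
  have h2 : Subgroup.normalizerMonoidHom Q ⟨y, hyQ⟩ = Subgroup.normalizerMonoidHom Q ⟨d, hdn⟩ := by
    rw [h1, map_mul, (MonoidHom.mem_ker).1 hker, mul_one]
  have h3 : orderOf (Subgroup.normalizerMonoidHom Q ⟨y, hyQ⟩) ∣ orderOf y := by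
    have := orderOf_map_dvd (Subgroup.normalizerMonoidHom Q) ⟨y, hyQ⟩
    rwa [Subgroup.orderOf_mk] at this
  obtain ⟨k, hk⟩ := hDp ⟨d, hd⟩
  have h4 : orderOf (Subgroup.normalizerMonoidHom Q ⟨y, hyQ⟩) ∣ p ^ k := by
    rw [h2]
    refine orderOf_dvd_of_pow_eq_one ?_
    rw [← map_pow]
    have h5 : (⟨d, hdn⟩ : Subgroup.normalizer (Q : Set G)) ^ p ^ k = 1 := by
      apply Subtype.ext
      have := congrArg Subtype.val hk
      simpa using this
    rw [h5, map_one]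
  have h5 : Nat.Coprime (orderOf y) (p ^ k) :=
    Nat.Coprime.pow_right k (((Nat.Prime.coprime_iff_not_dvd Fact.out).2 hreg).symm)
  have h6 := Nat.eq_one_of_dvd_coprimes h5 h3 h4
  rw [orderOf_eq_one_iff] at h6
  have h7 : (⟨y, hyQ⟩ : Subgroup.normalizer (Q : Set G)) ∈
      (Subgroup.normalizerMonoidHom Q).ker := h6
  rw [Subgroup.normalizerMonoidHom_ker] at h7
  exact Subgroup.mem_subgroupOf.1 h7

variable [Fintype G] {D N : Subgroup G} [hDn : D.Normal] [hNn : N.Normal] [Fintype N]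
  {b : Set (IrrCharacter N)} {θ : IrrCharacter N}

omit hDn hNn in
/-- Constituents of `θ` on `C_G(D)` are under `B`. -/
theorem mem_underSet_of_over [Fintype Cn(D)] (hM : IsPModular p M)
    (h : Data p M B D N b θ) {η : IrrCharacter Cn(D)}
    (hov : classInner (fun n : Cn(D) => (θ : N → ℂ) ⟨n, h.centralizer_le n.2⟩)
      (η : Cn(D) → ℂ) ≠ 0) : η ∈ underSet Cn(D) B := by
  obtain ⟨χ, hχ, h0⟩ := S0934.result p M hM N b B h.ind θ h.mem
  exact ⟨χ, hχ, over_trans h.centralizer_le χ.2 θ.2 η.2 h0 hov⟩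

/-- If `N` is the inertia group of the canonical character then the block is nilpotent. -/
theorem isNilpotentBlock (hM : IsPModular p M) (hB : IsPBlock M B) (hD : IsDefectGroup p M B D)
    (h : Data p M B D N b θ) (hT : inertia N (θ : N → ℂ) = N) : IsNilpotentBlock p M B := by
  classical
  have hprime : M.IsPrime := hM.2.1.isPrime
  refine ⟨hB, fun Q f hf y hyQ hyst hyreg => ?_⟩
  obtain ⟨D', hD', hQD⟩ := H649.exists_defect_ge hM hf
  rw [← eq_defect hM hB hD hD'] at hQD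
  have hCn : (Cn(D)).Normal := Subgroup.normal_centralizer
  have := Fintype.ofFinite Cn(D)
  have hCK : Cn(D) ≤ Cn(Q) := Subgroup.centralizer_le hQD
  obtain ⟨ξ, hξ⟩ := Blocks.Basic.isPBlock_nonempty hf.1.2
  obtain ⟨ξ', hξ', hconj⟩ := hyst.2 ξ hξ
  obtain ⟨η, hη⟩ := exists_under hCK ξ
  have hη' : classInner (fun n : Cn(D) => (ξ' : Cn(Q) → ℂ) ⟨n, hCK n.2⟩)
      (cj Cn(D) y⁻¹ η : Cn(D) → ℂ) ≠ 0 := by
    intro h0
    apply hη
    rw [← h0]
    let c : Cn(D) ≃* Cn(D) := MulAut.conjNormal y⁻¹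
    have h3 := classInner_comp_mulEquiv c
      (fun n : Cn(D) => (ξ : Cn(Q) → ℂ) ⟨n, hCK n.2⟩) (η : Cn(D) → ℂ)
    rw [← h3]
    congr 1
    funext n
    refine (hconj ⟨c n, hCK (c n).2⟩ ⟨n, hCK n.2⟩ ?_).symm
    show (n : G) = y * ((MulAut.conjNormal y⁻¹ n : Cn(D)) : G) * y⁻¹
    rw [MulAut.conjNormal_apply]
    group
  obtain ⟨k, hk, hsb⟩ := cover_conj hM Cn(D) Cn(Q) hCK hf.1.2 hξ hξ' hη hη'
  rw [cj_cj] at hsb
  have hηB := mem_underSet_of_pair hM hB h.isPGroup hf hξ hCK hη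
  obtain ⟨η₀, hη₀⟩ := exists_under h.centralizer_le θ
  have hη₀B := mem_underSet_of_over hM h hη₀
  have hU := H646.UCov.ucov_of_centralizer_le hM D h.isPGroup _ le_rfl
  obtain ⟨g, hg⟩ := (H646.UCov.mem_underSet_iff Cn(D) hM hU hB
    (Blocks.Basic.isPBlock_blockOf η₀) (Blocks.Basic.mem_blockOf_self η₀) hη₀B η).1 hηB
  have hg' : SameBlock M (η₀ : Cn(D) → ℂ) (cj Cn(D) g η : Cn(D) → ℂ) := hg
  -- conjugate to `η₀`
  have h1 : SameBlock M (cj Cn(D) g η : Cn(D) → ℂ)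
      (cj Cn(D) (g⁻¹ * (y⁻¹ * k) * g) (cj Cn(D) g η) : Cn(D) → ℂ) := by
    have := H646.UCov.sameBlock_cj Cn(D) g hsb
    rw [cj_cj] at this
    rw [cj_cj]
    have e : g * (g⁻¹ * (y⁻¹ * k) * g) = y⁻¹ * k * g := by group
    rwa [e]
  have h2 := H646.UCov.sameBlock_cj Cn(D) (g⁻¹ * (y⁻¹ * k) * g) hg'
  have h3 : SameBlock M (η₀ : Cn(D) → ℂ)
      (cj Cn(D) (g⁻¹ * (y⁻¹ * k) * g) η₀ : Cn(D) → ℂ) :=
    Blocks.Basic.sameBlock_trans (Blocks.Basic.sameBlock_trans hg' h1)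
      (Blocks.Basic.sameBlock_symm h2)
  have h4 := mem_inertia_of_sameBlock hM h hη₀ h3
  rw [hT] at h4
  have h5 : y⁻¹ * k ∈ N := by
    have := hNn.conj_mem _ h4 g
    rwa [show g * (g⁻¹ * (y⁻¹ * k) * g) * g⁻¹ = y⁻¹ * k by group] at this
  obtain ⟨d, hd, c, hc, hdc⟩ := exists_mul h.eqN h5
  rw [← inv_mem_iff]
  refine mem_centralizer_of_mul h.isPGroup (inv_mem hyQ) (by rwa [orderOf_inv]) hd
    (mul_mem (hCK hc) (inv_mem hk)) (?_ : d * (c * k⁻¹) = y⁻¹)
  rw [← mul_assoc, hdc]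
  group

end Cfsg.Agent.H700.NormFwd
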