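import Mathlib
import Cfsg.Prelude.Def_BrauerPairs
import Cfsg.Agent.H700.NormFwd
import Cfsg.Agent.S0854

/-!
# A block with normal defect group: nilpotency implies equal degrees
-/

set_option autoImplicit false

namespace Cfsg.Agent.H700.NormBwd

open Cfsg Cfsg.Agent.Characters.Core Cfsg.Agent.Characters.Clifford
open Cfsg.Agent.Blocks.CentralProduct
open Cfsg.Agent.H700.NormData Cfsg.Agent.H700.SchurAvg Cfsg.Agent.H700.NormInertia
open Cfsg.Agent.H700.NormDeg Cfsg.Agent.H700.NormMain Cfsg.Agent.H700.NormNil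
open Cfsg.Agent.H700.NormFwd
open Cfsg.Agent.H646.NormalSupport
open Cfsg.Agent.Blocks.Fong (cj cj_apply cj_cj cj_one)
open scoped ComplexConjugate

universe u

local notation "Cn(" D ")" => Subgroup.centralizer (SetLike.coe D)

/-- Constituents on a smaller normal subgroup are conjugate. -/
theorem under_conj {G : Type u} [Group G] [Finite G] {C N : Subgroup G} [C.Normal]
    [Fintype C] (hCN : C ≤ N) {θ : N → ℂ} (hθ : IsIrrCharacter N θ) {η η' : IrrCharacter C}
    (h1 : classInner (fun n : C => θ ⟨n, hCN n.2⟩) (η : C → ℂ) ≠ 0)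
    (h2 : classInner (fun n : C => θ ⟨n, hCN n.2⟩) (η' : C → ℂ) ≠ 0) :
    ∃ n ∈ N, η' = cj C n η := by
  classical
  have := Fintype.ofFinite N
  have := Fintype.ofFinite (C.subgroupOf N)
  let e : C.subgroupOf N ≃* C := Subgroup.subgroupOfEquivOfLe hCN
  obtain ⟨n, hn⟩ := exists_conj_of_constituents (C.subgroupOf N) hθ
    (isIrr_comp (e : C.subgroupOf N →* C) e.surjective η.2)
    (isIrr_comp (e : C.subgroupOf N →* C) e.surjective η'.2)
    (by
      intro h0
      apply h1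
      rw [← h0]
      exact (classInner_comp_mulEquiv e (fun n : C => θ ⟨n, hCN n.2⟩) (η : C → ℂ)).symm)
    (by
      intro h0
      apply h2
      rw [← h0]
      exact (classInner_comp_mulEquiv e (fun n : C => θ ⟨n, hCN n.2⟩) (η' : C → ℂ)).symm)
  refine ⟨n, n.2, ?_⟩
  apply Subtype.ext
  funext c
  obtain ⟨c, rfl⟩ := e.surjective c
  have h3 := congrFun hn c
  rw [cj_apply]
  have h4 : (η' : C → ℂ) (e c) = (η : C → ℂ) (e (MulAut.conjNormal n c)) := h3
  rw [h4]
  congr 1

variable {G : Type u} [Group G] {p : ℕ} {M : Ideal AlgInt} [Fintype G] [Fact p.Prime]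
  {B : Set (IrrCharacter G)} {D N : Subgroup G} [hDn : D.Normal] [hNn : N.Normal] [Fintype N]
  {b : Set (IrrCharacter N)} {θ : IrrCharacter N}

/-- The canonical character of a nilpotent block with normal defect group is only fixed by `N`. -/
theorem inertia_eq (hM : IsPModular p M) (hB : IsPBlock M B) (hD : IsDefectGroup p M B D)
    (h : Data p M B D N b θ) (hnil : IsNilpotentBlock p M B) : inertia N (θ : N → ℂ) = N := by
  classical
  have hp : p.Prime := Fact.out
  have hprime : M.IsPrime := hM.2.1.isPrime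
  have hNT : N ≤ inertia N (θ : N → ℂ) := le_inertia (isIrr_isClassFunction θ.2)
  refine le_antisymm (fun t ht => ?_) hNT
  have hCn : (Cn(D)).Normal := Subgroup.normal_centralizer
  have := Fintype.ofFinite Cn(D)
  obtain ⟨η₀, hη₀⟩ := exists_under h.centralizer_le θ
  have hη₀B := mem_underSet_of_over hM h hη₀
  have hpair := pair_of_mem_underSet hM hB h.isPGroup hη₀B
  have hn0 : orderOf t ≠ 0 := (orderOf_pos t).ne'
  set k := (orderOf t).factorization p with hk
  have hdvd : p ^ k ∣ orderOf t := Nat.ordProj_dvd _ _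
  have hs : orderOf (t ^ p ^ k) = orderOf t / p ^ k :=
    orderOf_pow_of_dvd (pow_ne_zero _ hp.ne_zero) hdvd
  have hsp : ¬ p ∣ orderOf (t ^ p ^ k) := by
    rw [hs]
    exact Nat.not_dvd_ordCompl hp hn0
  have hyT : t ^ p ^ k ∈ inertia N (θ : N → ℂ) := Subgroup.pow_mem _ ht _
  set y := t ^ p ^ k with hy
  have hη' : classInner (fun n : Cn(D) => (θ : N → ℂ) ⟨n, h.centralizer_le n.2⟩)
      (cj Cn(D) y η₀ : Cn(D) → ℂ) ≠ 0 := by
    intro h0
    apply hη₀
    rw [← h0]
    let c : Cn(D) ≃* Cn(D) := MulAut.conjNormal y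
    have h3 := classInner_comp_mulEquiv c
      (fun n : Cn(D) => (θ : N → ℂ) ⟨n, h.centralizer_le n.2⟩) (η₀ : Cn(D) → ℂ)
    rw [← h3]
    congr 1
    funext n
    exact mem_inertia.1 hyT ⟨n, h.centralizer_le n.2⟩
  obtain ⟨n, hn, hcj⟩ := under_conj h.centralizer_le θ.2 hη₀ hη'
  rw [cj_eq_self h hn] at hcj
  have hst : StabilizesBlock Cn(D) (blockOf M (η₀ : Cn(D) → ℂ)) y := by
    rw [H646.UCov.stabilizesBlock_iff_cj]
    refine H646.UCov.stable_of_mem Cn(D) (Blocks.Basic.isPBlock_blockOf η₀)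
      (Blocks.Basic.mem_blockOf_self η₀) ?_
    have h5 : cj Cn(D) y⁻¹ η₀ = η₀ := by
      conv_lhs => rw [← hcj]
      exact H646.UCov.cj_inv_cj Cn(D) y η₀
    rw [h5]
    exact Blocks.Basic.mem_blockOf_self η₀
  have hyC : y ∈ Cn(D) := hnil.2 D _ hpair y (by rw [Subgroup.normalizer_eq_top]; trivial) hst hsp
  have h1 : t ^ p ^ k ∈ N := h.centralizer_le hyC
  have h2 : t ^ N.relIndex (inertia N (θ : N → ℂ)) ∈ N := by
    have h6 := Subgroup.pow_index_mem (N.subgroupOf (inertia N (θ : N → ℂ))) ⟨t, ht⟩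
    exact Subgroup.mem_subgroupOf.1 h6
  have hidx := not_dvd_relIndex hM hB hD h
  have hcop : IsCoprime ((p ^ k : ℕ) : ℤ) ((N.relIndex (inertia N (θ : N → ℂ)) : ℕ) : ℤ) := by
    rw [Nat.isCoprime_iff_coprime]
    exact Nat.Coprime.pow_left k ((Nat.Prime.coprime_iff_not_dvd hp).2 hidx)
  obtain ⟨x, z, hxz⟩ := hcop
  have h3 : t = (t ^ p ^ k) ^ x * (t ^ N.relIndex (inertia N (θ : N → ℂ))) ^ z := by
    rw [← zpow_natCast, ← zpow_natCast, ← zpow_mul, ← zpow_mul, ← zpow_add,
      mul_comm _ x, mul_comm _ z, hxz, zpow_one]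
  rw [h3]
  exact N.mul_mem (Subgroup.zpow_mem _ h1 _) (Subgroup.zpow_mem _ h2 _)

/-- If the canonical character is only fixed by `N`, the height zero characters have equal
degrees. -/
theorem degree_eq (hM : IsPModular p M) (hB : IsPBlock M B) (hD : IsDefectGroup p M B D)
    (h : Data p M B D N b θ) (hT : inertia N (θ : N → ℂ) = N) {χ : IrrCharacter G} (hχ : χ ∈ B)
    (hht : blockHeight p B (χ : G → ℂ) = 0) :
    charDegree (χ : G → ℂ) = N.index * charDegree (θ : N → ℂ) := by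
  classical
  have hp : p.Prime := Fact.out
  have hprime : M.IsPrime := hM.2.1.isPrime
  have hU := H646.UCov.ucov_of_centralizer_le hM D h.isPGroup N h.centralizer_le
  obtain ⟨χ₀, hχ₀, h0⟩ := S0934.result p M hM N b B h.ind θ h.mem
  obtain ⟨φ₀, hφ₀⟩ := Blocks.Fong.exists_constituent N χ
  obtain ⟨g, hg⟩ := (H646.UCov.mem_underSet_iff N hM hU hB h.blk h.mem ⟨χ₀, hχ₀, h0⟩ φ₀).1
    ⟨χ, hχ, hφ₀⟩
  set φ := cj N g φ₀ with hφ
  have hov : classInner (fun n : N => (χ : G → ℂ) n) (φ : N → ℂ) ≠ 0 := by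
    have h1 := classInner_restrict_conjNormal (N := N)
      (Blocks.Basic.irr_isClassFunction χ.2) (φ₀ : N → ℂ) g
    have h2 : (φ : N → ℂ) = (φ₀ : N → ℂ) ∘ (MulAut.conjNormal g : MulAut N) := rfl
    rw [h2, h1]
    exact hφ₀
  -- the inertia group of `φ`
  have hinert : ∀ x : G, x ∈ N ↔ x ∈ inertia N (φ : N → ℂ) := by
    intro x
    refine ⟨fun hx => le_inertia (isIrr_isClassFunction φ.2) hx, fun hx => ?_⟩
    have h1 : cj N x φ = φ := Subtype.ext (funext fun n => by
      rw [cj_apply]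
      exact mem_inertia.1 hx n)
    have h2 := H646.UCov.stable_of_mem N h.blk hg (by rw [h1]; exact hg) θ h.mem
    have h3 : cj N x θ = θ := by
      refine h.uniq _ h2 fun y hy => ?_
      rw [cj_apply, cj_apply, map_one]
      apply h.ker
      rw [Subgroup.mem_subgroupOf, MulAut.conjNormal_apply]
      exact hDn.conj_mem _ (Subgroup.mem_subgroupOf.1 hy) x
    rw [← hT, mem_inertia]
    intro n
    rw [← cj_apply, h3]
  obtain ⟨ψ, hψ, hind, hin⟩ := S0854.result N (φ : N → ℂ) φ.2 N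
    (fun x => (hinert x).trans mem_inertia') le_rfl (χ : G → ℂ) χ.2 hov
  have hψφ : ψ = (φ : N → ℂ) := by
    by_contra hne
    apply hov
    rw [← hin]
    exact classInner_irr_ne hψ φ.2 hne
  have hdeg : (χ : G → ℂ) 1 = N.index * (φ : N → ℂ) 1 := by
    rw [← hind, CharactersDeep.NormalInd.indFun_one, hψφ]
  obtain ⟨⟨η, hη, hηφ⟩, -⟩ := h.exists_eq hM hg
  have h1 := hηφ 1 1 not_dvd_orderOf_one
  have h2 : (φ : N → ℂ) 1 = η 1 * (θ : N → ℂ) 1 := by
    rw [← h1]
    simp
  obtain ⟨a, ha0, ha⟩ := isIrr_apply_one hη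
  obtain ⟨m, hm0, hm⟩ := isIrr_apply_one θ.2
  have hχ1 : (χ : G → ℂ) 1 = ((N.index * (a * m) : ℕ) : ℂ) := by
    rw [hdeg, h2, ha, hm]
    push_cast
    ring
  have hdegχ := charDegree_eq hχ1
  have hdegθ := charDegree_eq hm
  -- `a` is a power of `p`
  obtain ⟨k, hk⟩ := IsPGroup.iff_card.1 h.isPGroup'
  have hadvd : a ∣ p ^ k := by
    rw [← hk]
    exact degree_dvd_card hη ha
  obtain ⟨j, -, rfl⟩ := (Nat.dvd_prime_pow hp).1 hadvd
  -- height zero
  have hfac : (charDegree (χ : G → ℂ)).factorization p + blockDefect p B ≤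
      (Nat.card G).factorization p := by
    rw [Blocks.Basic.blockHeight_def, tsub_eq_zero_iff_le] at hht
    rw [Blocks.Basic.blockDefect_def]
    obtain ⟨χ₁, hχ₁, h1⟩ := Nat.sInf_mem (s := (fun χ : IrrCharacter G =>
      (charDegree (χ : G → ℂ)).factorization p) '' B) ⟨_, χ, hχ, rfl⟩
    have h2 : (charDegree (χ₁ : G → ℂ)).factorization p ≤ (Nat.card G).factorization p := by
      obtain ⟨n, hn0, hn⟩ := isIrr_apply_one χ₁.2
      rw [charDegree_eq hn]
      exact (Nat.factorization_le_iff_dvd hn0.ne' Nat.card_pos.ne').2 (degree_dvd_card χ₁.2 hn) p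
    simp only at h1
    omega
  have hcard := fac_card_eq (p := p) h.le
  have hdθ := h.deg
  rw [hdegθ] at hdθ
  rw [hdegχ, Nat.factorization_mul Subgroup.index_ne_zero_of_finite
    (mul_ne_zero (pow_ne_zero _ hp.ne_zero) hm0.ne'),
    Nat.factorization_mul (pow_ne_zero _ hp.ne_zero) hm0.ne', Finsupp.add_apply,
    Finsupp.add_apply, hcard, ← fac_card hM hB hD, hdθ, hp.factorization_pow,
    Finsupp.single_eq_same] at hfac
  have hj : j = 0 := by omega
  rw [hdegχ, hdegθ, hj, pow_zero, one_mul]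

end Cfsg.Agent.H700.NormBwd
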