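import Cfsg.Agent.H700.ClsQuot
import Cfsg.Agent.HKS.EndOrd
import Cfsg.Agent.S2603
import Cfsg.Agent.Ly.McL.Simple

/-!
# S4883 for `PSU₃(16)` and `p = 17`

This is the only case in which the orbits of `Aut S` on the 17-regular elements of `S` (there are 16 of them) are not
enough; one has to use the cosets of `S` in `G` (`Out S` is cyclic of order 8).
-/

set_option autoImplicit false

namespace Cfsg.Agent.H700.SUThree16

open Cfsg

theorem dvd_cases {n : ℕ} (h : n ∣ 17756160) (h1 : n ≡ 1 [MOD 241]) : n = 1 ∨ n = 5918720 := by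
  have h2 : n ∣ 2 ^ 12 * 4335 := by norm_num at h ⊢; exact h
  obtain ⟨a, b, ha, hb, rfl⟩ := (Nat.dvd_mul).1 h2
  obtain ⟨i, hi, rfl⟩ := (Nat.dvd_prime_pow Nat.prime_two).1 ha
  have hb' : b ∈ Nat.divisors 4335 := Nat.mem_divisors.2 ⟨hb, by norm_num⟩
  have hd : Nat.divisors 4335 = {1, 3, 5, 15, 17, 51, 85, 255, 289, 867, 1445, 4335} := by decide +kernel
  rw [hd] at hb'
  simp only [Finset.mem_insert, Finset.mem_singleton] at hb'
  unfold Nat.ModEq at h1
  rcases hb' with rfl | rfl | rfl | rfl | rfl | rfl | rfl | rfl | rfl | rfl | rfl | rfl <;>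
    interval_cases i <;> revert h1 <;> decide

variable {S : Type*} [Group S] [Finite S] [IsSimpleGroup S]

theorem card_order (hS : Nat.card S = 4279234560) : Nat.card {x : S // orderOf x = 241} = 5918720 * 240 := by
  have hp : Nat.Prime 241 := by norm_num
  have : Fact (Nat.Prime 241) := ⟨hp⟩
  have hP : ∀ P : Sylow 241 S, Nat.card (P : Subgroup S) = 241 := by
    intro P
    rw [P.card_eq_multiplicity, hS]
    have : (4279234560 : ℕ).factorization 241 = 1 := by
      have h1 : (4279234560 : ℕ) = 241 * 17756160 := by norm_num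
      rw [h1, Nat.factorization_mul (by norm_num) (by norm_num)]
      have h2 : (17756160 : ℕ).factorization 241 = 0 := Nat.factorization_eq_zero_of_not_dvd (by norm_num)
      simp [h2, hp.factorization_self]
    rw [this, pow_one]
  rw [Ly.McL.Simple.card_orderOf_prime hP]
  have P : Sylow 241 S := default
  have h1 : Nat.card (Sylow 241 S) ≡ 1 [MOD 241] := card_sylow_modEq_one 241 S
  have h2 : Nat.card (Sylow 241 S) ∣ 17756160 := by
    have h3 := P.card_dvd_index
    have h4 := (P : Subgroup S).card_mul_index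
    rw [hP P, hS] at h4
    have h5 : (P : Subgroup S).index = 17756160 := by omega
    rwa [h5] at h3
  rcases dvd_cases h2 h1 with h | h
  · exfalso
    have hn : (P : Subgroup S).Normal := by
      have h3 := P.card_eq_index_normalizer
      rw [h] at h3
      exact Subgroup.normalizer_eq_top_iff.1 (Subgroup.index_eq_one.1 h3.symm)
    have h6 := hP P
    rcases hn.eq_bot_or_eq_top with h7 | h7
    · rw [h7, Subgroup.card_bot] at h6
      norm_num at h6
    · rw [h7, Subgroup.card_top, hS] at h6
      norm_num at h6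
  · rw [h]

/-- the count, from the order of `S` and abelian `Out S` of order dividing 8 -/
theorem main_aux (hS : Nat.card S = 4279234560)
    (hab : ∀ a b : MulAut S, a * b * a⁻¹ * b⁻¹ ∈ (MulAut.conj : S →* MulAut S).range)
    (hix : (MulAut.conj : S →* MulAut S).range.index ∣ 8)
    (G : Subgroup (MulAut S)) (hG : (MulAut.conj : S →* MulAut S).range ≤ G) :
    17 ≤ Nat.card {c : ConjClasses ↥G // ∃ g : ↥G, ConjClasses.mk g = c ∧ ¬ 17 ∣ orderOf g} := by
  classical
  have : Finite (MulAut S) := inferInstance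
  have : Finite ↥G := inferInstance
  have hZ : Subgroup.center S = ⊥ := by
    rcases (inferInstance : (Subgroup.center S).Normal).eq_bot_or_eq_top with h | h
    · exact h
    · exfalso
      have hcomm : ∀ a b : S, a * b = b * a := fun a b =>
        (Subgroup.mem_center_iff.1 (h ▸ Subgroup.mem_top b : b ∈ Subgroup.center S) a)
      let _ : CommGroup S := { (inferInstance : Group S) with mul_comm := hcomm }
      have h1 := (IsSimpleGroup.prime_card (α := S))
      rw [hS] at h1
      norm_num at h1
  have hinj : Function.Injective (MulAut.conj : S →* MulAut S) := by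
    rw [← MonoidHom.ker_eq_bot_iff, eq_bot_iff]
    intro x hx
    rw [MonoidHom.mem_ker] at hx
    rw [← hZ, Subgroup.mem_center_iff]
    intro g
    have h3 : MulAut.conj x g = g := by rw [hx]; rfl
    rw [MulAut.conj_apply] at h3
    calc g * x = (x * g * x⁻¹) * x := by rw [h3]
      _ = x * g := by group
  have hnr : ((MulAut.conj : S →* MulAut S).range).Normal := by
    constructor
    rintro _ ⟨x, rfl⟩ a
    exact ⟨a x, by ext s; simp⟩
  set N : Subgroup ↥G := ((MulAut.conj : S →* MulAut S).range).subgroupOf G with hNdef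
  have : N.Normal := hnr.subgroupOf G
  have hNix : N.index ∣ 8 := by
    have h1 : ((MulAut.conj : S →* MulAut S).range).relIndex G ∣ ((MulAut.conj : S →* MulAut S).range).index := by
      have := hnr
      exact Subgroup.relIndex_dvd_index_of_normal _ _
    exact h1.trans hix
  have hNcard : Nat.card N = 4279234560 := by
    rw [← hS]
    have h1 : Nat.card N = Nat.card ((MulAut.conj : S →* MulAut S).range) :=
      Nat.card_congr (Subgroup.subgroupOfEquivOfLe hG).toEquiv
    rw [h1]
    exact Nat.card_congr (MonoidHom.ofInjective hinj).symm.toEquiv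
  have hGcard : Nat.card ↥G = N.index * 4279234560 := by
    rw [← hNcard, mul_comm]
    exact (N.card_mul_index).symm
  let ι : S → ↥G := fun x => ⟨MulAut.conj x, hG ⟨x, rfl⟩⟩
  have hι : Function.Injective ι := fun x y h => hinj (congrArg Subtype.val h)
  have hord : ∀ x, orderOf (ι x) = orderOf x := by
    intro x
    rw [← orderOf_injective G.subtype G.subtype_injective, ← orderOf_injective _ hinj x]
    rfl
  have : Fintype S := Fintype.ofFinite S
  let X : Finset ↥G := (Finset.univ.filter fun x : S => orderOf x = 241).image ι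
  have hX : X.card = 5918720 * 240 := by
    rw [Finset.card_image_of_injective _ hι, ← card_order hS, Nat.card_eq_fintype_card, Fintype.card_subtype]
  have hXord : ∀ g ∈ X, orderOf g = 241 := by
    intro g hg
    obtain ⟨x, hx, rfl⟩ := Finset.mem_image.1 hg
    rw [hord]
    exact (Finset.mem_filter.1 hx).2
  have hcen : ∀ g ∈ X, 241 ≤ Nat.card (Subgroup.centralizer {g}) := by
    intro g hg
    have h1 : Subgroup.zpowers g ≤ Subgroup.centralizer {g} := by
      rw [Subgroup.zpowers_le, Subgroup.mem_centralizer_singleton_iff]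
    have h2 := Subgroup.card_le_of_le h1
    rwa [Nat.card_zpowers, hXord g hg] at h2
  have hm : N.index = 1 ∨ N.index = 2 ∨ N.index = 4 ∨ N.index = 8 := by
    have h1 := (Nat.dvd_prime_pow Nat.prime_two (m := 3)).1 (by norm_num; exact hNix)
    obtain ⟨i, hi, h⟩ := h1
    interval_cases i <;> simp_all
  obtain ⟨f, hf1, hf2⟩ := ClsQuot.exists_reps (k := 18 - N.index) X hcen (by
    rw [hX, hGcard]
    rcases hm with h | h | h | h <;> rw [h] <;> norm_num)
  have hfin := ClsQuot.card_regular_ge N (p := 17) (k := 18 - N.index) (fun a b => by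
      rw [hNdef, Subgroup.mem_subgroupOf]
      exact hab a b) (by norm_num) (by
      rcases hm with h | h | h | h <;> rw [h] <;> norm_num) f (fun i => by
      obtain ⟨x, -, hx⟩ := Finset.mem_image.1 (hf1 i)
      rw [← hx, hNdef, Subgroup.mem_subgroupOf]
      exact ⟨x, rfl⟩) (fun i => by rw [hXord _ (hf1 i)]; norm_num) hf2
  refine le_trans ?_ hfin
  rcases hm with h | h | h | h <;> rw [h]

omit [Finite S] [IsSimpleGroup S] in
/-- transport of the structure of `Out` -/
theorem transport {T : Type*} [Group T] (e : S ≃* T)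
    (hab : ∀ a b : MulAut T, a * b * a⁻¹ * b⁻¹ ∈ (MulAut.conj : T →* MulAut T).range)
    (hix : (MulAut.conj : T →* MulAut T).range.index ∣ 8) :
    (∀ a b : MulAut S, a * b * a⁻¹ * b⁻¹ ∈ (MulAut.conj : S →* MulAut S).range) ∧
      (MulAut.conj : S →* MulAut S).range.index ∣ 8 := by
  have hconj : ∀ s : S, MulAut.congr e (MulAut.conj s) = MulAut.conj (e s) := by
    intro s
    ext t
    simp [MulAut.congr]
  have hmap : ((MulAut.conj : S →* MulAut S).range).map (MulAut.congr e).toMonoidHom =
      (MulAut.conj : T →* MulAut T).range := by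
    ext x
    constructor
    · rintro ⟨_, ⟨s, rfl⟩, rfl⟩
      exact ⟨e s, (hconj s).symm⟩
    · rintro ⟨t, rfl⟩
      refine ⟨MulAut.conj (e.symm t), ⟨_, rfl⟩, ?_⟩
      show MulAut.congr e (MulAut.conj (e.symm t)) = _
      rw [hconj, e.apply_symm_apply]
  constructor
  · intro a b
    have h1 := hab (MulAut.congr e a) (MulAut.congr e b)
    rw [← map_inv, ← map_inv, ← map_mul, ← map_mul, ← map_mul, ← hmap] at h1
    obtain ⟨c, hc, hc2⟩ := h1
    have h2 : c = a * b * a⁻¹ * b⁻¹ := (MulAut.congr e).injective hc2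
    rw [← h2]
    exact hc
  · have h1 := Subgroup.index_map_equiv ((MulAut.conj : S →* MulAut S).range) (MulAut.congr e)
    have h2 : ((MulAut.conj : S →* MulAut S).range).map (↑(MulAut.congr e) : MulAut S →* MulAut T) =
      (MulAut.conj : T →* MulAut T).range := hmap
    rw [h2] at h1
    rw [← h1]
    exact hix

theorem out_data {K : Type} [Field K] [Fintype K] (hK : Fintype.card K = 16 ^ 2) :
    (∀ a b : MulAut (PSU 3 K 16), a * b * a⁻¹ * b⁻¹ ∈ (MulAut.conj : PSU 3 K 16 →* MulAut (PSU 3 K 16)).range) ∧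
      (MulAut.conj : PSU 3 K 16 →* MulAut (PSU 3 K 16)).range.index ∣ 8 := by
  have : Fact (Nat.Prime 2) := ⟨Nat.prime_two⟩
  obtain ⟨φ, hs, -, hk⟩ := S2603.result (K := K) (p := 2) (f := 4) (q := 16) (n := 3) (by norm_num) (by norm_num) hK
    (by norm_num) (by norm_num)
  have hk1 : φ.ker = ⊥ := by
    have : Nat.card φ.ker = 1 := by rw [hk]; norm_num
    exact Subgroup.card_eq_one.1 this
  have hinj : Function.Injective φ := (MonoidHom.ker_eq_bot_iff φ).1 hk1
  constructor
  · intro a b
    rw [← QuotientGroup.eq_one_iff (N := Inn (PSU 3 K 16))]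
    apply hinj
    have h1 : ((a * b * a⁻¹ * b⁻¹ : MulAut (PSU 3 K 16)) : Out (PSU 3 K 16)) =
      (a : Out (PSU 3 K 16)) * (b : Out (PSU 3 K 16)) * (a : Out (PSU 3 K 16))⁻¹ * (b : Out (PSU 3 K 16))⁻¹ := rfl
    rw [h1, map_mul, map_mul, map_mul, map_one, map_inv, map_inv, mul_comm (φ a) (φ b), mul_inv_cancel_right,
      mul_inv_cancel]
  · have h1 : Nat.card (Out (PSU 3 K 16)) = 8 := by
      rw [Nat.card_congr (Equiv.ofBijective φ ⟨hinj, hs⟩)]
      show Nat.card (ZMod (2 * 4)) = 8
      rw [Nat.card_zmod]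
    have h2 : (MulAut.conj : PSU 3 K 16 →* MulAut (PSU 3 K 16)).range.index = Nat.card (Out (PSU 3 K 16)) := rfl
    rw [h2, h1]

/-- **S4883 for `PSU₃(16)`, `p = 17`.** -/
theorem main {K : Type} [Field K] [Fintype K] (hK : Fintype.card K = 16 ^ 2) (e : S ≃* PSU 3 K 16)
    (G : Subgroup (MulAut S)) (hG : (MulAut.conj : S →* MulAut S).range ≤ G) :
    17 ≤ Nat.card {c : ConjClasses ↥G // ∃ g : ↥G, ConjClasses.mk g = c ∧ ¬ 17 ∣ orderOf g} := by
  have h1 := transport e (out_data hK).1 (out_data hK).2
  refine main_aux ?_ h1.1 h1.2 G hG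
  have h2 := HKS.EndOrd.card_psu_three (F := K) (t := 15) (by rw [hK])
  rw [Nat.card_congr e.toEquiv]
  norm_num at h2
  exact h2

end Cfsg.Agent.H700.SUThree16
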